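import Cfsg.Agent.Lib.Recognition.ThreeSym.Frame

/-!
The named elements of a frame and the stabilizer of `D`.
-/

set_option autoImplicit false
set_option linter.style.haveILetI false
set_option maxRecDepth 10000
set_option synthInstance.maxSize 2000
set_option synthInstance.maxHeartbeats 400000

namespace CfsgLib.ThreeSym

open Subgroup Equiv CfsgLib.ThreeEight

variable {G : Type*} [Group G]

theorem stab_iff : ∀ l : P35, ((∃ x, l * sP * l⁻¹ = nine x) → ∀ x, ∃ x', l * nine x * l⁻¹ = nine x') := by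
  intro l hl x
  obtain ⟨hs, hz, -⟩ := stab_conj l hl
  have e : nine x = zP ^ x.1.val * sP ^ x.2.val := by
    apply Prod.ext <;> simp [nine, zP, sP]
  have hn : ∀ (p q : Fin 3), ∀ a ∈ ([zP, zP⁻¹] : List P35), ∀ b ∈ ([sP, sP⁻¹] : List P35),
      ∃ x, a ^ p.val * b ^ q.val = nine x := by decide +kernel
  rw [e, ← conj_mul, ← conj_pow, ← conj_pow]
  exact hn _ _ _ (by simp [hz]) _ (by simp [hs])

theorem ord_facts : uP ≠ 1 ∧ aP ≠ 1 ∧ bP ≠ 1 ∧ a'P ≠ 1 ∧ vP ≠ 1 ∧ zP ≠ 1 ∧ sP ≠ 1 := by decide +kernel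

namespace Frame

variable (F : Frame G)

/-- `z`. -/
def Z : G := F.i zP
/-- `s`. -/
def S : G := F.i sP
/-- `u`. -/
def U : G := F.i uP
/-- `a`. -/
def A : G := F.i aP
/-- `b`. -/
def B : G := F.i bP
/-- `a'`. -/
def A' : G := F.i a'P
/-- `v'`. -/
def V' : G := F.i vP
/-- `v`. -/
def V : G := F.τ F.V'

theorem τ_Z : F.τ F.Z = F.S := F.h_z
theorem τ_S : F.τ F.S = F.Z := F.h_s
theorem τ_U : F.τ F.U = F.U := F.h_u

theorem orderOf_i {l : P35} (h2 : l * l = 1) (h1 : l ≠ 1) : orderOf (F.i l) = 2 :=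
  orderOf_eq_prime (by rw [pow_two, ← map_mul, h2, map_one])
    (fun e => h1 (F.inj (e.trans (map_one F.i).symm)))

theorem orderOf_i_three {l : P35} (h3 : l ^ 3 = 1) (h1 : l ≠ 1) : orderOf (F.i l) = 3 :=
  orderOf_eq_prime (by rw [← map_pow, h3, map_one])
    (fun e => h1 (F.inj (e.trans (map_one F.i).symm)))

theorem orderOf_τ (g : G) : orderOf (F.τ g) = orderOf g := by rw [τ_eq, orderOf_conj']

theorem U_ord : orderOf F.U = 2 := F.orderOf_i rels.2.2.1 ord_facts.1
theorem A_ord : orderOf F.A = 2 := F.orderOf_i rels.2.2.2.1 ord_facts.2.1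
theorem A'_ord : orderOf F.A' = 2 := F.orderOf_i rels.2.2.2.2.2.1 ord_facts.2.2.2.1
theorem V'_ord : orderOf F.V' = 2 := F.orderOf_i rels.2.2.2.2.2.2.1 ord_facts.2.2.2.2.1
theorem V_ord : orderOf F.V = 2 := by rw [V, orderOf_τ, V'_ord]
theorem Z_ord : orderOf F.Z = 3 := F.orderOf_i_three rels.1 ord_facts.2.2.2.2.2.1
theorem S_ord : orderOf F.S = 3 := F.orderOf_i_three rels.2.1 ord_facts.2.2.2.2.2.2

theorem mul_self {g : G} (h : orderOf g = 2) : g * g = 1 := by
  rw [← pow_two, ← h, pow_orderOf_eq_one]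

theorem inv_eq {g : G} (h : orderOf g = 2) : g⁻¹ = g := inv_eq_of_mul_eq_one_right (mul_self h)

theorem eq_mul_U : F.A' = F.B * F.U := by rw [A', B, U, ← map_mul, rels.2.2.2.2.2.2.2.2.1]

/-- The elements carrying `D` to itself. -/
def IsStab (g : G) : Prop := ∀ x, ∃ x', g * F.i (nine x) * g⁻¹ = F.i (nine x')

theorem isStab_i {l : P35} (hl : ∃ x, l * sP * l⁻¹ = nine x) : F.IsStab (F.i l) := fun x => by
  obtain ⟨x', hx'⟩ := stab_iff l hl x
  exact ⟨x', by rw [← map_conj, hx']⟩

theorem isStab_h : F.IsStab F.h := fun x => ⟨(x.2, x.1), by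
  have e : ∀ x : Fin 3 × Fin 3, nine x = zP ^ x.1.val * sP ^ x.2.val := fun x => by
    apply Prod.ext <;> simp [nine, zP, sP]
  rw [← τ_eq, e, e, map_mul, map_mul, map_pow, map_pow, map_pow, map_pow, τ_mul, τ_pow, τ_pow,
    show F.τ (F.i zP) = F.i sP from F.h_z, show F.τ (F.i sP) = F.i zP from F.h_s]
  exact ((F.commute_i (by decide +kernel : sP * zP = zP * sP)).pow_pow _ _).eq⟩

theorem IsStab.mul {g g' : G} (hg : F.IsStab g) (hg' : F.IsStab g') : F.IsStab (g * g') := fun x => by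
  obtain ⟨x', hx'⟩ := hg' x
  obtain ⟨x'', hx''⟩ := hg x'
  exact ⟨x'', by rw [← hx'', ← hx']; group⟩

/-- The stabilizer of `D` centralizes `u`. -/
theorem commute_U_of_isStab [Finite G] {g : G} (hg : F.IsStab g) : Commute g F.U := by
  have key : ∀ l, F.IsStab (F.i l) → Commute (F.i l) F.U := fun l hl => by
    obtain ⟨x, hx⟩ := hl (0, 1)
    rw [nine_zP.2.1, ← map_conj] at hx
    exact F.commute_i (stab_conj l ⟨x, F.inj hx⟩).2.2
  have hh : Commute F.h F.U := by
    have e := F.τ_U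
    rw [τ_eq, mul_inv_eq_iff_eq_mul] at e
    exact e
  rcases F.normal_D hg with ⟨l, rfl⟩ | ⟨l, hl⟩
  · exact key l hg
  · subst hl
    refine hh.mul_left (key l ?_)
    have := F.isStab_h.mul F hg
    rwa [← mul_assoc, F.h_sq, one_mul] at this

/-- The elements carrying `D` to itself are `144`. -/
theorem card_isStab [Finite G] : Nat.card {g : G // F.IsStab g} = 144 := by
  let T : Finset P35 := Finset.univ.filter fun l : P35 => ∃ x, l * sP * l⁻¹ = nine x
  have hT : ∀ l : T, ∃ x, (l : P35) * sP * (l : P35)⁻¹ = nine x := fun l => (Finset.mem_filter.1 l.2).2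
  have hb : Function.Bijective fun p : T × Fin 2 => (⟨F.h ^ p.2.val * F.i (p.1 : P35), by
      obtain ⟨l, j⟩ := p
      fin_cases j
      · simpa using F.isStab_i (hT l)
      · simpa using F.isStab_h.mul F (F.isStab_i (hT l))⟩ : {g : G // F.IsStab g}) := by
    have hne : ∀ l m : T, F.h * F.i (l : P35) ≠ F.i (m : P35) := fun l m e => by
      have hh : F.h = F.i ((m : P35) * (l : P35)⁻¹) := by rw [map_mul, map_inv, ← e]; group
      have h1 := F.h_z
      rw [hh, ← map_mul, ← map_mul] at h1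
      have hw : ((m : P35) * (l : P35)⁻¹) * ((m : P35) * (l : P35)⁻¹) = 1 :=
        F.inj (by rw [map_mul, ← hh, F.h_sq, map_one])
      have key : ∀ w : P35, w * w = 1 → w * zP * w ≠ sP := by decide +kernel
      exact key _ hw (F.inj h1)
    refine ⟨?_, ?_⟩
    · rintro ⟨l, j⟩ ⟨m, k⟩ e
      have e' := congrArg Subtype.val e
      simp only [] at e'
      fin_cases j <;> fin_cases k <;> simp only [Nat.succ_eq_add_one, pow_zero, one_mul, pow_one,
        zero_add, Fin.zero_eta, Fin.val_zero, Fin.mk_one, Fin.val_one] at e'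
      · exact Prod.ext (Subtype.ext (F.inj e')) rfl
      · exact absurd e'.symm (hne m l)
      · exact absurd e' (hne l m)
      · exact Prod.ext (Subtype.ext (F.inj (mul_left_cancel e'))) rfl
    · rintro ⟨g, hg⟩
      have hm : ∀ l, F.IsStab (F.i l) → l ∈ T := fun l hl => by
        obtain ⟨x, hx⟩ := hl (0, 1)
        rw [nine_zP.2.1, ← map_conj] at hx
        exact Finset.mem_filter.2 ⟨Finset.mem_univ _, x, F.inj hx⟩
      rcases F.normal_D hg with ⟨l, hl⟩ | ⟨l, hl⟩
      · subst hl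
        exact ⟨(⟨l, hm l hg⟩, 0), Subtype.ext (by simp)⟩
      · subst hl
        have := F.isStab_h.mul F hg
        rw [← mul_assoc, F.h_sq, one_mul] at this
        exact ⟨(⟨l, hm l this⟩, 1), Subtype.ext (by simp)⟩
  rw [← Nat.card_eq_of_bijective _ hb, Nat.card_prod, Nat.card_eq_fintype_card, Fintype.card_coe,
    Nat.card_eq_fintype_card, Fintype.card_fin, card_stab]

/-- The centralizers of the nine elements have orders 36, 360 or that of the group. -/
theorem card_centralizer_nine [Finite G] {x : Fin 3 × Fin 3} (hx : x ≠ (0, 0)) :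
    Nat.card (centralizer ({F.i (nine x)} : Set G)) = 36 ∨
      Nat.card (centralizer ({F.i (nine x)} : Set G)) = 360 := by
  by_cases h : x.1 ≠ 0 ∧ x.2 ≠ 0
  · exact Or.inl (F.card_centralizer_off h.1 h.2)
  · right
    have key : ∀ x : Fin 3 × Fin 3, ¬ (x.1 ≠ 0 ∧ x.2 ≠ 0) → x ≠ (0, 0) →
        nine x = zP ∨ nine x = zP⁻¹ ∨ nine x = sP ∨ nine x = sP⁻¹ := by decide +kernel
    rcases key x h hx with e | e | e | e <;>
      simp only [e, map_inv, centralizer_inv, F.card_centralizer_z, F.card_centralizer_s]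

/-- An element centralizing `u` and one of the nine elements carries `D` to itself. -/
theorem isStab_of_commute [Finite G] {g : G} (hu : Commute g F.U) {x : Fin 3 × Fin 3} (hx : x ≠ (0, 0))
    (hg : Commute g (F.i (nine x))) : F.IsStab g := by
  by_cases h : x.1 ≠ 0 ∧ x.2 ≠ 0
  · exact fun y => F.off_normal h.1 h.2 hg y
  · have key : ∀ x : Fin 3 × Fin 3, ¬ (x.1 ≠ 0 ∧ x.2 ≠ 0) → x ≠ (0, 0) →
        nine x = zP ∨ nine x = zP⁻¹ ∨ nine x = sP ∨ nine x = sP⁻¹ := by decide +kernel
    have hst : ∀ l : P35, l * zP = zP * l → l * uP = uP * l →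
        ∃ x, l * sP * l⁻¹ = nine x := by decide +kernel
    have hzc : ∀ {g : G}, Commute g F.U → Commute g (F.i zP) → F.IsStab g := fun {g} hu hg => by
      obtain ⟨l, rfl, hl⟩ := F.exists_of_commute_z hg
      exact F.isStab_i (hst l hl (F.eq_of_commute hu))
    have hsc : ∀ {g : G}, Commute g F.U → Commute g (F.i sP) → F.IsStab g := fun {g} hu hg => by
      have hc := F.τ_commute hg
      rw [show F.τ (F.i sP) = F.i zP from F.h_s] at hc
      have h1 : F.IsStab (F.τ g) := hzc (F.τ_U ▸ F.τ_commute hu) hc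
      have h2 := (F.isStab_h.mul F h1).mul F F.isStab_h
      have e : F.h * F.τ g * F.h = g := F.τ_τ g
      rwa [e] at h2
    rcases key x h hx with e | e | e | e <;> rw [e] at hg
    · exact hzc hu hg
    · rw [map_inv] at hg; exact hzc hu (Commute.inv_right_iff.1 hg)
    · exact hsc hu hg
    · rw [map_inv] at hg; exact hsc hu (Commute.inv_right_iff.1 hg)

end Frame

end CfsgLib.ThreeSym
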