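import Cfsg.Agent.Lib.Recognition.ThreeSym.Basic
import Cfsg.Agent.Lib.Recognition.Nine.Main
import Cfsg.Agent.Lib.PCore.Basic

/-!
The centralizer of `u`: it normalizes `D` or is an extension of `⟨u⟩` by `S₆`.
-/

set_option autoImplicit false
set_option linter.style.haveILetI false
set_option maxRecDepth 10000
set_option synthInstance.maxSize 2000
set_option synthInstance.maxHeartbeats 400000

namespace CfsgLib.ThreeSym

open Subgroup Equiv CfsgLib.ThreeEight

variable {G : Type*} [Group G]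

namespace Frame

variable (F : Frame G)

/-- `C(u)/⟨u⟩` is the symmetric group of degree six. -/
structure Six where
  ψ : centralizer ({F.U} : Set G) →* Perm (Fin 6)
  surj : Function.Surjective ψ
  ker : ∀ g, ψ g = 1 ↔ (g : G) = 1 ∨ (g : G) = F.U

/-- The centralizer of `u` normalizes `D` or is an extension of `⟨u⟩` by `S₆`. -/
theorem six_or_normal [Finite G] : (∀ g, Commute g F.U → F.IsStab g) ∨ Nonempty F.Six := by
  classical
  haveI : Fact (Nat.Prime 3) := ⟨Nat.prime_three⟩
  obtain ⟨P, hP⟩ := F.sylow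
  set C := centralizer ({F.U} : Set G)
  have hC : ∀ {g : G}, g ∈ C ↔ Commute g F.U := mem_centralizer_singleton_iff
  have hDC : ∀ x, Commute (F.i (nine x)) F.U := fun x =>
    F.commute_i ((by decide +kernel : ∀ x, nine x * uP = uP * nine x) x)
  have hPC : (P : Subgroup G) ≤ C := fun g hg => by
    obtain ⟨x, rfl⟩ := (hP g).1 hg
    exact hC.2 (hDC x)
  let u' : C := ⟨F.U, hC.2 (Commute.refl _)⟩
  set Z : Subgroup C := zpowers u'
  haveI : Z.Normal := ⟨fun n hn g => by
    obtain ⟨j, rfl⟩ := hn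
    have hc : Commute g (u' ^ j) := Commute.zpow_right (Subtype.ext (hC.1 g.2).eq) j
    rw [hc.eq, mul_inv_cancel_right]
    exact zpow_mem_zpowers _ _⟩
  have hu' : orderOf u' = 2 := by rw [orderOf_mk, F.U_ord]
  have hZ : ∀ {g : C}, g ∈ Z → (g : G) = 1 ∨ (g : G) = F.U := by
    rintro g ⟨j, rfl⟩
    have h2 : u' ^ (2 : ℤ) = 1 := by
      rw [show (2 : ℤ) = ((2 : ℕ) : ℤ) from rfl, zpow_natCast, ← hu', pow_orderOf_eq_one]
    show ((u' ^ j : C) : G) = 1 ∨ ((u' ^ j : C) : G) = F.U
    rw [zpow_eq_zpow_emod j h2]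
    rcases (show j % 2 = 0 ∨ j % 2 = 1 by omega) with e | e <;> rw [e] <;> simp [u']
  have hmod : ∀ {g g' : C}, (g : C ⧸ Z) = (g' : C ⧸ Z) → (g' : G) = g ∨ (g' : G) = g * F.U := by
    intro g g' e
    rcases hZ (QuotientGroup.eq.1 e) with e | e
    · left
      simpa [inv_mul_eq_one, eq_comm] using e
    · right
      rw [← e]; simp
  let π : C →* C ⧸ Z := QuotientGroup.mk' Z
  have hπ : Function.Surjective π := QuotientGroup.mk'_surjective Z
  let nd : Fin 3 × Fin 3 → C := fun x => ⟨F.i (nine x), hC.2 (hDC x)⟩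
  set S : Subgroup (C ⧸ Z) := ((P.subtype hPC).mapSurjective hπ).toSubgroup with hS
  have hmemS : ∀ q, q ∈ S ↔ ∃ x, q = π (nd x) := fun q => by
    rw [hS, Sylow.coe_mapSurjective, Subgroup.mem_map]
    constructor
    · rintro ⟨g, hg, rfl⟩
      obtain ⟨x, hx⟩ := (hP g).1 (mem_subgroupOf.1 hg)
      exact ⟨x, congrArg π (Subtype.ext hx)⟩
    · rintro ⟨x, rfl⟩
      exact ⟨nd x, mem_subgroupOf.2 ((hP _).2 ⟨x, rfl⟩), rfl⟩
  have hinj : Function.Injective fun x => π (nd x) := fun x y e => by
    apply nine_injective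
    rcases hmod e with e | e
    · exact (F.inj e).symm
    · exfalso
      have e' : nine y = nine x * uP := F.inj (by rw [map_mul]; exact e)
      have key : ∀ x y, nine y ≠ nine x * uP := by decide +kernel
      exact key x y e'
  have hcard : Nat.card S = 9 := by
    have hb : Function.Bijective fun x => (⟨π (nd x), (hmemS _).2 ⟨x, rfl⟩⟩ : S) :=
      ⟨fun x y e => hinj (congrArg Subtype.val e), fun q => by
        obtain ⟨x, hx⟩ := (hmemS _).1 q.2
        exact ⟨x, Subtype.ext hx.symm⟩⟩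
    rw [← Nat.card_eq_of_bijective _ hb]
    simp
  -- lifting conjugation
  have hlift : ∀ (g : C) (x y : Fin 3 × Fin 3), π g * π (nd x) * (π g)⁻¹ = π (nd y) →
      (g : G) * F.i (nine x) * (g : G)⁻¹ = F.i (nine y) := by
    intro g x y e
    rw [← map_inv, ← map_mul, ← map_mul] at e
    rcases hmod e.symm with e | e
    · exact e
    · exfalso
      have h3 : ∀ y, nine y ^ 3 = 1 := by decide +kernel
      have h' : ((g : G) * F.i (nine x) * (g : G)⁻¹) ^ 3 = 1 := by
        rw [conj_pow, ← map_pow, h3, map_one, mul_one, mul_inv_cancel]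
      rw [show (g : G) * F.i (nine x) * (g : G)⁻¹ = F.i (nine y) * F.U from e, Frame.U, ← map_mul,
        ← map_pow] at h'
      have hne : ∀ y, (nine y * uP) ^ 3 ≠ 1 := by decide +kernel
      exact hne y (F.inj (h'.trans (map_one F.i).symm))
  have hnorm : ∀ g : C, π g ∈ normalizer (S : Set (C ⧸ Z)) ↔ F.IsStab g := by
    intro g
    constructor
    · intro h x
      obtain ⟨y, hy⟩ := (hmemS _).1 ((mem_normalizer_iff.1 h _).1 ((hmemS _).2 ⟨x, rfl⟩))
      exact ⟨y, hlift g x y hy⟩
    · intro h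
      refine Subgroup.mem_normalizer_fintype fun q hq => ?_
      obtain ⟨x, rfl⟩ := (hmemS q).1 hq
      obtain ⟨y, hy⟩ := h x
      exact (hmemS _).2 ⟨y, by
        rw [← map_inv, ← map_mul, ← map_mul]
        exact congrArg π (Subtype.ext hy)⟩
  have hH : CfsgLib.ThreeNine.Hyp S := by
    refine ⟨hcard, fun q hq => ?_, ?_, fun q hq h1 => ?_, _, hS.symm⟩
    · obtain ⟨x, rfl⟩ := (hmemS q).1 hq
      rw [← map_pow]
      convert map_one π
      apply Subtype.ext
      show F.i (nine x) ^ 3 = 1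
      rw [← map_pow, (by decide +kernel : ∀ x, nine x ^ 3 = 1) x, map_one]
    · refine le_antisymm (fun q hq => ?_) fun q hq => ?_
      · obtain ⟨g, rfl⟩ := hπ q
        have hc : ∀ x, (g : G) * F.i (nine x) * (g : G)⁻¹ = F.i (nine x) := fun x => hlift g x x (by
          rw [← mem_centralizer_iff.1 hq _ ((hmemS _).2 ⟨x, rfl⟩), mul_inv_cancel_right])
        obtain ⟨x, k, hk⟩ := F.cent_zs (g := (g : G))
          (by rw [← nine_zP.1]; exact mul_inv_eq_iff_eq_mul.1 (hc (1, 0)))
          (by rw [← nine_zP.2.1]; exact mul_inv_eq_iff_eq_mul.1 (hc (0, 1)))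
        refine (hmemS _).2 ⟨x, ?_⟩
        have e : g = nd x * u' ^ k.val := Subtype.ext (by simpa [nd, u', Frame.U] using hk)
        rw [e, map_mul, show π (u' ^ k.val) = 1 from
          (QuotientGroup.eq_one_iff _).2 (pow_mem (mem_zpowers u') _), mul_one]
      · obtain ⟨x, rfl⟩ := (hmemS q).1 hq
        refine mem_centralizer_iff.2 fun r hr => ?_
        obtain ⟨y, rfl⟩ := (hmemS r).1 hr
        rw [← map_mul, ← map_mul]
        congr 1
        apply Subtype.ext
        show F.i (nine y) * F.i (nine x) = F.i (nine x) * F.i (nine y)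
        rw [← map_mul, ← map_mul, nine_mul, nine_mul, add_comm]
    · obtain ⟨x, rfl⟩ := (hmemS q).1 hq
      intro r hr
      obtain ⟨g, rfl⟩ := hπ r
      refine (hnorm g).2 (F.isStab_of_commute (hC.1 g.2) (x := x) ?_ ?_)
      · rintro rfl
        apply h1
        convert map_one π
        apply Subtype.ext
        show F.i (nine (0, 0)) = 1
        rw [show nine (0, 0) = 1 by decide +kernel, map_one]
      · exact mul_inv_eq_iff_eq_mul.1 (hlift g x x (by
          rw [mem_centralizer_singleton_iff.1 hr, mul_inv_cancel_right]))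
  by_cases hn : S.Normal
  · left
    intro g hg
    exact (hnorm ⟨g, hC.2 hg⟩).1 (by rw [normalizer_eq_top_iff.2 hn]; exact mem_top _)
  right
  have hst : ∀ {g : G}, F.IsStab g → g ∈ C := fun hg => hC.2 (F.commute_U_of_isStab hg)
  have hb : F.IsStab F.B := F.isStab_i (by decide +kernel)
  have hhb : F.IsStab (F.h * F.B) := F.isStab_h.mul F hb
  have hi : ∀ l x y, l * nine x * l⁻¹ = nine y → F.i l * F.i (nine x) * (F.i l)⁻¹ = F.i (nine y) :=
    fun l x y e => by rw [← map_conj, e]
  have hcardN : Nat.card (normalizer (S : Set (C ⧸ Z))) = 72 := by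
    have e : Nat.card ((normalizer (S : Set (C ⧸ Z))).comap π) = 144 := by
      rw [← F.card_isStab]
      refine Nat.card_congr
        { toFun := fun g => ⟨((g : C) : G), (hnorm _).1 g.2⟩
          invFun := fun g => ⟨⟨g.1, hst g.2⟩, (hnorm _).2 g.2⟩
          left_inv := fun g => rfl
          right_inv := fun g => rfl }
    rw [CfsgLib.PCore.card_comap_mk', Nat.card_zpowers, hu'] at e
    omega
  have cj : ∀ {g : G} (hg : g ∈ C) {x y : Fin 3 × Fin 3}, g * F.i (nine x) * g⁻¹ = F.i (nine y) →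
      π ⟨g, hg⟩ * π (nd x) * (π ⟨g, hg⟩)⁻¹ = π (nd y) := by
    intro g hg x y e
    rw [← map_inv, ← map_mul, ← map_mul]
    exact congrArg π (Subtype.ext e)
  have hinv : ∀ x, π (nd (-x)) = (π (nd x))⁻¹ := fun x => by
    rw [← map_inv]
    congr 1
    apply Subtype.ext
    show F.i (nine (-x)) = (F.i (nine x))⁻¹
    rw [← map_inv, (by decide +kernel : ∀ x, nine (-x) = (nine x)⁻¹) x]
  have hB : ∀ x : Fin 3 × Fin 3, bP * nine x * bP⁻¹ = nine (x.1, -x.2) := by decide +kernel
  have hHB : ∀ x, F.h * F.B * F.i (nine x) * (F.h * F.B)⁻¹ = F.i (nine (-x.2, x.1)) := by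
    intro x
    have e1 : F.h * F.B * F.i (nine x) * (F.h * F.B)⁻¹ = F.τ (F.i (nine (x.1, -x.2))) := by
      rw [τ_eq, ← hi bP x _ (hB x)]
      show F.h * F.i bP * F.i (nine x) * (F.h * F.i bP)⁻¹ = _
      group
    obtain ⟨y, hy⟩ := F.isStab_h (x.1, -x.2)
    rw [← τ_eq] at hy
    have e : ∀ x : Fin 3 × Fin 3, nine x = zP ^ x.1.val * sP ^ x.2.val := fun x => by
      apply Prod.ext <;> simp [nine, zP, sP]
    rw [e1, e, e, map_mul, map_mul, map_pow, map_pow, map_pow, map_pow, τ_mul, τ_pow, τ_pow,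
      show F.τ (F.i zP) = F.i sP from F.h_z, show F.τ (F.i sP) = F.i zP from F.h_s]
    exact ((F.commute_i (by decide +kernel : sP * zP = zP * sP)).pow_pow _ _).eq
  have hcoord : CfsgLib.ThreeNine.Coord S (π (nd (1, 0))) (π (nd (0, 1)))
      (π ⟨F.B, hst hb⟩) (π ⟨F.h * F.B, hst hhb⟩) :=
    { ha := (hmemS _).2 ⟨_, rfl⟩
      hb := (hmemS _).2 ⟨_, rfl⟩
      ha1 := fun e => by
        have := hinj (a₁ := (1, 0)) (a₂ := (0, 0)) (e.trans (by
          convert (map_one π).symm
          apply Subtype.ext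
          show F.i (nine (0, 0)) = 1
          rw [show nine (0, 0) = 1 by decide +kernel, map_one]))
        simp at this
      hf := (hnorm _).2 hb
      hr := (hnorm _).2 hhb
      f2 := by
        rw [← map_mul]
        convert map_one π
        apply Subtype.ext
        show F.i bP * F.i bP = 1
        rw [← map_mul, rels.2.2.2.2.1, map_one]
      fa := by
        refine cj _ (hi bP _ _ ?_)
        rw [hB]; rfl
      fb := by
        rw [← hinv]
        refine cj _ (hi bP _ _ ?_)
        rw [hB]; rfl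
      ra := by
        refine cj _ ?_
        rw [hHB]; rfl
      rb := by
        rw [← hinv]
        refine cj _ ?_
        rw [hHB]; rfl
      cardN := hcardN }
  obtain ⟨e⟩ := CfsgLib.ThreeNine.Coord.nonempty_equiv_perm_six hH hcoord hn
  refine ⟨⟨e.toMonoidHom.comp π, e.surjective.comp hπ, fun g => ?_⟩⟩
  rw [MonoidHom.comp_apply, MulEquiv.coe_toMonoidHom, EmbeddingLike.map_eq_one_iff]
  constructor
  · exact fun h => hZ ((QuotientGroup.eq_one_iff g).1 h)
  · rintro (h | h)
    · rw [show g = 1 from Subtype.ext h, map_one]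
    · exact (QuotientGroup.eq_one_iff g).2 (by rw [show g = u' from Subtype.ext h]; exact mem_zpowers _)

end Frame

end CfsgLib.ThreeSym
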