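import Cfsg.Agent.Lib.Involutions.BrauerSuzuki
import Cfsg.Agent.Lib.PCore.Basic
import Mathlib.GroupTheory.Transfer
import Mathlib.GroupTheory.FixedPointFree

/-!
An involution which is isolated modulo a central involution, in a centralizer with trivial odd core.
-/

set_option autoImplicit false
set_option linter.style.haveILetI false

namespace CfsgLib.ThreeSym

open Subgroup

variable {G : Type*} [Group G] [Finite G]

/-- An involution acting without fixed points on a group of odd order inverts it. -/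
theorem conj_eq_inv_of_fixedPointFree {R : Subgroup G} {c : G} (hc : c * c = 1)
    (hR : ∀ r ∈ R, c * r * c⁻¹ ∈ R) (hfix : ∀ r ∈ R, Commute c r → r = 1) :
    ∀ r ∈ R, c * r * c⁻¹ = r⁻¹ := by
  let φ : R →* R := ((MulAut.conj c).toMonoidHom.comp R.subtype).codRestrict R fun r => hR r r.2
  have hφ : ∀ r : R, ((φ r : R) : G) = c * r * c⁻¹ := fun r => rfl
  have hfp : MonoidHom.FixedPointFree φ := fun r hr => Subtype.ext (hfix r r.2 (by
    have := congrArg Subtype.val hr
    rw [hφ] at this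
    exact mul_inv_eq_iff_eq_mul.1 this))
  have hinv : Function.Involutive φ := fun r => Subtype.ext (by
    rw [hφ, hφ, inv_eq_of_mul_eq_one_right hc]
    calc c * (c * (r : G) * c) * c = c * c * r * (c * c) := by group
      _ = r := by rw [hc, one_mul, mul_one])
  intro r hr
  have := congrArg Subtype.val (congrFun (hfp.coe_eq_inv_of_involutive hinv) ⟨r, hr⟩)
  rw [hφ] at this
  exact this

/-- In a centralizer without odd normal subgroups, an involution isolated modulo the central
involution is central modulo it. -/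
theorem conj_eq_or_of_core {t v : G} (ht : orderOf t = 2) (hv : orderOf v = 2) (hc : Commute v t)
    (hne : v ≠ t)
    (hiso : ∀ g, Commute g t →
      ((g * v * g⁻¹) * v * (g * v * g⁻¹) = v ∨ (g * v * g⁻¹) * v * (g * v * g⁻¹) = v * t) →
      g * v * g⁻¹ = v ∨ g * v * g⁻¹ = v * t)
    (hcore : ∀ R : Subgroup G, Odd (Nat.card R) → (∀ r ∈ R, Commute r t) →
      (∀ g, Commute g t → ∀ r ∈ R, g * r * g⁻¹ ∈ R) → R = ⊥)
    {g : G} (hg : Commute g t) : g * v * g⁻¹ = v ∨ g * v * g⁻¹ = v * t := by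
  classical
  haveI : Fact (Nat.Prime 2) := ⟨Nat.prime_two⟩
  set H := centralizer ({t} : Set G) with hH
  have mem_H : ∀ {g : G}, g ∈ H ↔ Commute g t := mem_centralizer_singleton_iff
  set t' : H := ⟨t, mem_H.2 (Commute.refl t)⟩
  have hot : orderOf t' = 2 := by rw [orderOf_mk, ht]
  have htcen : ∀ x : H, Commute x t' := fun x => Subtype.ext (mem_H.1 x.2).eq
  set Z : Subgroup H := zpowers t'
  haveI : Z.Normal := ⟨fun n hn g => by
    obtain ⟨i, rfl⟩ := hn
    rw [((htcen g).zpow_right i).eq, mul_inv_cancel_right]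
    exact zpow_mem_zpowers _ _⟩
  have ht2 : t' * t' = 1 := by rw [← pow_two, ← hot, pow_orderOf_eq_one]
  have hZ : ∀ {x : H}, x ∈ Z → x = 1 ∨ x = t' := by
    intro x hx
    obtain ⟨i, rfl⟩ := hx
    have h2 : t' ^ (2 : ℤ) = 1 := by
      rw [show (2 : ℤ) = ((2 : ℕ) : ℤ) from rfl, zpow_natCast, pow_two, ht2]
    show t' ^ i = 1 ∨ t' ^ i = t'
    rw [zpow_eq_zpow_emod i h2]
    rcases (show i % 2 = 0 ∨ i % 2 = 1 by omega) with e | e <;> rw [e]
    · exact Or.inl (zpow_zero t')
    · exact Or.inr (zpow_one t')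
  have hmod : ∀ {a b : H}, ((a : H ⧸ Z)) = (b : H ⧸ Z) → (b : G) = a ∨ (b : G) = a * t := by
    intro a b e
    rcases hZ (QuotientGroup.eq.1 e) with e | e
    · exact Or.inl (congrArg Subtype.val (inv_mul_eq_one.1 e).symm)
    · exact Or.inr (congrArg Subtype.val (inv_mul_eq_iff_eq_mul.1 e))
  set v' : H := ⟨v, mem_H.2 hc⟩
  have hvv : v' * v' = 1 := Subtype.ext (by
    show v * v = 1
    rw [← pow_two, ← hv, pow_orderOf_eq_one])
  set u : H ⧸ Z := (v' : H ⧸ Z) with hu
  have hv1 : v ≠ 1 := fun e => by rw [e, orderOf_one] at hv; norm_num at hv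
  have hu1 : u ≠ 1 := fun e => by
    rcases hZ ((QuotientGroup.eq_one_iff v').1 e) with e | e
    exacts [hv1 (congrArg Subtype.val e), hne (congrArg Subtype.val e)]
  have huu : u * u = 1 := by rw [hu, ← QuotientGroup.mk_mul, hvv, QuotientGroup.mk_one]
  have hx2 : ∀ x : H, (x * v' * x⁻¹) * (x * v' * x⁻¹) = 1 := fun x => by
    rw [conj_mul, hvv, mul_one, mul_inv_cancel]
  have hiso' : Cfsg.IsIsolatedInvolution u := by
    refine ⟨orderOf_eq_prime (by rw [pow_two, huu]) hu1, fun q hq => ?_⟩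
    obtain ⟨⟨g, hg⟩, rfl⟩ := QuotientGroup.mk_surjective q
    set x : H := ⟨g, hg⟩ * v' * (⟨g, hg⟩ : H)⁻¹ with hxd
    have hq2 : Commute ((v' : H) : H ⧸ Z) ((x : H) : H ⧸ Z) := by
      rw [hxd]; simp only [QuotientGroup.mk_mul, QuotientGroup.mk_inv]; exact hq
    have hq' : ((v' : H) : H ⧸ Z) = ((x * v' * x : H) : H ⧸ Z) := by
      rw [QuotientGroup.mk_mul, QuotientGroup.mk_mul, hq2.symm.eq, mul_assoc, ← QuotientGroup.mk_mul,
        hxd, hx2, QuotientGroup.mk_one, mul_one]
    have hcases := hiso g (mem_H.1 hg) (hmod hq')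
    show ((x : H) : H ⧸ Z) = (v' : H ⧸ Z)
    rcases hcases with e | e
    · exact congrArg _ (Subtype.ext e)
    · rw [show x = v' * t' from Subtype.ext e, QuotientGroup.mk_mul,
        show ((t' : H) : H ⧸ Z) = 1 from (QuotientGroup.eq_one_iff t').2 (mem_zpowers t'), mul_one]
  have hz := CfsgLib.Involutions.zstar (H ⧸ Z) u hiso' ((⟨g, mem_H.2 hg⟩ : H) : H ⧸ Z)
  set O := Cfsg.pPrimeCore 2 (H ⧸ Z)
  haveI : O.Normal := inferInstance
  have hO : O = ⊥ := by
    have hm : ¬ 2 ∣ Nat.card O := CfsgLib.PCore.not_dvd_card_pPrimeCore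
    set m := Nat.card O with hmdef
    set N₁ : Subgroup H := O.comap (QuotientGroup.mk' Z)
    have hcard : Nat.card N₁ = 2 * m := by
      rw [CfsgLib.PCore.card_comap_mk', Nat.card_zpowers, hot]
    have ht'N : t' ∈ N₁ := by
      show ((t' : H) : H ⧸ Z) ∈ O
      rw [(QuotientGroup.eq_one_iff t').2 (mem_zpowers t')]
      exact one_mem _
    set tN : N₁ := ⟨t', ht'N⟩
    have hcen : ∀ x : N₁, Commute x tN := fun x => Subtype.ext (htcen x).eq
    set T : Subgroup N₁ := zpowers tN
    have hTcard : Nat.card T = 2 := by rw [Nat.card_zpowers, orderOf_mk, hot]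
    have hidx : T.index = m := by
      have := T.card_mul_index
      rw [hTcard, hcard] at this
      omega
    letI : CommGroup T := { (inferInstance : Group T) with
      mul_comm := fun a b => Subtype.ext (by
        obtain ⟨i, hi⟩ := a.2
        obtain ⟨j, hj⟩ := b.2
        show (a : N₁) * b = (b : N₁) * a
        rw [← hi, ← hj]
        exact (Commute.refl tN).zpow_zpow i j) }
    let φ : N₁ →* T := MonoidHom.transfer (MonoidHom.id T)
    have key : ∀ (x : N₁) (k : ℕ) (g₀ : N₁), g₀⁻¹ * x ^ k * g₀ ∈ T → g₀⁻¹ * x ^ k * g₀ = x ^ k := by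
      intro x k g₀ h
      obtain ⟨i, hi⟩ := h
      have e : g₀ * tN ^ i * g₀⁻¹ = tN ^ i := by
        rw [((hcen g₀).zpow_right i).eq, mul_inv_cancel_right]
      calc g₀⁻¹ * x ^ k * g₀ = tN ^ i := hi.symm
        _ = g₀ * (g₀⁻¹ * x ^ k * g₀) * g₀⁻¹ := by rw [← hi]; exact e.symm
        _ = x ^ k := by group
    have hφ : ∀ x : N₁, ((φ x : T) : N₁) = x ^ m := fun x => by
      rw [← hidx]
      exact congrArg Subtype.val (MonoidHom.transfer_eq_pow (MonoidHom.id T) x (key x))
    have hodd : Odd m := Nat.odd_iff.2 (by omega)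
    have hφt : φ tN ≠ 1 := fun e => by
      have h' := congrArg Subtype.val e
      rw [hφ, pow_eq_pow_mod m (show tN ^ 2 = 1 from Subtype.ext (by
        show t' ^ 2 = 1
        rw [pow_two, ht2])), Nat.odd_iff.1 hodd, pow_one] at h'
      have := congrArg (fun x : N₁ => ((x : H) : G)) h'
      change t = 1 at this
      rw [this, orderOf_one] at ht
      norm_num at ht
    have hMcard : Nat.card φ.ker = m := by
      have h1 := φ.ker.card_mul_index
      rw [Subgroup.index_ker] at h1
      have h2 : Nat.card φ.range = 2 := by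
        rcases (Nat.dvd_prime Nat.prime_two).1 (hTcard ▸ φ.range.card_subgroup_dvd_card) with e | e
        · exact absurd ((Subgroup.card_eq_one.1 e).le (show φ tN ∈ φ.range from ⟨tN, rfl⟩)) hφt
        · exact e
      rw [h2, hcard] at h1
      omega
    let R : Subgroup G := φ.ker.map (H.subtype.comp N₁.subtype)
    have hinj : Function.Injective (H.subtype.comp N₁.subtype) :=
      H.subtype_injective.comp N₁.subtype_injective
    have hR : Nat.card R = m := by rw [Subgroup.card_map_of_injective hinj, hMcard]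
    have hRbot := hcore R (hR ▸ hodd) (fun r hr => by
      obtain ⟨x, -, rfl⟩ := hr
      exact mem_H.1 (x : H).2) fun g hg r hr => by
      obtain ⟨x, hx, rfl⟩ := hr
      refine ⟨⟨⟨g, mem_H.2 hg⟩ * (x : H) * (⟨g, mem_H.2 hg⟩ : H)⁻¹,
        (inferInstance : N₁.Normal).conj_mem _ x.2 _⟩, ?_, rfl⟩
      have hxm : (x : H) ^ m = 1 := by
        rw [← Subgroup.coe_pow, ← hφ, show φ x = 1 from hx]; rfl
      refine MonoidHom.mem_ker.2 (Subtype.ext ((hφ _).trans (Subtype.ext ?_)))
      rw [Subgroup.coe_pow, conj_pow, hxm, mul_one, mul_inv_cancel]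
      rfl
    rw [hRbot] at hR
    exact Subgroup.card_eq_one.1 (hmdef ▸ (hR.symm.trans (by simp)))
  rw [hO, Subgroup.mem_bot] at hz
  rw [mul_inv_eq_one] at hz
  exact hmod hz.symm

end CfsgLib.ThreeSym
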