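import Cfsg.Agent.Lib.Recognition.ThreeSym.Coord
import Cfsg.Agent.Lib.Recognition.ThreeSym.CentralPair

/-!
In the exceptional case the centralizers of `a`, of `a a'` and of `u` lie in `(A₅ × A₅).2²`.
-/

set_option autoImplicit false
set_option linter.style.haveILetI false
set_option maxRecDepth 10000
set_option synthInstance.maxSize 2000
set_option synthInstance.maxHeartbeats 400000

namespace CfsgLib.ThreeSym

open Subgroup Equiv CfsgLib.ThreeEight

theorem cent_model :
    (∀ y : Perm (Fin 5), y * a'P.2 = a'P.2 * y → y ^ 8 = 1) ∧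
    (∀ y : Perm (Fin 5), y * y = 1 → Perm.sign y = 1 → y * a'P.2 = a'P.2 * y →
      y = 1 ∨ y = a'P.2 ∨ y = vP.2 ∨ y = a'P.2 * vP.2) ∧
    (∀ k : Perm (Fin 5), Perm.sign k = 1 → k ≠ 1 → k * k ≠ 1 →
      ∃ c : Perm (Fin 5), k * (c * k * c⁻¹) * (k * (c * k * c⁻¹)) = 1 ∧ k * (c * k * c⁻¹) ≠ 1) ∧
    (∀ k : Perm (Fin 5), k ^ 3 = 1 → k ≠ 1 →
      ∃ c : Perm (Fin 5), Perm.sign c = 1 ∧ c * k * c⁻¹ = c₅) ∧
    vP.2 * a'P.2 = a'P.2 * vP.2 ∧ vP.2 * vP.2 = 1 ∧ vP.2 ≠ 1 ∧ vP.2 ≠ a'P.2 ∧ a'P.2 ≠ 1 ∧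
    a'P.2 * a'P.2 = 1 ∧ (swap 3 4 : Perm (Fin 5)) * a'P.2 = a'P.2 * swap 3 4 := by
  decide +kernel

theorem odd_orderOf_mul_self {G : Type*} [Group G] {r : G} (h : Odd (orderOf r)) (e : r * r = 1) :
    r = 1 := by
  rcases (Nat.dvd_prime Nat.prime_two).1 (orderOf_dvd_of_pow_eq_one (pow_two r ▸ e)) with e' | e'
  · exact orderOf_eq_one_iff.1 e'
  · rw [e'] at h
    exact absurd h (by decide)

theorem odd_orderOf_of_mem {G : Type*} [Group G] {R : Subgroup G} (hR : Odd (Nat.card R)) {r : G}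
    (hr : r ∈ R) : Odd (orderOf r) := by
  rw [show orderOf r = orderOf (⟨r, hr⟩ : R) from (Subgroup.orderOf_mk r hr).symm]
  exact hR.of_dvd_nat (orderOf_dvd_natCard _)

namespace Frame

variable {G : Type*} [Group G] [Finite G] {F : Frame G} (hN : F.Narrow)
include hN

theorem Narrow.commute_nu {g g' k k' : Perm (Fin 5)} {h : Perm.sign g = Perm.sign g'}
    {h' : Perm.sign k = Perm.sign k'} :
    Commute (hN.nu (mk55 g g' h)) (hN.nu (mk55 k k' h')) ↔ g * k = k * g ∧ g' * k' = k' * g' := by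
  constructor
  · intro e
    have e' := hN.nu_injective ((map_mul _ _ _).trans (e.eq.trans (map_mul _ _ _).symm))
    exact ⟨congrArg (fun p : L55 => p.1.1) e', congrArg (fun p : L55 => p.1.2) e'⟩
  · rintro ⟨e1, e2⟩
    show _ * _ = _ * _
    rw [← map_mul, ← map_mul]
    exact congrArg hN.nu (Subtype.ext (Prod.ext e1 e2))

theorem Narrow.nu_conj {g g' k k' : Perm (Fin 5)} (h : Perm.sign g = Perm.sign g')
    (h' : Perm.sign k = Perm.sign k') {l l' : Perm (Fin 5)} (hl : Perm.sign l = Perm.sign l')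
    (e1 : g * k * g⁻¹ = l) (e2 : g' * k' * g'⁻¹ = l') :
    hN.nu (mk55 g g' h) * hN.nu (mk55 k k' h') * (hN.nu (mk55 g g' h))⁻¹ = hN.nu (mk55 l l' hl) := by
  rw [← map_inv, ← map_mul, ← map_mul]
  exact congrArg hN.nu (Subtype.ext (Prod.ext e1 e2))

theorem Narrow.U_not_conj_A (g : G) : g * F.U * g⁻¹ ≠ F.A := fun e => by
  refine F.A'_not_conj_U (F.h * g) ?_
  rw [← hN.twisted, τ_eq, ← e]; group

theorem Narrow.A_not_conj_U (g : G) : g * F.A * g⁻¹ ≠ F.U := fun e => by
  refine hN.U_not_conj_A g⁻¹ ?_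
  rw [← e]; group

omit [Finite G] hN in
theorem A_ne_T : F.A * F.A' ≠ F.A := fun e => by
  have := mul_eq_left.1 e
  exact ord_facts.2.2.2.1 (F.inj (this.trans (map_one F.i).symm))

/-- An element of odd order of the big group lies in the base. -/
theorem Narrow.mem_Base_of_odd {r : G} (hr : r ∈ hN.Big) (ho : Odd (orderOf r)) : r ∈ hN.Base := by
  have h2 : r * r ∈ hN.Base := by
    rcases hr with h | h
    · exact mul_mem h h
    · have := mul_mem (hN.τ_mem_Base h) h
      rw [τ] at this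
      simp only [mul_assoc, ← mul_assoc F.h F.h, F.h_sq, one_mul] at this
      exact this
  obtain ⟨k, hk⟩ := ho
  have e : r = (r * r) ^ (k + 1) := by
    rw [← pow_two, ← pow_mul, show 2 * (k + 1) = orderOf r + 1 by omega, pow_succ, pow_orderOf_eq_one,
      one_mul]
  rw [e]
  exact pow_mem h2 _

/-- The involutions of the base. -/
theorem Narrow.class_Base {x : G} (hx : x ∈ hN.Base) (h2 : x * x = 1) (h1 : x ≠ 1) :
    ∃ m ∈ hN.Big, m * F.A * m⁻¹ = x ∨ m * (F.A * F.A') * m⁻¹ = x ∨ m * F.U * m⁻¹ = x := by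
  obtain ⟨k, k', hs, rfl⟩ := hN.mem_Base.1 hx
  have he := hN.nu_injective ((map_mul _ _ _).trans (h2.trans (map_one _).symm))
  have hk : k * k = 1 := congrArg (fun p : L55 => p.1.1) he
  have hk' : k' * k' = 1 := congrArg (fun p : L55 => p.1.2) he
  rcases Int.units_eq_one_or (Perm.sign k) with e | e
  · have e' : Perm.sign k' = 1 := hs ▸ e
    by_cases hk1 : k = 1
    · have hk1' : k' ≠ 1 := fun e'' => h1 (by
        rw [show mk55 k k' hs = 1 from Subtype.ext (Prod.ext hk1 e''), map_one])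
      obtain ⟨c, hc, hc'⟩ := even_invol k' hk' hk1' e'
      refine ⟨hN.nu (mk55 1 c (by rw [hc, map_one])), hN.Base_le_Big ⟨_, rfl⟩, Or.inl ?_⟩
      rw [← hN.nu_A]
      exact hN.nu_conj _ _ _ (by rw [hk1]; group) hc'
    · obtain ⟨c, hc, hcc⟩ := even_invol k hk hk1 e
      by_cases hk1' : k' = 1
      · refine ⟨hN.nu (mk55 c 1 (by rw [hc, map_one])) * F.h,
          mul_mem (hN.Base_le_Big ⟨_, rfl⟩) hN.h_mem_Big, Or.inl ?_⟩
        rw [show hN.nu (mk55 c 1 (by rw [hc, map_one])) * F.h * F.A *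
            (hN.nu (mk55 c 1 (by rw [hc, map_one])) * F.h)⁻¹ = hN.nu (mk55 c 1 (by rw [hc, map_one])) *
            (F.h * F.A * F.h⁻¹) * (hN.nu (mk55 c 1 (by rw [hc, map_one])))⁻¹ by group, ← τ_eq, hN.twisted,
          ← hN.nu_A']
        exact hN.nu_conj _ _ _ hcc (by rw [hk1']; group)
      · obtain ⟨c', hc', hcc'⟩ := even_invol k' hk' hk1' e'
        refine ⟨hN.nu (mk55 c c' (by rw [hc, hc'])), hN.Base_le_Big ⟨_, rfl⟩, Or.inr (Or.inl ?_)⟩
        rw [← hN.nu_T]
        exact hN.nu_conj _ _ _ hcc hcc'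
  · have e' : Perm.sign k' = -1 := hs ▸ e
    obtain ⟨c, hc, hcc⟩ := odd_invol k hk e
    obtain ⟨c', hc', hcc'⟩ := odd_invol k' hk' e'
    refine ⟨hN.nu (mk55 c c' (by rw [hc, hc'])), hN.Base_le_Big ⟨_, rfl⟩, Or.inr (Or.inr ?_)⟩
    rw [← hN.nu_U]
    exact hN.nu_conj _ _ _ hcc hcc'

/-- A conjugate of `a` in the base is not of the second kind, and is even. -/
theorem Narrow.of_conj_A {k k' : Perm (Fin 5)} {hs : Perm.sign k = Perm.sign k'} {g : G}
    (hg : g * F.A * g⁻¹ = hN.nu (mk55 k k' hs)) :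
    k * k = 1 ∧ k' * k' = 1 ∧ Perm.sign k = 1 ∧ (k = 1 ∨ k' = 1) := by
  have h2 : hN.nu (mk55 k k' hs) * hN.nu (mk55 k k' hs) = 1 := by
    rw [← hg, conj_mul, mul_self F.A_ord, mul_one, mul_inv_cancel]
  have he := hN.nu_injective ((map_mul _ _ _).trans (h2.trans (map_one _).symm))
  have hk : k * k = 1 := congrArg (fun p : L55 => p.1.1) he
  have hk' : k' * k' = 1 := congrArg (fun p : L55 => p.1.2) he
  have hsgn : Perm.sign k = 1 := by
    rcases Int.units_eq_one_or (Perm.sign k) with e | e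
    · exact e
    · exfalso
      obtain ⟨c, hc, hcc⟩ := odd_invol k hk e
      obtain ⟨c', hc', hcc'⟩ := odd_invol k' hk' (hs ▸ e)
      rw [← hN.nu_conj (g := c) (g' := c') (by rw [hc, hc']) rfl hs hcc hcc', hN.nu_U] at hg
      refine hN.A_not_conj_U ((hN.nu (mk55 c c' (by rw [hc, hc'])))⁻¹ * g) ?_
      calc _ = (hN.nu (mk55 c c' (by rw [hc, hc'])))⁻¹ * (g * F.A * g⁻¹) *
            hN.nu (mk55 c c' (by rw [hc, hc'])) := by group
        _ = F.U := by rw [hg]; group
  refine ⟨hk, hk', hsgn, ?_⟩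
  by_contra hne
  push Not at hne
  obtain ⟨c, hc, hcc⟩ := even_invol k hk hne.1 hsgn
  obtain ⟨c', hc', hcc'⟩ := even_invol k' hk' hne.2 (hs ▸ hsgn)
  rw [← hN.nu_conj (g := c) (g' := c') (by rw [hc, hc']) rfl hs hcc hcc', hN.nu_T] at hg
  refine hN.not_conj_tau ((hN.nu (mk55 c c' (by rw [hc, hc'])))⁻¹ * g) ?_
  calc _ = (hN.nu (mk55 c c' (by rw [hc, hc'])))⁻¹ * (g * F.A * g⁻¹) *
        hN.nu (mk55 c c' (by rw [hc, hc'])) := by group
    _ = F.A * F.A' := by rw [hg]; group

/-- `C(a, v)` lies in the base. -/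
theorem Narrow.W_le_Base : F.W ≤ hN.Base := by
  classical
  have hfour : ∀ x, Perm.sign (fourP x).2 = 1 := by decide +kernel
  have hfa : ∀ x, (fourP x).2 * a'P.2 = a'P.2 * (fourP x).2 ∧
      (fourP x).2 * vP.2 = vP.2 * (fourP x).2 := by decide +kernel
  have hfi : ∀ x y, (fourP x).2 = (fourP y).2 → x = y := by decide +kernel
  let f : ↥(alternatingGroup (Fin 5)) × (Fin 2 × Fin 2) → F.W := fun p =>
    ⟨hN.nu (mk55 p.1 (fourP p.2).2 (by rw [Equiv.Perm.mem_alternatingGroup.1 p.1.2, hfour])), by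
      rw [mem_W, ← hN.nu_A, ← hN.nu_V]
      exact ⟨hN.commute_nu.2 ⟨by simp, (hfa p.2).1⟩, hN.commute_nu.2 ⟨by simp, (hfa p.2).2⟩⟩⟩
  have hf : Function.Injective f := fun p q e => by
    have e' := hN.nu_injective (congrArg Subtype.val e)
    exact Prod.ext (Subtype.ext (congrArg (fun p : L55 => p.1.1) e'))
      (hfi _ _ (congrArg (fun p : L55 => p.1.2) e'))
  have h240 : Nat.card (↥(alternatingGroup (Fin 5)) × (Fin 2 × Fin 2)) = 240 := by
    rw [Nat.card_prod, nat_card_alternatingGroup, Nat.card_fin 5, Nat.card_prod, Nat.card_fin 2]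
    decide
  have hb : Function.Bijective f := hf.bijective_of_nat_card_le
    (by rw [h240]; exact Nat.le_of_dvd (by norm_num) (F.card_W_dvd hN.twisted))
  intro g hg
  obtain ⟨p, hp⟩ := hb.2 ⟨g, hg⟩
  exact ⟨_, congrArg Subtype.val hp⟩

/-- Elements centralizing `a` and carrying `v` to `v` or `v a` lie in the base. -/
theorem Narrow.mem_Base_of_conj_V {g : G} (ha : Commute g F.A)
    (hv : g * F.V * g⁻¹ = F.V ∨ g * F.V * g⁻¹ = F.V * F.A) : g ∈ hN.Base := by
  rcases hv with e | e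
  · exact hN.W_le_Base (F.mem_W.2 ⟨ha, mul_inv_eq_iff_eq_mul.1 e⟩)
  · have hU : F.U ∈ hN.Base := hN.i_mem_Base _
    have h : F.U * g ∈ F.W := by
      refine F.mem_W.2 ⟨(comm_A_U.symm).mul_left ha, mul_inv_eq_iff_eq_mul.1 ?_⟩
      rw [show F.U * g * F.V * (F.U * g)⁻¹ = F.U * (g * F.V * g⁻¹) * F.U⁻¹ by group, e,
        inv_eq F.U_ord, ← mul_assoc F.U, mul_assoc (F.U * F.V), comm_A_U.eq, ← mul_assoc,
        hN.twisted.U_V_U, mul_assoc, mul_self F.A_ord, mul_one]
    have := mul_mem hU (hN.W_le_Base h)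
    rwa [← mul_assoc, mul_self F.U_ord, one_mul] at this

theorem Narrow.comm_U_mem {r : G} (h : Commute r F.U) : r ∈ hN.Big :=
  hN.stab_mem_Big (hN.normal r h)

theorem Narrow.comm_B_mem {r : G} (h : Commute r F.B) : r ∈ hN.Big := by
  obtain ⟨k, hk⟩ := class_model.2
  have hB : F.i k * F.U * (F.i k)⁻¹ = F.B := by rw [U, B, ← map_conj, hk]
  have h' : Commute ((F.i k)⁻¹ * r * F.i k) F.U := by
    have := (Commute.conj_iff (F.i k)⁻¹).2 h
    rw [← hB, inv_inv] at this
    rwa [show (F.i k)⁻¹ * (F.i k * F.U * (F.i k)⁻¹) * F.i k = F.U by group] at this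
  have hk' : F.i k ∈ hN.Big := hN.Base_le_Big (hN.i_mem_Base k)
  have := mul_mem (mul_mem hk' (hN.comm_U_mem h')) (inv_mem hk')
  rwa [show F.i k * ((F.i k)⁻¹ * r * F.i k) * (F.i k)⁻¹ = r by group] at this

/-- An element of odd order of the base centralizing `a a'` is trivial. -/
theorem Narrow.eq_one_of_odd {r : G} (hr : r ∈ hN.Base) (ho : Odd (orderOf r))
    (hc : Commute r (F.A * F.A')) : r = 1 := by
  obtain ⟨k, k', hs, rfl⟩ := hN.mem_Base.1 hr
  rw [← hN.nu_T] at hc
  obtain ⟨h1, h2⟩ := hN.commute_nu.1 hc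
  have h8 : hN.nu (mk55 k k' hs) ^ 8 = 1 := by
    rw [← map_pow, show mk55 k k' hs ^ 8 = 1 from
      Subtype.ext (Prod.ext (cent_model.1 k h1) (cent_model.1 k' h2)), map_one]
  refine orderOf_eq_one_iff.1 (Nat.eq_one_of_dvd_coprimes ?_ dvd_rfl (orderOf_dvd_of_pow_eq_one h8))
  exact (Nat.Coprime.pow_right 3 (Nat.coprime_two_right.2 ho) : (orderOf _).Coprime (2 ^ 3))

/-- The centralizer of `a` lies in the base. -/
theorem Narrow.centralizer_A_le {g : G} (hg : Commute g F.A) : g ∈ hN.Base := by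
  have hF := hN.twisted
  have hVA : F.V ≠ F.A := fun e => by
    rw [← hN.nu_V, ← hN.nu_A] at e
    exact cent_model.2.2.2.2.2.2.2.1 (congrArg (fun p : L55 => p.1.2) (hN.nu_injective e))
  refine hN.mem_Base_of_conj_V hg
    (conj_eq_or_of_core F.A_ord F.V_ord hF.comm_V_A hVA ?_ ?_ hg)
  · intro g hg hcases
    set x := g * F.V * g⁻¹ with hx
    have hxA : Commute x F.A := by
      have := (Commute.conj_iff g).2 hF.comm_V_A
      rwa [hg.eq, mul_inv_cancel_right] at this
    have hxx : x * x = 1 := by rw [hx, conj_mul, mul_self F.V_ord, mul_one, mul_inv_cancel]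
    have hxB : x ∈ hN.Base := by
      refine hN.mem_Base_of_conj_V hxA ?_
      rwa [inv_eq_of_mul_eq_one_right hxx]
    obtain ⟨k, k', hs, hk⟩ := hN.mem_Base.1 hxB
    obtain ⟨n, hn, hn'⟩ := two_facts.2.2.2.2.2.2.2.1
    have hAV : (F.h * F.i n * F.h) * F.A * (F.h * F.i n * F.h)⁻¹ = F.V := by
      have e3 : F.i n * F.A' * (F.i n)⁻¹ = F.V' := by rw [A', ← map_conj, hn']; rfl
      rw [V, ← e3, ← hF, τ_eq, τ_eq]; group
    have hxA' : (g * (F.h * F.i n * F.h)) * F.A * (g * (F.h * F.i n * F.h))⁻¹ = x := by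
      rw [hx, ← hAV]; group
    obtain ⟨hkk, hkk', hsk, h01⟩ := hN.of_conj_A (hxA'.trans hk.symm)
    rw [← hk, ← hN.nu_A] at hxA
    obtain ⟨-, hka⟩ := hN.commute_nu.1 hxA
    rcases cent_model.2.1 k' hkk' (hs ▸ hsk) hka with rfl | rfl | rfl | rfl
    · exfalso
      by_cases hk1 : k = 1
      · subst hk1
        rw [show mk55 1 1 hs = 1 from rfl, map_one] at hk
        have : F.V = 1 := by
          have e := hk.symm
          rw [hx, mul_inv_eq_one, mul_eq_left] at e
          exact e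
        have ho := F.V_ord
        rw [this, orderOf_one] at ho
        norm_num at ho
      · -- `x a` is conjugate to `v a`, hence to `a`
        have hxa : x * F.A = hN.nu (mk55 k a'P.2 (by rw [hsk, coord_facts.2.2.1])) := by
          rw [← hk, ← hN.nu_A, ← map_mul]
          exact congrArg hN.nu (Subtype.ext (Prod.ext (mul_one k) (one_mul _)))
        have hVA' : F.V * F.A = hN.nu (mk55 1 (vP.2 * a'P.2) (by decide +kernel)) := by
          rw [← hN.nu_V, ← hN.nu_A, ← map_mul]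
          exact congrArg hN.nu (Subtype.ext (Prod.ext (mul_one _) rfl))
        obtain ⟨c, hc, hcc⟩ := even_invol (vP.2 * a'P.2) (by decide +kernel) (by decide +kernel)
          (by decide +kernel)
        have hVAc : hN.nu (mk55 1 c (by rw [hc, map_one])) * F.A *
            (hN.nu (mk55 1 c (by rw [hc, map_one])))⁻¹ = F.V * F.A := by
          rw [hVA', ← hN.nu_A]
          exact hN.nu_conj _ _ _ (by group) hcc
        have hconj : (g * hN.nu (mk55 1 c (by rw [hc, map_one]))) * F.A *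
            (g * hN.nu (mk55 1 c (by rw [hc, map_one])))⁻¹ = x * F.A := by
          calc _ = g * (hN.nu (mk55 1 c (by rw [hc, map_one])) * F.A *
                (hN.nu (mk55 1 c (by rw [hc, map_one])))⁻¹) * g⁻¹ := by group
            _ = g * F.V * g⁻¹ * (g * F.A * g⁻¹) := by rw [hVAc]; group
            _ = x * F.A := by rw [hg.eq, mul_inv_cancel_right, ← hx]
        rcases (hN.of_conj_A (hconj.trans hxa)).2.2.2 with e | e
        exacts [hk1 e, cent_model.2.2.2.2.2.2.2.2.1 e]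
    · exfalso
      rcases h01 with rfl | e
      · apply hVA
        have e : x = F.A := hk.symm.trans hN.nu_A
        calc F.V = g⁻¹ * x * g := by rw [hx]; group
          _ = F.A := by rw [e, mul_assoc, ← hg.eq, inv_mul_cancel_left]
      · exact cent_model.2.2.2.2.2.2.2.2.1 e
    · rcases h01 with rfl | e
      · exact Or.inl (hk.symm.trans hN.nu_V)
      · exact absurd e cent_model.2.2.2.2.2.2.1
    · rcases h01 with rfl | e
      · refine Or.inr (hk.symm.trans ?_)
        rw [← hN.nu_V, ← hN.nu_A, ← map_mul]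
        exact congrArg hN.nu (Subtype.ext (Prod.ext (mul_one _).symm cent_model.2.2.2.2.1.symm))
      · exact absurd e (by decide +kernel)
  · intro R hR hRA hnorm
    have hodd : ∀ r ∈ R, Odd (orderOf r) := fun r hr => odd_orderOf_of_mem hR hr
    have hbase : ∀ r ∈ R, r ∈ hN.Base → r = 1 := by
      intro r hr hrB
      obtain ⟨k, k', hs, e⟩ := hN.mem_Base.1 hrB
      have hc := hRA r hr
      rw [← e, ← hN.nu_A] at hc
      obtain ⟨-, hka⟩ := hN.commute_nu.1 hc
      have hk1' : k' = 1 := by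
        have hd : orderOf k' ∣ orderOf r := by
          refine orderOf_dvd_of_pow_eq_one ?_
          have h' : hN.nu (mk55 k k' hs ^ orderOf r) = hN.nu 1 := by
            rw [map_pow, map_one, e, pow_orderOf_eq_one]
          exact congrArg (fun p : L55 => p.1.2) (hN.nu_injective h')
        refine orderOf_eq_one_iff.1 (Nat.eq_one_of_dvd_coprimes ?_ hd
          (orderOf_dvd_of_pow_eq_one (cent_model.1 k' hka)))
        exact (Nat.Coprime.pow_right 3 (Nat.coprime_two_right.2 (hodd r hr)) :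
          (orderOf r).Coprime (2 ^ 3))
      subst hk1'
      have hsk : Perm.sign k = 1 := by rw [hs, map_one]
      by_contra hr1
      have hk1 : k ≠ 1 := by
        rintro rfl
        exact hr1 (e.symm.trans (map_one hN.nu))
      have hkk : k * k ≠ 1 := fun h => hr1 (odd_orderOf_mul_self (hodd r hr) (by
        rw [← e, ← map_mul, show mk55 k 1 hs * mk55 k 1 hs = 1 from
          Subtype.ext (Prod.ext h (mul_one 1)), map_one]))
      obtain ⟨c, hw, hw1⟩ := cent_model.2.2.1 k hsk hk1 hkk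
      have hcA : Commute (hN.nu (mk55 c (pu c) (sign_pu c))) F.A := by
        rw [← hN.nu_A]
        refine hN.commute_nu.2 ⟨by simp, ?_⟩
        unfold pu
        split
        · simp
        · exact cent_model.2.2.2.2.2.2.2.2.2.2
      have hsw : Perm.sign (k * (c * k * c⁻¹)) = Perm.sign (1 : Perm (Fin 5)) := by
        rw [map_mul, map_mul, map_mul, map_inv, hsk, map_one, mul_one, one_mul, mul_inv_cancel]
      have hmem : hN.nu (mk55 (k * (c * k * c⁻¹)) 1 hsw) ∈ R := by
        have h2 := mul_mem hr (hnorm _ hcA r hr)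
        have ec : hN.nu (mk55 c (pu c) (sign_pu c)) * r * (hN.nu (mk55 c (pu c) (sign_pu c)))⁻¹ =
            hN.nu (mk55 (c * k * c⁻¹) 1 (by
              rw [map_mul, map_mul, map_inv, hsk, map_one, mul_one, mul_inv_cancel])) := by
          rw [← e]
          exact hN.nu_conj _ _ _ rfl (by group)
        rw [ec, ← e, ← map_mul] at h2
        rw [show mk55 (k * (c * k * c⁻¹)) 1 hsw = mk55 k 1 hs * mk55 (c * k * c⁻¹) 1 (by
          rw [map_mul, map_mul, map_inv, hsk, map_one, mul_one, mul_inv_cancel]) from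
          Subtype.ext (Prod.ext rfl (mul_one 1).symm)]
        exact h2
      have h1 := odd_orderOf_mul_self (hodd _ hmem) (by
        rw [← map_mul, show mk55 _ 1 hsw * mk55 _ 1 hsw = 1 from Subtype.ext (Prod.ext hw (mul_one 1)),
          map_one])
      exact hw1 (congrArg (fun p : L55 => p.1.1) (hN.nu_injective (h1.trans (map_one _).symm)))
    have hBA : Commute F.B F.A := F.commute_i (by decide +kernel)
    have hBB : F.B * F.B = 1 := by rw [B, ← map_mul, rels.2.2.2.2.1, map_one]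
    have hU := conj_eq_inv_of_fixedPointFree (R := R) (mul_self F.U_ord)
      (hnorm _ comm_A_U.symm) fun r hr hc =>
        hbase r hr (hN.mem_Base_of_odd (hN.comm_U_mem hc.symm) (hodd r hr))
    have hB := conj_eq_inv_of_fixedPointFree (R := R) hBB
      (hnorm _ hBA) fun r hr hc =>
        hbase r hr (hN.mem_Base_of_odd (hN.comm_B_mem hc.symm) (hodd r hr))
    have hA' : ∀ r ∈ R, Commute F.A' r := fun r hr => by
      refine mul_inv_eq_iff_eq_mul.1 ?_
      rw [eq_mul_U, show F.B * F.U * r * (F.B * F.U)⁻¹ = F.B * (F.U * r * F.U⁻¹) * F.B⁻¹ by group,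
        hU r hr, hB _ (inv_mem hr), inv_inv]
    obtain ⟨n, hn, hn'⟩ := two_facts.2.2.2.2.2.2.2.1
    have e3 : F.i n * F.A' * (F.i n)⁻¹ = F.V' := by rw [A', ← map_conj, hn']; rfl
    rw [eq_bot_iff]
    intro r hr
    have hV' : Commute F.V' r := by
      have := (Commute.conj_iff (F.i n)).2 (hA' _ (hnorm (F.i n)⁻¹ (F.commute_i hn).inv_left r hr))
      rwa [e3, show F.i n * ((F.i n)⁻¹ * r * ((F.i n)⁻¹)⁻¹) * (F.i n)⁻¹ = r by group] at this
    refine mem_bot.2 (hbase r hr ?_)
    have hW : F.τ r ∈ F.W := F.mem_W.2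
      ⟨by rw [← hF.τ_A']; exact F.τ_commute (hA' r hr).symm, F.τ_commute hV'.symm⟩
    have := hN.τ_mem_Base (hN.W_le_Base hW)
    rwa [τ_τ] at this

/-- Elements centralizing a conjugate `(1, y)` of `a` lie in the base. -/
theorem Narrow.centralizer_second_le {y : Perm (Fin 5)} (h2 : y * y = 1) (h1 : y ≠ 1)
    (hs : Perm.sign y = 1) {g : G}
    (hg : Commute g (hN.nu (mk55 1 y (by rw [hs, map_one])))) : g ∈ hN.Base := by
  obtain ⟨c, hc, hcc⟩ := even_invol y h2 h1 hs
  set m := hN.nu (mk55 1 c (by rw [hc, map_one]))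
  have hm : m * F.A * m⁻¹ = hN.nu (mk55 1 y (by rw [hs, map_one])) := by
    rw [← hN.nu_A]
    exact hN.nu_conj _ _ _ (by group) hcc
  have h : Commute (m⁻¹ * g * m) F.A := by
    have := (Commute.conj_iff m⁻¹).2 hg
    rw [← hm, inv_inv] at this
    rwa [show m⁻¹ * (m * F.A * m⁻¹) * m = F.A by group] at this
  have hmB : m ∈ hN.Base := ⟨_, rfl⟩
  have := mul_mem (mul_mem hmB (hN.centralizer_A_le h)) (inv_mem hmB)
  rwa [show m * (m⁻¹ * g * m) * m⁻¹ = g by group] at this

/-- An involution of the outer coset exchanging the two copies is not conjugate to `a`. -/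
theorem Narrow.outer_not_conj {b : G} (hb : b ∈ hN.Base) (h2 : F.h * b * (F.h * b) = 1) (g : G) :
    g * F.A * g⁻¹ ≠ F.h * b := by
  intro e
  obtain ⟨k, k', hs, rfl⟩ := hN.mem_Base.1 hb
  have h3 : hN.nu (mk55 k' k hs.symm) * hN.nu (mk55 k k' hs) = 1 := by
    rw [← show F.τ (hN.nu (mk55 k k' hs)) = hN.nu (mk55 k' k hs.symm) from hN.τ_nu _, τ]
    simpa only [mul_assoc] using h2
  have hk : k' = k⁻¹ := eq_inv_of_mul_eq_one_left
    (congrArg (fun p : L55 => p.1.1) (hN.nu_injective ((map_mul _ _ _).trans (h3.trans (map_one _).symm))))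
  subst hk
  obtain ⟨m, f, hf, hm⟩ : ∃ m f : G, (f = F.h ∨ f = F.h * F.U) ∧
      m * f * m⁻¹ = F.h * hN.nu (mk55 k k⁻¹ hs) := by
    have key : ∀ (c : Perm (Fin 5)) (hc : Perm.sign c = 1) (p : L55),
        hN.nu (mk55 1 c (by rw [hc, map_one])) * (F.h * hN.nu p) *
          (hN.nu (mk55 1 c (by rw [hc, map_one])))⁻¹ =
        F.h * hN.nu (mk55 c 1 (by rw [hc, map_one]) * p * (mk55 1 c (by rw [hc, map_one]))⁻¹) := by
      intro c hc p
      rw [map_mul, map_mul, map_inv,
        show hN.nu (mk55 c 1 (by rw [hc, map_one])) =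
          F.τ (hN.nu (mk55 1 c (by rw [hc, map_one]))) from
            (hN.τ_nu (mk55 1 c (by rw [hc, map_one]))).symm, τ_eq, h_inv]
      simp only [← mul_assoc, F.h_sq, one_mul]
    rcases Int.units_eq_one_or (Perm.sign k) with e' | e'
    · refine ⟨hN.nu (mk55 1 k (by rw [e', map_one])), F.h, Or.inl rfl, ?_⟩
      have h := key k e' 1
      rw [map_one hN.nu, mul_one] at h
      rw [h]
      refine congrArg (F.h * hN.nu ·) (Subtype.ext (Prod.ext ?_ ?_))
      · show k * 1 * 1⁻¹ = k; group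
      · show 1 * 1 * k⁻¹ = k⁻¹; group
    · have hc : Perm.sign (k * swap 3 4) = 1 := by rw [map_mul, e', coord_facts.2.2.2.2.1]; rfl
      refine ⟨hN.nu (mk55 1 (k * swap 3 4) (by rw [hc, map_one])), F.h * F.U, Or.inr rfl, ?_⟩
      rw [← hN.nu_U, key _ hc]
      have hu : (swap 3 4 : Perm (Fin 5)) * swap 3 4 = 1 := by decide +kernel
      refine congrArg (F.h * hN.nu ·) (Subtype.ext (Prod.ext ?_ ?_))
      · show k * swap 3 4 * swap 3 4 * 1⁻¹ = k
        rw [mul_assoc k, hu, mul_one, inv_one, mul_one]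
      · show 1 * swap 3 4 * (k * swap 3 4)⁻¹ = k⁻¹
        rw [mul_inv_rev, one_mul, mul_inv_cancel_left]
  have hfy : Commute f (F.i (zP * sP)) := by
    have e0 : F.τ (F.i (zP * sP)) = F.i (zP * sP) := by
      rw [map_mul, τ_mul, show F.τ (F.i zP) = F.i sP from F.h_z, show F.τ (F.i sP) = F.i zP from F.h_s]
      exact (F.commute_i (by decide +kernel : sP * zP = zP * sP)).eq
    have hh : Commute F.h (F.i (zP * sP)) := by
      rw [τ_eq, mul_inv_eq_iff_eq_mul] at e0
      exact e0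
    rcases hf with rfl | rfl
    · exact hh
    · exact hh.mul_left (F.commute_i (by decide +kernel))
  set g' := m⁻¹ * g
  have hg' : g' * F.A * g'⁻¹ = f := by
    rw [show g' * F.A * g'⁻¹ = m⁻¹ * (g * F.A * g⁻¹) * m by simp only [g']; group, e, ← hm]; group
  set w := g'⁻¹ * F.i (zP * sP) * g' with hw
  have hwA : Commute w F.A := by
    have := (Commute.conj_iff g'⁻¹).2 hfy.symm
    rw [inv_inv, ← hg'] at this
    rwa [show g'⁻¹ * (g' * F.A * g'⁻¹) * g' = F.A by group] at this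
  obtain ⟨j, j', hsj, hj⟩ := hN.mem_Base.1 (hN.centralizer_A_le hwA)
  have hw3 : w ^ 3 = 1 := by
    rw [hw, show (g'⁻¹ * F.i (zP * sP) * g') ^ 3 = g'⁻¹ * F.i (zP * sP) ^ 3 * g' from (by
        have h := conj_pow (i := 3) (a := g'⁻¹) (b := F.i (zP * sP))
        rwa [inv_inv] at h), ← map_pow,
      show (zP * sP) ^ 3 = (1 : P35) by decide +kernel, map_one]
    group
  have hw1 : w ≠ 1 := fun h => by
    have h' : F.i (zP * sP) = 1 := by
      rw [show F.i (zP * sP) = g' * w * g'⁻¹ by rw [hw]; group, h]; group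
    exact absurd (F.inj (h'.trans (map_one F.i).symm)) (by decide +kernel)
  have hp : mk55 j j' hsj ^ 3 = 1 := hN.nu_injective (by rw [map_pow, map_one, hj, hw3])
  have hj3 : j ^ 3 = 1 := congrArg (fun p : L55 => p.1.1) hp
  have hj3' : j' ^ 3 = 1 := congrArg (fun p : L55 => p.1.2) hp
  rw [← hj, ← hN.nu_A] at hwA
  have hj1' : j' = 1 := by
    have h8 := cent_model.1 j' (hN.commute_nu.1 hwA).2
    have h1 : j' ^ Nat.gcd 3 8 = 1 := pow_gcd_eq_one.2 ⟨hj3', h8⟩
    simpa using h1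
  subst hj1'
  have hj1 : j ≠ 1 := by
    rintro rfl
    exact hw1 (hj.symm.trans (map_one hN.nu))
  obtain ⟨c, hc, hcc⟩ := cent_model.2.2.2.1 j hj3 hj1
  have hS : hN.nu (mk55 c 1 (by rw [hc, map_one])) * w *
      (hN.nu (mk55 c 1 (by rw [hc, map_one])))⁻¹ = F.S := by
    rw [← hj, ← jay_c₅, hN.jay_eq]
    exact hN.nu_conj _ _ _ hcc (by rw [pu_of_sign coord_facts.2.1]; group)
  have hcard := F.card_centralizer_s
  rw [show F.i sP = F.S from rfl, ← hS, hw, card_centralizer_conj,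
    show g'⁻¹ * F.i (zP * sP) * g' = g'⁻¹ * F.i (zP * sP) * (g'⁻¹)⁻¹ by rw [inv_inv],
    card_centralizer_conj, F.card_y] at hcard
  norm_num at hcard

/-- The centralizer of `a a'` lies in the big group. -/
theorem Narrow.centralizer_T_le {g : G} (hg : Commute g (F.A * F.A')) : g ∈ hN.Big := by
  have hF := hN.twisted
  have hAT : F.A * (F.A * F.A') = F.A' := by rw [← mul_assoc, mul_self F.A_ord, one_mul]
  have hswap : ∀ {g : G}, g * F.A * g⁻¹ = F.A' → F.h * g ∈ hN.Base := fun {g} e => by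
    refine hN.centralizer_A_le (mul_inv_eq_iff_eq_mul.1 ?_)
    rw [show F.h * g * F.A * (F.h * g)⁻¹ = F.h * (g * F.A * g⁻¹) * F.h⁻¹ by group, e, ← τ_eq, hF.τ_A']
  have hTord : orderOf (F.A * F.A') = 2 := orderOf_eq_prime
    (by rw [pow_two, ← hN.nu_T, ← map_mul, show mk55 a'P.2 a'P.2 rfl * mk55 a'P.2 a'P.2 rfl = 1 from
      Subtype.ext (Prod.ext cent_model.2.2.2.2.2.2.2.2.2.1 cent_model.2.2.2.2.2.2.2.2.2.1), map_one])
    (fun e => by
      rw [← hN.nu_T] at e
      exact cent_model.2.2.2.2.2.2.2.2.1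
        (congrArg (fun p : L55 => p.1.1) (hN.nu_injective (e.trans (map_one _).symm))))
  have hAcT : Commute F.A (F.A * F.A') := (Commute.refl _).mul_right comm_A_A'
  suffices h : g * F.A * g⁻¹ = F.A ∨ g * F.A * g⁻¹ = F.A * (F.A * F.A') by
    rcases h with e | e
    · exact hN.Base_le_Big (hN.centralizer_A_le (mul_inv_eq_iff_eq_mul.1 e))
    · exact Or.inr (hswap (e.trans hAT))
  refine conj_eq_or_of_core hTord F.A_ord hAcT F.A_ne_T.symm ?_ ?_ hg
  · intro g hg hcases
    set x := g * F.A * g⁻¹ with hx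
    have hxT : Commute x (F.A * F.A') := by
      have := (Commute.conj_iff g).2 hAcT
      rwa [hg.eq, mul_inv_cancel_right] at this
    have hxx : x * x = 1 := by rw [hx, conj_mul, mul_self F.A_ord, mul_one, mul_inv_cancel]
    have hxi : x⁻¹ = x := inv_eq_of_mul_eq_one_right hxx
    rcases hcases with e | e
    · have hxA : Commute x F.A := mul_inv_eq_iff_eq_mul.1 (by rw [hxi]; exact e)
      obtain ⟨k, k', hs, hk⟩ := hN.mem_Base.1 (hN.centralizer_A_le hxA)
      obtain ⟨hkk, hkk', hsk, h01⟩ := hN.of_conj_A (hx.symm.trans hk.symm)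
      rw [← hk, ← hN.nu_T] at hxT
      obtain ⟨hka, hka'⟩ := hN.commute_nu.1 hxT
      have hxTconj : (g * F.h) * F.A * (g * F.h)⁻¹ = x * (F.A * F.A') := by
        calc g * F.h * F.A * (g * F.h)⁻¹ = g * (F.h * F.A * F.h⁻¹) * g⁻¹ := by group
          _ = g * F.A' * g⁻¹ := by rw [← τ_eq, hF]
          _ = g * F.A * g⁻¹ * (g * (F.A * F.A') * g⁻¹) := by
            rw [conj_mul, hAT]
          _ = x * (F.A * F.A') := by rw [hg.eq, mul_inv_cancel_right, ← hx]
      have hxT' : x * (F.A * F.A') = hN.nu (mk55 (k * a'P.2) (k' * a'P.2) (by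
          rw [map_mul, map_mul, hs])) := by
        rw [← hk, ← hN.nu_T, ← map_mul]; rfl
      have h01' := (hN.of_conj_A (hxTconj.trans hxT')).2.2.2
      have hinva : (a'P.2)⁻¹ = a'P.2 := inv_eq_of_mul_eq_one_right cent_model.2.2.2.2.2.2.2.2.2.1
      rcases h01 with rfl | rfl
      · rw [one_mul] at h01'
        rcases h01' with e' | e'
        · exact absurd e' cent_model.2.2.2.2.2.2.2.2.1
        · left
          rw [mul_eq_one_iff_eq_inv, hinva] at e'
          subst e'
          exact hk.symm.trans hN.nu_A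
      · rw [one_mul] at h01'
        rcases h01' with e' | e'
        · right
          rw [mul_eq_one_iff_eq_inv, hinva] at e'
          subst e'
          rw [hAT]
          exact hk.symm.trans hN.nu_A'
        · exact absurd e' cent_model.2.2.2.2.2.2.2.2.1
    · exfalso
      have hb := hswap (g := x) (by rw [hxi, e, hAT])
      refine hN.outer_not_conj hb ?_ g ?_
      · rw [← mul_assoc F.h F.h, F.h_sq, one_mul, hxx]
      · rw [← mul_assoc F.h F.h, F.h_sq, one_mul]
  · intro R hR hRT hnorm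
    have hodd : ∀ r ∈ R, Odd (orderOf r) := fun r hr => odd_orderOf_of_mem hR hr
    have hfix : ∀ {r : G}, r ∈ R → r ∈ hN.Base → r = 1 := fun {r} hr hb =>
      hN.eq_one_of_odd hb (hodd r hr) (hRT r hr)
    have hVT : Commute F.V (F.A * F.A') := hF.comm_V_A.mul_right hF.comm_V_A'
    have hA := conj_eq_inv_of_fixedPointFree (R := R) (mul_self F.A_ord)
      (hnorm _ hAcT) fun r hr hc => hfix hr (hN.centralizer_A_le hc.symm)
    have hV := conj_eq_inv_of_fixedPointFree (R := R) (mul_self F.V_ord)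
      (hnorm _ hVT) fun r hr hc => hfix hr (hN.centralizer_second_le cent_model.2.2.2.2.2.1
        cent_model.2.2.2.2.2.2.1 coord_facts.2.2.2.1 (by rw [hN.nu_V]; exact hc.symm))
    have hAV2 : F.A * F.V * (F.A * F.V) = 1 := by
      rw [hF.comm_V_A.mul_mul_mul_comm, mul_self F.A_ord, mul_self F.V_ord, mul_one]
    have hAVnu : F.A * F.V = hN.nu (mk55 1 (a'P.2 * vP.2) (by decide +kernel)) := by
      rw [← hN.nu_A, ← hN.nu_V, ← map_mul]
      exact congrArg hN.nu (Subtype.ext (Prod.ext (mul_one _) rfl))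
    have hAV := conj_eq_inv_of_fixedPointFree (R := R) hAV2
      (hnorm _ (hAcT.mul_left hVT)) fun r hr hc => hfix hr (hN.centralizer_second_le
        (y := a'P.2 * vP.2) (by decide +kernel) (by decide +kernel) (by decide +kernel)
        (by rw [← hAVnu]; exact hc.symm))
    rw [eq_bot_iff]
    intro r hr
    have e := hAV r hr
    rw [show F.A * F.V * r * (F.A * F.V)⁻¹ = F.A * (F.V * r * F.V⁻¹) * F.A⁻¹ by group, hV r hr,
      hA _ (inv_mem hr), inv_inv] at e
    exact mem_bot.2 (odd_orderOf_mul_self (hodd r hr) (by rw [← mul_inv_eq_one] at e; simpa using e))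

/-- The centralizers of the involutions of the base lie in the big group. -/
theorem Narrow.centralizer_le_Big {x : G} (hx : x ∈ hN.Base) (h2 : x * x = 1) (h1 : x ≠ 1) {g : G}
    (hg : Commute g x) : g ∈ hN.Big := by
  obtain ⟨m, hm, h⟩ := hN.class_Base hx h2 h1
  suffices hh : ∀ c, m * c * m⁻¹ = x → (∀ k, Commute k c → k ∈ hN.Big) → g ∈ hN.Big by
    rcases h with e | e | e
    · exact hh _ e fun k hk => hN.Base_le_Big (hN.centralizer_A_le hk)
    · exact hh _ e fun k hk => hN.centralizer_T_le hk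
    · exact hh _ e fun k hk => hN.comm_U_mem hk
  intro c e hc
  have h' : Commute (m⁻¹ * g * m) c := by
    have := (Commute.conj_iff m⁻¹).2 hg
    rw [← e, inv_inv] at this
    rwa [show m⁻¹ * (m * c * m⁻¹) * m = c by group] at this
  have := mul_mem (mul_mem hm (hc _ h')) (inv_mem hm)
  rwa [show m * (m⁻¹ * g * m) * m⁻¹ = g by group] at this

end Frame

end CfsgLib.ThreeSym
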