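import Cfsg.Agent.Lib.Recognition.ThreeSym.FourCent

/-!
`u` is conjugate to neither of `a'` and, in the twisted case, `a`.
-/

set_option autoImplicit false
set_option linter.style.haveILetI false
set_option maxRecDepth 10000
set_option synthInstance.maxSize 2000
set_option synthInstance.maxHeartbeats 400000

namespace CfsgLib.ThreeSym

open Subgroup Equiv CfsgLib.ThreeEight

variable {G : Type*} [Group G]

theorem class_model :
    (∀ l : P35, l * zP = zP * l → l * a'P = a'P * l → l ^ 9 = 1 → ∃ k : Fin 3, l = zP ^ k.val) ∧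
    (∃ k : P35, k * uP * k⁻¹ = bP) := by
  decide +kernel

namespace Frame

variable (F : Frame G)

theorem A'_not_conj_U [Finite G] (g : G) : g * F.U * g⁻¹ ≠ F.A' := by
  classical
  haveI : Fact (Nat.Prime 3) := ⟨Nat.prime_three⟩
  intro e
  obtain ⟨P, hP⟩ := F.sylow
  have hP9 : Nat.card P = 9 := by
    have hb : Function.Bijective fun x => (⟨F.i (nine x), (hP _).2 ⟨x, rfl⟩⟩ : (P : Subgroup G)) :=
      ⟨fun x y h => nine_injective (F.inj (congrArg Subtype.val h)), fun q => by
        obtain ⟨x, hx⟩ := (hP _).1 q.2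
        exact ⟨x, Subtype.ext hx.symm⟩⟩
    rw [← Nat.card_eq_of_bijective _ hb]
    simp
  set C := centralizer ({F.A'} : Set G)
  have hle : (P : Subgroup G).map (MulAut.conj g).toMonoidHom ≤ C := by
    rintro _ ⟨d, hd, rfl⟩
    obtain ⟨x, rfl⟩ := (hP d).1 hd
    refine mem_centralizer_singleton_iff.2 ?_
    rw [← e]
    have hc : Commute (F.i (nine x)) F.U :=
      F.commute_i ((by decide +kernel : ∀ x, nine x * uP = uP * nine x) x)
    exact ((Commute.conj_iff g).2 hc).eq
  have h9 : 3 ^ 2 ∣ Nat.card C := by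
    have := Subgroup.card_dvd_of_le hle
    rwa [Subgroup.card_map_of_injective (MulAut.conj g).injective, hP9] at this
  have hz : F.Z ∈ C := mem_centralizer_singleton_iff.2 (F.commute_i (by decide +kernel)).eq
  have hzC : orderOf (⟨F.Z, hz⟩ : C) = 3 := by rw [orderOf_mk, F.Z_ord]
  obtain ⟨R, hR⟩ := (IsPGroup.of_card (n := 1) (by rw [Nat.card_zpowers, hzC, pow_one]) :
    IsPGroup 3 (zpowers (⟨F.Z, hz⟩ : C))).exists_le_sylow
  have hR9 : Nat.card R = 9 := by
    set R' := (R : Subgroup C).map C.subtype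
    have hc : Nat.card R' = Nat.card R := Subgroup.card_map_of_injective C.subtype_injective
    have h1 : Nat.card R' ∣ 9 := by
      obtain ⟨Q, hQ⟩ := (R.2.map C.subtype).exists_le_sylow
      have := Subgroup.card_dvd_of_le hQ
      rwa [show Nat.card Q = 9 by rw [Q.card_eq_multiplicity, ← P.card_eq_multiplicity, hP9]] at this
    have h2 : 3 ^ 2 ∣ Nat.card R := by
      rw [R.card_eq_multiplicity]
      exact pow_dvd_pow 3 ((Nat.prime_three.pow_dvd_iff_le_factorization Nat.card_pos.ne').1 h9)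
    exact Nat.dvd_antisymm (hc ▸ h1) h2
  have hcomm := IsPGroup.commutative_of_card_eq_prime_sq (p := 3) (hR9.trans (by norm_num))
  have hle2 : (R : Subgroup C) ≤ zpowers (⟨F.Z, hz⟩ : C) := fun r hr => by
    have hrz : Commute (r : G) (F.i zP) := congrArg (fun x : C => (x : G))
      (congrArg Subtype.val (hcomm ⟨r, hr⟩ ⟨_, hR (mem_zpowers _)⟩))
    obtain ⟨l, hl, hlz⟩ := F.exists_of_commute_z hrz
    have hla : l * a'P = a'P * l := F.eq_of_commute (by
      rw [hl]; exact mem_centralizer_singleton_iff.1 r.2)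
    have hl9 : l ^ 9 = 1 := F.inj (by
      have h := pow_card_eq_one' (G := R) (x := ⟨r, hr⟩)
      rw [map_pow, hl, map_one]
      rw [hR9] at h
      exact congrArg (fun x : R => ((x : C) : G)) h)
    obtain ⟨k, rfl⟩ := class_model.1 l hlz hla hl9
    refine ⟨(k.val : ℤ), Subtype.ext ?_⟩
    show ((⟨F.Z, hz⟩ : C) ^ (k.val : ℤ) : C).1 = r
    rw [zpow_natCast, Subgroup.coe_pow, ← hl, map_pow]
    rfl
  have h3 := Subgroup.card_le_of_le hle2
  rw [hR9, Nat.card_zpowers, hzC] at h3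
  omega

theorem τ_AU_of_twisted (hF : F.Twisted) : F.τ (F.A * F.U) = F.B := by
  rw [τ_mul, hF, τ_U, A', U, B, ← map_mul, rels.2.2.2.2.2.2.2.2.2]

theorem twisted_or : F.Twisted ∨ F.τ F.A = F.B := by
  rcases F.h_a with e | e
  · exact Or.inr e
  · exact Or.inl e

theorem conj_U_B : ∃ g : G, g * F.U * g⁻¹ = F.B := by
  obtain ⟨k, hk⟩ := class_model.2
  exact ⟨F.i k, by rw [U, B, ← map_conj, hk]⟩

theorem AU_not_conj_A [Finite G] (g : G) : g * F.A * g⁻¹ ≠ F.A * F.U := by
  intro e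
  obtain ⟨k, hk⟩ := F.conj_U_B
  rcases F.twisted_or with hF | hF
  · have h := congrArg F.τ e
    rw [τ_conj, hF, F.τ_AU_of_twisted hF, ← hk] at h
    refine F.A'_not_conj_U ((F.τ g)⁻¹ * k) ?_
    calc (F.τ g)⁻¹ * k * F.U * ((F.τ g)⁻¹ * k)⁻¹ = (F.τ g)⁻¹ * (k * F.U * k⁻¹) * F.τ g := by group
      _ = F.A' := by rw [← h]; group
  · have h := congrArg F.τ e
    rw [τ_conj, τ_mul, hF, τ_U, ← eq_mul_U, ← hk] at h
    refine F.A'_not_conj_U (F.τ g * k) ?_
    rw [← h]; group

end Frame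

end CfsgLib.ThreeSym
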