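import Cfsg.Agent.Lib.Recognition.ThreeSym.TwoGroup

/-!
In the exceptional case: the two commuting copies of `A₅` and their extension inside `S₅ × S₅`.
-/

set_option autoImplicit false
set_option linter.style.haveILetI false
set_option maxRecDepth 10000
set_option synthInstance.maxSize 2000
set_option synthInstance.maxHeartbeats 400000

namespace CfsgLib.ThreeSym

open Subgroup Equiv CfsgLib.ThreeEight

/-- The pairs of permutations of five letters with equal signs. -/
abbrev L55 : Subgroup (Perm (Fin 5) × Perm (Fin 5)) :=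
  ((Perm.sign.comp (MonoidHom.fst (Perm (Fin 5)) (Perm (Fin 5)))) *
    (Perm.sign.comp (MonoidHom.snd (Perm (Fin 5)) (Perm (Fin 5))))).ker

theorem mem_L55 {x : Perm (Fin 5) × Perm (Fin 5)} : x ∈ L55 ↔ Perm.sign x.1 = Perm.sign x.2 := by
  show Perm.sign x.1 * Perm.sign x.2 = 1 ↔ _
  rw [mul_eq_one_iff_eq_inv, Int.units_inv_eq_self]

/-- An element of `L55`. -/
def mk55 (g g' : Perm (Fin 5)) (h : Perm.sign g = Perm.sign g') : L55 := ⟨(g, g'), mem_L55.2 h⟩

/-- The representative of a sign. -/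
def pu (g : Perm (Fin 5)) : Perm (Fin 5) := if Perm.sign g = 1 then 1 else swap 3 4

theorem pu_mul (g g' : Perm (Fin 5)) : pu (g * g') = pu g * pu g' := by
  unfold pu
  rw [map_mul]
  rcases Int.units_eq_one_or (Perm.sign g) with e | e <;>
    rcases Int.units_eq_one_or (Perm.sign g') with e' | e' <;> rw [e, e'] <;> decide

theorem pu_comm (g g' : Perm (Fin 5)) : pu g * pu g' = pu g' * pu g := by
  rw [← pu_mul, ← pu_mul]
  unfold pu
  rw [map_mul, map_mul, mul_comm]

theorem pu_mul_self (g : Perm (Fin 5)) : pu g * pu g = 1 := by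
  unfold pu; split <;> decide

theorem sign_pu_mul {g g' : Perm (Fin 5)} (h : Perm.sign g = Perm.sign g') :
    Perm.sign (pu g * g') = 1 := by
  unfold pu
  rw [map_mul, ← h]
  rcases Int.units_eq_one_or (Perm.sign g) with e | e <;> rw [e] <;> decide

theorem pu_of_sign {g : Perm (Fin 5)} (h : Perm.sign g = 1) : pu g = 1 := if_pos h

theorem pu_congr {g g' : Perm (Fin 5)} (h : Perm.sign g = Perm.sign g') : pu g = pu g' := by
  unfold pu; rw [h]

theorem sign_pu (g : Perm (Fin 5)) : Perm.sign g = Perm.sign (pu g) := by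
  rcases Int.units_eq_one_or (Perm.sign g) with e | e <;> simp [pu, e]

theorem coord_facts :
    (∀ g : Perm (Fin 5), g * c₅ = c₅ * g → g * a'P.2 = a'P.2 * g → g * vP.2 = vP.2 * g → g = 1) ∧
    Perm.sign c₅ = 1 ∧ Perm.sign a'P.2 = 1 ∧ Perm.sign vP.2 = 1 ∧ Perm.sign (swap 3 4 : Perm (Fin 5)) = -1 ∧
    Perm.sign bP.2 = -1 ∧
    (∀ a : Perm (Fin 3), ∃ k : Fin 3, ∃ j : Fin 2, (a, (1 : Perm (Fin 5))) = zP ^ k.val * aP ^ j.val) := by
  decide +kernel

namespace Frame

variable {G : Type*} [Group G] (F : Frame G)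

/-- The second factor. -/
def jay : Perm (Fin 5) →* G := F.i.comp (MonoidHom.inr (Perm (Fin 3)) (Perm (Fin 5)))

theorem jay_c₅ : F.jay c₅ = F.S := rfl
theorem jay_a' : F.jay a'P.2 = F.A' := rfl
theorem jay_v : F.jay vP.2 = F.V' := rfl
theorem jay_u : F.jay (swap 3 4) = F.U := rfl
theorem jay_b : F.jay bP.2 = F.B := rfl

theorem jay_injective : Function.Injective F.jay := fun x y h => congrArg Prod.snd (F.inj h)

theorem jay_mem {K : Subgroup G} (hS : F.S ∈ K) (hA : F.A' ∈ K) (hV : F.V' ∈ K) {x : Perm (Fin 5)}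
    (hx : Perm.sign x = 1) : F.jay x ∈ K := by
  obtain ⟨p, q, j, k, l, m, r, rfl⟩ := alt_words x hx
  have hS' : F.jay (swap 0 1) * F.jay (swap 1 2) ∈ K := by rw [← map_mul]; exact hS
  simp only [map_mul, map_pow, jay_a', jay_v]
  exact mul_mem (mul_mem (mul_mem (mul_mem (mul_mem (mul_mem (pow_mem hS' _) (pow_mem hA _))
    (pow_mem hV _)) (pow_mem hS' _)) (pow_mem hV _)) (pow_mem hS' _)) (pow_mem hA _)

theorem jay_conj (p x : Perm (Fin 5)) : F.jay p * F.jay x * (F.jay p)⁻¹ = F.jay (p * x * p⁻¹) := by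
  rw [map_mul, map_mul, map_inv]

variable {F}

theorem Narrow.commute_jay [Finite G] (hN : F.Narrow) {x y : Perm (Fin 5)} (hx : Perm.sign x = 1)
    (hy : Perm.sign y = 1) : Commute (F.jay x) (F.τ (F.jay y)) := by
  have hF := hN.twisted
  have hgen : ∀ x : Perm (Fin 5), Perm.sign x = 1 →
      Commute (F.jay x) F.Z ∧ Commute (F.jay x) F.A ∧ Commute (F.jay x) F.V := by
    intro x hx
    have h : F.jay x ∈ centralizer ({F.Z, F.A, F.V} : Set G) := by
      have key : ∀ w, Commute w F.Z → Commute w F.A → Commute w F.V →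
          w ∈ centralizer ({F.Z, F.A, F.V} : Set G) := fun w h1 h2 h3 => mem_centralizer_iff.2 (by
        simp only [Set.mem_insert_iff, Set.mem_singleton_iff]
        rintro g (rfl | rfl | rfl)
        exacts [h1.eq.symm, h2.eq.symm, h3.eq.symm])
      refine F.jay_mem (key _ (F.commute_i (by decide +kernel)) (F.commute_i (by decide +kernel))
        F.commute_S_V) (key _ (F.commute_i (by decide +kernel)) comm_A_A'.symm hF.comm_V_A'.symm) ?_ hx
      exact key _ (F.commute_i (by decide +kernel)) comm_V'_A hN.commute_V_V'.symm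
    rw [mem_centralizer_iff] at h
    exact ⟨(h _ (by simp)).symm, (h _ (by simp)).symm, (h _ (by simp)).symm⟩
  obtain ⟨h1, h2, h3⟩ := hgen y hy
  have h : F.jay x ∈ centralizer ({F.τ (F.jay y)} : Set G) := by
    refine F.jay_mem ?_ ?_ ?_ hx <;> refine mem_centralizer_singleton_iff.2 ?_
    · rw [← F.τ_Z]; exact (F.τ_commute h1).eq.symm
    · rw [← hF]; exact (F.τ_commute h2).eq.symm
    · rw [← hF.τ_V]; exact (F.τ_commute h3).eq.symm
  exact mem_centralizer_singleton_iff.1 h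

/-- Moving the second copy past the first. -/
theorem Narrow.τ_jay_mul [Finite G] (hN : F.Narrow) (g : Perm (Fin 5)) {x : Perm (Fin 5)}
    (hx : Perm.sign x = 1) :
    F.τ (F.jay x) * F.jay g = F.jay g * F.τ (F.jay (pu g * x * pu g)) := by
  rcases Int.units_eq_one_or (Perm.sign g) with e | e
  · rw [pu_of_sign e, one_mul, mul_one]
    exact (hN.commute_jay e hx).eq.symm
  · have hg : Perm.sign (g * swap 3 4) = 1 := by rw [map_mul, e, coord_facts.2.2.2.2.1]; rfl
    have hp : pu g = swap 3 4 := by rw [pu, if_neg (by rw [e]; decide)]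
    have eg : F.jay g = F.jay (g * swap 3 4) * F.U := by
      rw [← jay_u, ← map_mul, mul_assoc, show (swap 3 4 : Perm (Fin 5)) * swap 3 4 = 1 by decide +kernel,
        mul_one]
    have hU : F.τ (F.jay x) * F.U = F.U * F.τ (F.jay (swap 3 4 * x * swap 3 4)) := by
      rw [map_mul, map_mul, τ_mul, τ_mul, jay_u, τ_U, ← mul_assoc, ← mul_assoc, mul_self F.U_ord, one_mul]
    rw [hp, eg, ← mul_assoc, ← (hN.commute_jay hg hx).eq, mul_assoc, hU, ← mul_assoc]

/-- The embedding of `L55`. -/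
def Narrow.nu [Finite G] (hN : F.Narrow) : L55 →* G :=
  MonoidHom.mk' (fun p => F.jay p.1.1 * F.τ (F.jay (pu p.1.1 * p.1.2))) fun p q => by
    obtain ⟨⟨g, g'⟩, hp⟩ := p
    obtain ⟨⟨k, k'⟩, hq⟩ := q
    show F.jay (g * k) * F.τ (F.jay (pu (g * k) * (g' * k'))) =
      F.jay g * F.τ (F.jay (pu g * g')) * (F.jay k * F.τ (F.jay (pu k * k')))
    have hx := sign_pu_mul (mem_L55.1 hp)
    calc F.jay (g * k) * F.τ (F.jay (pu (g * k) * (g' * k')))
        = F.jay g * F.jay k * F.τ (F.jay (pu k * (pu g * g') * pu k * (pu k * k'))) := by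
          rw [map_mul, pu_mul, pu_comm g k]
          congr 3
          rw [mul_assoc (pu k * (pu g * g')), ← mul_assoc (pu k) (pu k), pu_mul_self, one_mul]
          group
      _ = F.jay g * (F.jay k * F.τ (F.jay (pu k * (pu g * g') * pu k))) * F.τ (F.jay (pu k * k')) := by
          rw [map_mul, τ_mul]; group
      _ = _ := by rw [← hN.τ_jay_mul k hx]; group

theorem Narrow.nu_apply [Finite G] (hN : F.Narrow) (p : L55) :
    hN.nu p = F.jay p.1.1 * F.τ (F.jay (pu p.1.1 * p.1.2)) := rfl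

theorem Narrow.jay_eq [Finite G] (hN : F.Narrow) (g : Perm (Fin 5)) :
    F.jay g = hN.nu (mk55 g (pu g) (sign_pu g)) := by
  rw [nu_apply]
  show F.jay g = F.jay g * F.τ (F.jay (pu g * pu g))
  rw [pu_mul_self, map_one, τ_one, mul_one]

theorem Narrow.nu_injective [Finite G] (hN : F.Narrow) : Function.Injective hN.nu := by
  rw [injective_iff_map_eq_one]
  rintro ⟨⟨g, g'⟩, hp⟩ e
  rw [nu_apply] at e
  have hy : Perm.sign (pu g * g') = 1 := sign_pu_mul (mem_L55.1 hp)
  have hg : g = 1 := by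
    have h : ∀ x : Perm (Fin 5), Perm.sign x = 1 → g * x = x * g := fun x hx => by
      apply F.jay_injective
      rw [map_mul, map_mul, eq_inv_of_mul_eq_one_left e]
      exact (hN.commute_jay hx hy).inv_right.eq.symm
    exact coord_facts.1 g (h _ coord_facts.2.1) (h _ coord_facts.2.2.1) (h _ coord_facts.2.2.2.1)
  subst hg
  simp only [pu_of_sign (map_one Perm.sign), one_mul, map_one] at e
  have : g' = 1 := F.jay_injective (F.τ_inj (by rw [e, map_one, τ_one]))
  subst this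
  rfl

/-- The swap exchanges the coordinates. -/
theorem Narrow.τ_nu [Finite G] (hN : F.Narrow) (p : L55) :
    F.τ (hN.nu p) = hN.nu ⟨(p.1.2, p.1.1), mem_L55.2 (mem_L55.1 p.2).symm⟩ := by
  obtain ⟨⟨g, g'⟩, hp⟩ := p
  have hs : Perm.sign g = Perm.sign g' := mem_L55.1 hp
  show F.τ (F.jay g * F.τ (F.jay (pu g * g'))) = F.jay g' * F.τ (F.jay (pu g' * g))
  have he : Perm.sign (pu g * g) = 1 := sign_pu_mul rfl
  have hy := sign_pu_mul hs
  rw [τ_mul, τ_τ]
  have e1 : F.τ (F.jay g) = F.jay (pu g) * F.τ (F.jay (pu g * g)) := by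
    have : F.jay g = F.jay (pu g) * F.jay (pu g * g) := by
      rw [← map_mul, ← mul_assoc, pu_mul_self, one_mul]
    rw [this, τ_mul]
    congr 1
    unfold pu
    split
    · rw [map_one, τ_one]
    · rw [jay_u, τ_U]
  rw [e1, mul_assoc, (hN.commute_jay hy he).eq.symm, ← mul_assoc, ← map_mul, ← mul_assoc, pu_mul_self,
    one_mul, pu_congr hs]

/-- The image of `L55`. -/
def Narrow.Base [Finite G] (hN : F.Narrow) : Subgroup G := hN.nu.range

theorem Narrow.mem_Base [Finite G] (hN : F.Narrow) {x : G} :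
    x ∈ hN.Base ↔ ∃ g g', ∃ h : Perm.sign g = Perm.sign g', hN.nu (mk55 g g' h) = x :=
  ⟨fun ⟨⟨⟨g, g'⟩, hp⟩, e⟩ => ⟨g, g', mem_L55.1 hp, e⟩, fun ⟨g, g', h, e⟩ => ⟨mk55 g g' h, e⟩⟩

theorem Narrow.τ_mem_Base [Finite G] (hN : F.Narrow) {x : G} (hx : x ∈ hN.Base) : F.τ x ∈ hN.Base := by
  obtain ⟨p, rfl⟩ := hx
  exact ⟨_, (hN.τ_nu p).symm⟩

theorem Narrow.jay_mem_Base [Finite G] (hN : F.Narrow) (g : Perm (Fin 5)) : F.jay g ∈ hN.Base :=
  ⟨_, (hN.jay_eq g).symm⟩

theorem Narrow.i_mem_Base [Finite G] (hN : F.Narrow) (l : P35) : F.i l ∈ hN.Base := by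
  obtain ⟨k, j, e⟩ := coord_facts.2.2.2.2.2.2 l.1
  have hl : l = (l.1, (1 : Perm (Fin 5))) * ((1 : Perm (Fin 3)), l.2) := by simp
  rw [hl, e, map_mul, map_mul, map_pow, map_pow]
  refine mul_mem (mul_mem (pow_mem ?_ _) (pow_mem ?_ _)) (hN.jay_mem_Base _)
  · rw [show F.i zP = F.τ F.S from (F.τ_S).symm, ← jay_c₅]
    exact hN.τ_mem_Base (hN.jay_mem_Base _)
  · rw [show F.i aP = F.τ F.A' from hN.twisted.τ_A'.symm, ← jay_a']
    exact hN.τ_mem_Base (hN.jay_mem_Base _)

theorem Narrow.nu_A [Finite G] (hN : F.Narrow) :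
    hN.nu (mk55 1 a'P.2 (by decide +kernel)) = F.A := by
  rw [nu_apply]
  show F.jay 1 * F.τ (F.jay (pu 1 * a'P.2)) = F.A
  rw [pu_of_sign (map_one Perm.sign), one_mul, map_one, one_mul, jay_a', hN.twisted.τ_A']

theorem Narrow.nu_A' [Finite G] (hN : F.Narrow) :
    hN.nu (mk55 a'P.2 1 (by decide +kernel)) = F.A' := by
  rw [nu_apply]
  show F.jay a'P.2 * F.τ (F.jay (pu a'P.2 * 1)) = F.A'
  rw [pu_of_sign coord_facts.2.2.1, one_mul, map_one, τ_one, mul_one, jay_a']

theorem Narrow.nu_V [Finite G] (hN : F.Narrow) :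
    hN.nu (mk55 1 vP.2 (by decide +kernel)) = F.V := by
  rw [nu_apply]
  show F.jay 1 * F.τ (F.jay (pu 1 * vP.2)) = F.V
  rw [pu_of_sign (map_one Perm.sign), one_mul, map_one, one_mul]
  rfl

theorem Narrow.nu_T [Finite G] (hN : F.Narrow) :
    hN.nu (mk55 a'P.2 a'P.2 rfl) = F.A * F.A' := by
  rw [← hN.nu_A, ← hN.nu_A', ← map_mul]
  congr 1

theorem Narrow.nu_U [Finite G] (hN : F.Narrow) :
    hN.nu (mk55 (swap 3 4) (swap 3 4) rfl) = F.U := by
  rw [nu_apply]
  show F.jay (swap 3 4) * F.τ (F.jay (pu (swap 3 4) * swap 3 4)) = F.U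
  rw [show pu (swap 3 4) * swap 3 4 = 1 by decide +kernel, map_one, τ_one, mul_one, jay_u]

theorem Narrow.h_not_mem [Finite G] (hN : F.Narrow) : F.h ∉ hN.Base := by
  intro hh
  obtain ⟨g, g', hs, e⟩ := hN.mem_Base.1 hh
  have h : F.τ F.A' = F.A := hN.twisted.τ_A'
  rw [τ_eq, ← e, ← hN.nu_A', ← map_mul, ← map_inv, ← map_mul, ← hN.nu_A] at h
  have h2 := congrArg (fun p : L55 => p.1.2) (hN.nu_injective h)
  simp [mk55] at h2
  exact absurd h2 (by decide +kernel)

/-- The subgroup `(A₅ × A₅).2²`. -/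
def Narrow.Big [Finite G] (hN : F.Narrow) : Subgroup G where
  carrier := {x | x ∈ hN.Base ∨ F.h * x ∈ hN.Base}
  one_mem' := Or.inl (one_mem _)
  mul_mem' := by
    intro x y hx hy
    rcases hx with hx | hx <;> rcases hy with hy | hy
    · exact Or.inl (mul_mem hx hy)
    · refine Or.inr ?_
      have := mul_mem (hN.τ_mem_Base hx) hy
      rw [τ] at this
      simp only [mul_assoc, ← mul_assoc F.h F.h, F.h_sq, one_mul] at this
      exact this
    · refine Or.inr ?_
      rw [← mul_assoc]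
      exact mul_mem hx hy
    · refine Or.inl ?_
      have := mul_mem (hN.τ_mem_Base hx) hy
      rw [τ] at this
      simp only [mul_assoc, ← mul_assoc F.h F.h, F.h_sq, one_mul] at this
      exact this
  inv_mem' := by
    intro x hx
    rcases hx with hx | hx
    · exact Or.inl (inv_mem hx)
    · refine Or.inr ?_
      have := hN.τ_mem_Base (inv_mem hx)
      rw [τ, mul_inv_rev, F.h_inv] at this
      simp only [mul_assoc, F.h_sq, mul_one] at this
      exact this

theorem Narrow.Base_le_Big [Finite G] (hN : F.Narrow) : hN.Base ≤ hN.Big := fun _ h => Or.inl h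

theorem Narrow.h_mem_Big [Finite G] (hN : F.Narrow) : F.h ∈ hN.Big :=
  Or.inr (by rw [F.h_sq]; exact one_mem _)

theorem Narrow.stab_mem_Big [Finite G] (hN : F.Narrow) {g : G} (hg : F.IsStab g) : g ∈ hN.Big := by
  rcases F.normal_D hg with ⟨l, rfl⟩ | ⟨l, rfl⟩
  · exact Or.inl (hN.i_mem_Base l)
  · exact mul_mem hN.h_mem_Big (Or.inl (hN.i_mem_Base l))

end Frame

end CfsgLib.ThreeSym
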