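import Cfsg.Agent.Lib.Recognition.ThreeSym.Centralizers
import Cfsg.Agent.Lib.Involutions.Basic
import Cfsg.Agent.Lib.Components.Basic
import Cfsg.Agent.Lib.Components.FStar
import Cfsg.Prelude.Def_Local

/-!
The exceptional configuration: `G = (A₅ × A₅).2²`.
-/

set_option autoImplicit false
set_option linter.style.haveILetI false
set_option maxRecDepth 10000
set_option synthInstance.maxSize 2000
set_option synthInstance.maxHeartbeats 400000

namespace CfsgLib.ThreeSym

open Subgroup Equiv CfsgLib.ThreeEight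

/-- The alternating group of degree five, as a type. -/
abbrev Alt5 : Type := ↥(alternatingGroup (Fin 5))

theorem exc_facts :
    (∀ k ∈ ([c₅, a'P.2, vP.2] : List (Perm (Fin 5))), ∃ p q : Perm (Fin 5),
      Perm.sign p = 1 ∧ Perm.sign q = 1 ∧ p ^ 5 = 1 ∧ q ^ 5 = 1 ∧ p * q = k) ∧
    (∀ k ∈ ([c₅, a'P.2, vP.2] : List (Perm (Fin 5))), ∃ p q : Perm (Fin 5),
      Perm.sign p = 1 ∧ Perm.sign q = 1 ∧ p * p = 1 ∧ q * q = 1 ∧ p * q = k) ∧
    (∀ k : Perm (Fin 5), k ^ 5 = 1 → Perm.sign k = 1) := by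
  decide +kernel

theorem exists_not_commute {k : Perm (Fin 5)} (hk : k ≠ 1) :
    ∃ c : Perm (Fin 5), Perm.sign c = 1 ∧ k * c ≠ c * k := by
  by_contra h
  push Not at h
  exact hk (coord_facts.1 k (h _ coord_facts.2.1) (h _ coord_facts.2.2.1) (h _ coord_facts.2.2.2.1))

theorem card_L55 : Nat.card L55 = 7200 := by
  have h := (L55 : Subgroup (Perm (Fin 5) × Perm (Fin 5))).card_mul_index
  rw [L55, Subgroup.index_ker, MonoidHom.range_eq_top.2 (fun x => ?_), Subgroup.card_top,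
    Nat.card_prod, Nat.card_eq_fintype_card (α := Perm (Fin 5)), Fintype.card_perm, Fintype.card_fin,
    show Nat.card ℤˣ = 2 by rw [Nat.card_eq_fintype_card]; rfl] at h
  · rw [show Nat.factorial 5 = 120 by decide] at h
    show Nat.card L55 = 7200
    rw [L55]
    omega
  · rcases Int.units_eq_one_or x with rfl | rfl
    · exact ⟨1, map_one _⟩
    · exact ⟨(swap 3 4, 1), by decide +kernel⟩

theorem alt_five_not_solvable : ¬ Group.IsSolvable Alt5 := by
  intro h
  haveI := alternatingGroup.isSimpleGroup_five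
  have hc := IsSimpleGroup.comm_iff_isSolvable.2 h
  have key : ¬ ∀ a b : Alt5, a * b = b * a := by
    intro hab
    have := hab ⟨c₅, Equiv.Perm.mem_alternatingGroup.2 coord_facts.2.1⟩
      ⟨a'P.2, Equiv.Perm.mem_alternatingGroup.2 coord_facts.2.2.1⟩
    exact absurd (congrArg Subtype.val this) (by decide +kernel)
  exact key hc

theorem alt_five_quasisimple : Cfsg.IsQuasisimple Alt5 := by
  haveI := alternatingGroup.isSimpleGroup_five
  refine CfsgLib.Components.isQuasisimple_of_normal ?_ fun N hN hne => ?_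
  · rcases (inferInstance : (_root_.commutator Alt5).Normal).eq_bot_or_eq_top with e | e
    · exfalso
      refine alt_five_not_solvable ⟨⟨1, ?_⟩⟩
      rw [derivedSeries_one, e]
    · exact e
  · rcases hN.eq_bot_or_eq_top with e | e
    · rw [e]; exact bot_le
    · exact absurd e hne

namespace Frame

variable {G : Type*} [Group G] [Finite G] {F : Frame G} (hN : F.Narrow)

/-- The coordinates of `A₅ × A₅`. -/
def Narrow.core (hN : F.Narrow) : Alt5 × Alt5 →* G :=
  hN.nu.comp (((alternatingGroup (Fin 5)).subtype.prodMap (alternatingGroup (Fin 5)).subtype).codRestrict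
    L55 fun p => mem_L55.2 (by
      show Perm.sign (p.1 : Perm (Fin 5)) = Perm.sign (p.2 : Perm (Fin 5))
      rw [Equiv.Perm.mem_alternatingGroup.1 p.1.2, Equiv.Perm.mem_alternatingGroup.1 p.2.2]))

theorem Narrow.core_injective : Function.Injective hN.core := fun p q e => by
  have e' := hN.nu_injective e
  exact Prod.ext (Subtype.ext (congrArg (fun x : L55 => x.1.1) e'))
    (Subtype.ext (congrArg (fun x : L55 => x.1.2) e'))

/-- The subgroup `A₅ × A₅`. -/
def Narrow.Even2 (hN : F.Narrow) : Subgroup G := hN.core.range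

theorem Narrow.mem_Even2 {x : G} :
    x ∈ hN.Even2 ↔ ∃ k k', ∃ h : Perm.sign k = Perm.sign k', Perm.sign k = 1 ∧ hN.nu (mk55 k k' h) = x := by
  constructor
  · rintro ⟨⟨⟨k, hk⟩, ⟨k', hk'⟩⟩, rfl⟩
    exact ⟨k, k', (Equiv.Perm.mem_alternatingGroup.1 hk).trans (Equiv.Perm.mem_alternatingGroup.1 hk').symm,
      Equiv.Perm.mem_alternatingGroup.1 hk, rfl⟩
  · rintro ⟨k, k', h, hk, rfl⟩
    exact ⟨⟨⟨k, Equiv.Perm.mem_alternatingGroup.2 hk⟩, ⟨k', Equiv.Perm.mem_alternatingGroup.2 (h ▸ hk)⟩⟩,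
      rfl⟩

theorem Narrow.Even2_le_Base : hN.Even2 ≤ hN.Base := fun x hx => by
  obtain ⟨k, k', h, -, rfl⟩ := hN.mem_Even2.1 hx
  exact ⟨_, rfl⟩

theorem Narrow.jay_mem_Even2 {p : Perm (Fin 5)} (hp : Perm.sign p = 1) : F.jay p ∈ hN.Even2 :=
  hN.mem_Even2.2 ⟨p, pu p, sign_pu p, hp, (hN.jay_eq p).symm⟩

theorem Narrow.τ_mem_Even2 {x : G} (hx : x ∈ hN.Even2) : F.τ x ∈ hN.Even2 := by
  obtain ⟨k, k', h, hk, rfl⟩ := hN.mem_Even2.1 hx
  exact hN.mem_Even2.2 ⟨k', k, h.symm, h ▸ hk, (hN.τ_nu (mk55 k k' h)).symm⟩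

/-- A subgroup containing both copies contains `A₅ × A₅`. -/
theorem Narrow.Even2_le {M : Subgroup G} (h1 : ∀ p, Perm.sign p = 1 → F.jay p ∈ M)
    (h2 : ∀ p, Perm.sign p = 1 → F.τ (F.jay p) ∈ M) : hN.Even2 ≤ M := fun x hx => by
  obtain ⟨k, k', h, hk, rfl⟩ := hN.mem_Even2.1 hx
  rw [nu_apply]
  exact mul_mem (h1 k hk) (h2 _ (sign_pu_mul h))

/-- An element of order dividing five of the big group lies in `A₅ × A₅`. -/
theorem Narrow.mem_Even2_of_pow_five {r : G} (hr : r ∈ hN.Big) (h5 : r ^ 5 = 1) : r ∈ hN.Even2 := by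
  have ho : Odd (orderOf r) := Odd.of_dvd_nat (by decide) (orderOf_dvd_of_pow_eq_one h5)
  obtain ⟨k, k', hs, rfl⟩ := hN.mem_Base.1 (hN.mem_Base_of_odd hr ho)
  refine hN.mem_Even2.2 ⟨k, k', hs, exc_facts.2.2 k ?_, rfl⟩
  have h : hN.nu (mk55 k k' hs ^ 5) = hN.nu 1 := by rw [map_pow, h5, map_one]
  exact congrArg (fun p : L55 => p.1.1) (hN.nu_injective h)

theorem Narrow.conjugate_U_mem_Big (g : G) : g * F.U * g⁻¹ ∈ hN.Big := by
  set x := g * F.U * g⁻¹ with hx
  have hxo : orderOf x = 2 := by rw [hx, orderOf_conj', F.U_ord]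
  have hne : ¬ IsConj F.A x := fun h => by
    obtain ⟨c, hc⟩ := isConj_iff.1 h
    refine hN.A_not_conj_U (g⁻¹ * c) ?_
    rw [show g⁻¹ * c * F.A * (g⁻¹ * c)⁻¹ = g⁻¹ * (c * F.A * c⁻¹) * g by group, hc, hx]; group
  obtain ⟨i, hi, hiA, hix⟩ := CfsgLib.Involutions.exists_common_involution F.A_ord hxo hne
  have hiB : i ∈ hN.Base := hN.centralizer_A_le hiA
  have hi2 : i * i = 1 := mul_self hi
  exact hN.centralizer_le_Big hiB hi2 (fun e => by rw [e, orderOf_one] at hi; norm_num at hi) hix.symm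

theorem Narrow.Even2_le_closure : hN.Even2 ≤ normalClosure ({F.U} : Set G) := by
  set L := normalClosure ({F.U} : Set G)
  haveI : L.Normal := normalClosure_normal
  have hU : F.U ∈ L := subset_normalClosure (Set.mem_singleton _)
  obtain ⟨k, hk⟩ := F.conj_U_B
  have hA' : F.A' ∈ L := by
    rw [eq_mul_U, ← hk]
    exact mul_mem ((inferInstance : L.Normal).conj_mem _ hU k) hU
  have hinv : ∀ p, Perm.sign p = 1 → p * p = 1 → F.jay p ∈ L := by
    intro p hp hp2
    by_cases hp1 : p = 1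
    · rw [hp1, map_one]; exact one_mem _
    obtain ⟨c, -, hc⟩ := even_invol p hp2 hp1 hp
    rw [← hc, ← jay_conj, jay_a']
    exact (inferInstance : L.Normal).conj_mem _ hA' _
  have hgen : ∀ k ∈ ([c₅, a'P.2, vP.2] : List (Perm (Fin 5))), F.jay k ∈ L := fun k hk => by
    obtain ⟨p, q, hp, hq, hp2, hq2, rfl⟩ := exc_facts.2.1 k hk
    rw [map_mul]
    exact mul_mem (hinv p hp hp2) (hinv q hq hq2)
  have hjay : ∀ p, Perm.sign p = 1 → F.jay p ∈ L := fun p hp =>
    F.jay_mem (by rw [← jay_c₅]; exact hgen _ (by simp)) (by rw [← jay_a']; exact hgen _ (by simp))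
      (by rw [← jay_v]; exact hgen _ (by simp)) hp
  refine hN.Even2_le hjay fun p hp => ?_
  rw [τ_eq]
  exact (inferInstance : L.Normal).conj_mem _ (hjay p hp) _

theorem Narrow.closure_le_Big : normalClosure ({F.U} : Set G) ≤ hN.Big := by
  rw [normalClosure, closure_le]
  intro x hx
  obtain ⟨a, ha, hax⟩ := Group.mem_conjugatesOfSet_iff.1 hx
  rw [Set.mem_singleton_iff] at ha
  subst ha
  obtain ⟨g, rfl⟩ := isConj_iff.1 hax
  exact hN.conjugate_U_mem_Big g

theorem Narrow.normal_Even2 : hN.Even2.Normal := by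
  refine ⟨fun n hn g => ?_⟩
  suffices h : hN.Even2 ≤ hN.Even2.comap (MulAut.conj g).toMonoidHom from h hn
  have h5 : ∀ r ∈ hN.Even2, r ^ 5 = 1 → g * r * g⁻¹ ∈ hN.Even2 := fun r hr e => by
    refine hN.mem_Even2_of_pow_five
      (hN.closure_le_Big (normalClosure_normal.conj_mem _ (hN.Even2_le_closure hr) g)) ?_
    rw [conj_pow, e, mul_one, mul_inv_cancel]
  have hgen : ∀ k ∈ ([c₅, a'P.2, vP.2] : List (Perm (Fin 5))),
      g * F.jay k * g⁻¹ ∈ hN.Even2 ∧ g * F.τ (F.jay k) * g⁻¹ ∈ hN.Even2 := by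
    intro k hk
    obtain ⟨p, q, hp, hq, hp5, hq5, rfl⟩ := exc_facts.1 k hk
    have hj : ∀ p, Perm.sign p = 1 → p ^ 5 = 1 →
        g * F.jay p * g⁻¹ ∈ hN.Even2 ∧ g * F.τ (F.jay p) * g⁻¹ ∈ hN.Even2 := fun p hp hp5 =>
      ⟨h5 _ (hN.jay_mem_Even2 hp) (by rw [← map_pow, hp5, map_one]),
        h5 _ (hN.τ_mem_Even2 (hN.jay_mem_Even2 hp)) (by rw [← τ_pow, ← map_pow, hp5, map_one, τ_one])⟩
    rw [map_mul, τ_mul, ← conj_mul, ← conj_mul]
    exact ⟨mul_mem (hj p hp hp5).1 (hj q hq hq5).1, mul_mem (hj p hp hp5).2 (hj q hq hq5).2⟩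
  refine hN.Even2_le ?_ ?_
  · intro p hp
    exact F.jay_mem (K := hN.Even2.comap (MulAut.conj g).toMonoidHom) (hgen c₅ (by simp)).1
      (hgen a'P.2 (by simp)).1 (hgen vP.2 (by simp)).1 hp
  · intro p hp
    exact F.jay_mem (K := (hN.Even2.comap (MulAut.conj g).toMonoidHom).comap
      (MulAut.conj F.h).toMonoidHom)
      (by show g * (F.h * F.jay c₅ * F.h⁻¹) * g⁻¹ ∈ hN.Even2; rw [← τ_eq]; exact (hgen c₅ (by simp)).2)
      (by show g * (F.h * F.jay a'P.2 * F.h⁻¹) * g⁻¹ ∈ hN.Even2; rw [← τ_eq]; exact (hgen a'P.2 (by simp)).2)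
      (by show g * (F.h * F.jay vP.2 * F.h⁻¹) * g⁻¹ ∈ hN.Even2; rw [← τ_eq]; exact (hgen vP.2 (by simp)).2) hp
      |> fun h => by
        show g * F.τ (F.jay p) * g⁻¹ ∈ hN.Even2
        rw [τ_eq]
        exact h

theorem Narrow.Big_eq_top : hN.Big = ⊤ := by
  haveI : Fact (Nat.Prime 3) := ⟨Nat.prime_three⟩
  haveI := hN.normal_Even2
  obtain ⟨P, hP⟩ := F.sylow
  have hPN : (P : Subgroup G) ≤ hN.Even2 := fun g hg => by
    obtain ⟨x, rfl⟩ := (hP g).1 hg
    have e : nine x = zP ^ x.1.val * sP ^ x.2.val := by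
      apply Prod.ext <;> simp [nine, zP, sP]
    rw [e, map_mul, map_pow, map_pow]
    refine mul_mem (pow_mem ?_ _) (pow_mem ?_ _)
    · rw [show F.i zP = F.τ F.S from (F.τ_S).symm, ← jay_c₅]
      exact hN.τ_mem_Even2 (hN.jay_mem_Even2 coord_facts.2.1)
    · exact hN.jay_mem_Even2 coord_facts.2.1
  have hnorm : normalizer (P : Set G) ≤ hN.Big := fun g hg =>
    hN.stab_mem_Big fun x => (hP _).1 ((mem_normalizer_iff.1 hg _).1 ((hP _).2 ⟨x, rfl⟩))
  rw [← top_le_iff, ← Sylow.normalizer_sup_eq_top' P hPN]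
  exact sup_le hnorm (hN.Even2_le_Base.trans hN.Base_le_Big)

theorem Narrow.cases_top (g : G) : g ∈ hN.Base ∨ F.h * g ∈ hN.Base :=
  (hN.Big_eq_top ▸ mem_top g : g ∈ hN.Big)

theorem Narrow.index_Even2 : hN.Even2.index = 4 := by
  have hB2 : hN.Base.index = 2 := by
    rw [index_eq_two_iff']
    refine ⟨F.h, fun b => ?_⟩
    rcases hN.cases_top b with h | h
    · refine Or.inr ⟨h, fun h' => hN.h_not_mem ?_⟩
      have := mul_mem h' (inv_mem h)
      rwa [mul_inv_cancel_right] at this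
    · refine Or.inl ⟨h, fun h' => hN.h_not_mem ?_⟩
      have := mul_mem h (inv_mem h')
      rwa [mul_inv_cancel_right] at this
  have hG := hN.Base.card_mul_index
  have hcB : Nat.card hN.Base = 7200 := by
    rw [show Nat.card hN.Base = Nat.card L55 from
      Nat.card_congr (MonoidHom.ofInjective hN.nu_injective).toEquiv.symm, card_L55]
  have hcN : Nat.card hN.Even2 = 3600 := by
    rw [show Nat.card hN.Even2 = Nat.card (Alt5 × Alt5) from
      Nat.card_congr (MonoidHom.ofInjective hN.core_injective).toEquiv.symm, Nat.card_prod,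
      nat_card_alternatingGroup, Nat.card_fin 5]
    decide
  rw [hB2, hcB] at hG
  have hN' := hN.Even2.card_mul_index
  rw [hcN, ← hG] at hN'
  omega

theorem Narrow.sq_mem (g : G) : g ^ 2 ∈ hN.Even2 := by
  rw [pow_two]
  rcases hN.cases_top g with h | h
  · obtain ⟨k, k', hs, rfl⟩ := hN.mem_Base.1 h
    refine hN.mem_Even2.2 ⟨k * k, k' * k', by rw [map_mul, map_mul, hs],
      by rw [map_mul, Int.units_mul_self], ?_⟩
    rw [← map_mul hN.nu]; rfl
  · obtain ⟨k, k', hs, e⟩ := hN.mem_Base.1 h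
    have hgg : g * g = F.τ (F.h * g) * (F.h * g) := by
      rw [τ]; simp only [mul_assoc, ← mul_assoc F.h F.h, F.h_sq, one_mul]
    rw [hgg, ← e, hN.τ_nu, ← map_mul]
    exact hN.mem_Even2.2 ⟨k' * k, k * k', by rw [map_mul, map_mul, mul_comm],
      by rw [map_mul, hs, Int.units_mul_self], rfl⟩

theorem Narrow.centralizer_Even2 : centralizer (hN.Even2 : Set G) = ⊥ := by
  rw [eq_bot_iff]
  intro g hg
  have hc : ∀ {x : G}, x ∈ hN.Even2 → Commute g x := fun hx => (mem_centralizer_iff.1 hg _ hx).symm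
  have hA : Commute g F.A := hc (by
    rw [← hN.nu_A]; exact hN.mem_Even2.2 ⟨_, _, _, map_one _, rfl⟩)
  obtain ⟨k, k', hs, rfl⟩ := hN.mem_Base.1 (hN.centralizer_A_le hA)
  have key : ∀ c, Perm.sign c = 1 → k * c = c * k ∧ k' * c = c * k' := fun c hc' => by
    have h1 := hc (x := hN.nu (mk55 c 1 (by rw [hc', map_one]))) (hN.mem_Even2.2 ⟨_, _, _, hc', rfl⟩)
    have h2 := hc (x := hN.nu (mk55 1 c (by rw [hc', map_one])))
      (hN.mem_Even2.2 ⟨_, _, _, map_one _, rfl⟩)
    exact ⟨(hN.commute_nu.1 h1).1, (hN.commute_nu.1 h2).2⟩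
  obtain rfl := coord_facts.1 k (key _ coord_facts.2.1).1 (key _ coord_facts.2.2.1).1
    (key _ coord_facts.2.2.2.1).1
  obtain rfl := coord_facts.1 k' (key _ coord_facts.2.1).2 (key _ coord_facts.2.2.1).2
    (key _ coord_facts.2.2.2.1).2
  exact mem_bot.2 (map_one hN.nu)

theorem Narrow.minimal (K : Subgroup G) (hK : K.Normal) (hle : K ≤ hN.Even2) :
    K = ⊥ ∨ K = hN.Even2 := by
  haveI := alternatingGroup.isSimpleGroup_five
  let j₁ : Alt5 →* G := F.jay.comp (alternatingGroup (Fin 5)).subtype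
  rcases (hK.comap j₁).eq_bot_or_eq_top with e | e
  · left
    rw [eq_bot_iff]
    intro n hn
    obtain ⟨k, k', hs, hk, rfl⟩ := hN.mem_Even2.1 (hle hn)
    have hfirst : ∀ k k' (hs : Perm.sign k = Perm.sign k'), Perm.sign k = 1 →
        hN.nu (mk55 k k' hs) ∈ K → k = 1 := by
      intro k k' hs hk hm
      by_contra hne
      obtain ⟨c, hc, hkc⟩ := exists_not_commute hne
      set w := hN.nu (mk55 c 1 (by rw [hc, map_one]))
      have hmem : hN.nu (mk55 k k' hs) * (w * (hN.nu (mk55 k k' hs))⁻¹ * w⁻¹) ∈ K :=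
        mul_mem hm (hK.conj_mem _ (inv_mem hm) _)
      have hsq : Perm.sign (k * (c * k⁻¹ * c⁻¹)) = 1 := by
        simp [map_mul, map_inv, hk, hc]
      have heq : hN.nu (mk55 k k' hs) * (w * (hN.nu (mk55 k k' hs))⁻¹ * w⁻¹) =
          F.jay (k * (c * k⁻¹ * c⁻¹)) := by
        rw [hN.jay_eq]
        show hN.nu (mk55 k k' hs) * (hN.nu (mk55 c 1 (by rw [hc, map_one])) *
          (hN.nu (mk55 k k' hs))⁻¹ * (hN.nu (mk55 c 1 (by rw [hc, map_one])))⁻¹) = _
        rw [← map_inv, ← map_inv, ← map_mul, ← map_mul, ← map_mul]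
        refine congrArg hN.nu (Subtype.ext (Prod.ext rfl ?_))
        show k' * (1 * k'⁻¹ * 1⁻¹) = pu (k * (c * k⁻¹ * c⁻¹))
        rw [pu_of_sign hsq]; group
      rw [heq] at hmem
      have h1 : (⟨k * (c * k⁻¹ * c⁻¹), Equiv.Perm.mem_alternatingGroup.2 hsq⟩ : Alt5) = 1 := by
        have : (⟨k * (c * k⁻¹ * c⁻¹), Equiv.Perm.mem_alternatingGroup.2 hsq⟩ : Alt5) ∈ K.comap j₁ := hmem
        rwa [e, mem_bot] at this
      have h1' : k * (c * k⁻¹ * c⁻¹) = 1 := congrArg Subtype.val h1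
      apply hkc
      calc k * c = k * (c * k⁻¹ * c⁻¹) * (c * k) := by group
        _ = c * k := by rw [h1', one_mul]
    obtain rfl := hfirst k k' hs hk hn
    have hn' : hN.nu (mk55 k' 1 hs.symm) ∈ K := by
      have := hK.conj_mem _ hn F.h
      rw [← τ_eq, hN.τ_nu] at this
      exact this
    obtain rfl := hfirst k' 1 hs.symm (hs ▸ hk) hn'
    exact mem_bot.2 (map_one hN.nu)
  · right
    refine le_antisymm hle (hN.Even2_le ?_ ?_)
    · intro p hp
      exact show (⟨p, Equiv.Perm.mem_alternatingGroup.2 hp⟩ : Alt5) ∈ K.comap j₁ by rw [e]; exact mem_top _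
    · intro p hp
      rw [τ_eq]
      refine hK.conj_mem _ ?_ _
      exact show (⟨p, Equiv.Perm.mem_alternatingGroup.2 hp⟩ : Alt5) ∈ K.comap j₁ by rw [e]; exact mem_top _

theorem Narrow.generalizedFitting_eq : Cfsg.generalizedFittingSubgroup G = hN.Even2 := by
  haveI hn := hN.normal_Even2
  have hbot : ∀ {M : Subgroup G}, ⁅M, hN.Even2⁆ = ⊥ → M = ⊥ := fun h =>
    eq_bot_iff.2 (hN.centralizer_Even2 ▸ CfsgLib.Components.le_centralizer_of_commutator_eq_bot h)
  let j₁ : Alt5 →* G := F.jay.comp (alternatingGroup (Fin 5)).subtype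
  have hj₁ : Function.Injective j₁ := F.jay_injective.comp Subtype.val_injective
  have hle : j₁.range ≤ hN.Even2 := by
    rintro _ ⟨p, rfl⟩
    exact hN.jay_mem_Even2 (Equiv.Perm.mem_alternatingGroup.1 p.2)
  have hnorm : (j₁.range.subgroupOf hN.Even2).Normal := by
    refine normal_subgroupOf_of_le_normalizer fun x hx => mem_normalizer_fintype ?_
    rintro _ ⟨p, rfl⟩
    obtain ⟨k, k', hs, hk, rfl⟩ := hN.mem_Even2.1 hx
    refine ⟨⟨k * p * k⁻¹, Equiv.Perm.mem_alternatingGroup.2 (by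
      rw [map_mul, map_mul, map_inv, hk, Equiv.Perm.mem_alternatingGroup.1 p.2]; rfl)⟩, ?_⟩
    show F.jay (k * p * k⁻¹) = hN.nu (mk55 k k' hs) * F.jay p * (hN.nu (mk55 k k' hs))⁻¹
    rw [hN.jay_eq, hN.jay_eq]
    refine (hN.nu_conj hs (sign_pu _) _ rfl ?_).symm
    have hp := Equiv.Perm.mem_alternatingGroup.1 p.2
    rw [pu_of_sign hp, pu_of_sign (by rw [map_mul, map_mul, map_inv, hk, hp]; rfl)]
    group
  have hcomp : Cfsg.IsComponent j₁.range := by
    refine ⟨?_, CfsgLib.Components.isQuasisimple_of_mulEquiv alt_five_quasisimple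
      (MonoidHom.ofInjective hj₁)⟩
    have := hnorm.isSubnormal.trans' hn.isSubnormal
    rwa [map_subgroupOf_eq_of_le hle] at this
  refine le_antisymm (sup_le ?_ ?_) (hN.Even2_le ?_ ?_)
  · refine sSup_le fun Q hQ => ?_
    rcases CfsgLib.Components.le_or_commutator_eq_bot hQ hn.isSubnormal with h | h
    · exact h
    · exact absurd (hbot h) (CfsgLib.Components.component_ne_bot hQ)
  · refine sSup_le fun M ⟨hM, hMnil⟩ => ?_
    rcases hN.minimal (M ⊓ hN.Even2) inferInstance inf_le_right with h | h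
    · refine le_of_eq_of_le (hbot ?_) bot_le
      rw [eq_bot_iff]
      exact (commutator_le_inf M hN.Even2).trans h.le
    · exfalso
      haveI := hMnil
      have hle' : hN.Even2 ≤ M := h ▸ inf_le_left
      haveI : Group.IsSolvable M := inferInstance
      have hsol : Group.IsSolvable hN.Even2 :=
        Group.isSolvable_of_isSolvable_injective (inclusion_injective hle')
      refine alt_five_not_solvable ?_
      exact Group.isSolvable_of_isSolvable_injective
        (f := (inclusion hle).comp (MonoidHom.ofInjective hj₁).toMonoidHom)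
        ((inclusion_injective hle).comp (MonoidHom.ofInjective hj₁).injective)
  · intro p hp
    exact CfsgLib.Components.layer_le_generalizedFitting
      (CfsgLib.Components.component_le_layer hcomp ⟨⟨p, Equiv.Perm.mem_alternatingGroup.2 hp⟩, rfl⟩)
  · intro p hp
    refine CfsgLib.Components.layer_le_generalizedFitting
      (CfsgLib.Components.component_le_layer (CfsgLib.Components.isComponent_conj F.h hcomp) ?_)
    refine ⟨F.jay p, ⟨⟨p, Equiv.Perm.mem_alternatingGroup.2 hp⟩, rfl⟩, ?_⟩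
    show F.h * F.jay p * F.h⁻¹ = F.τ (F.jay p)
    rw [τ_eq]

include hN in
/-- The exceptional configuration. -/
theorem Narrow.conclusion :
    ∃ N : Subgroup G, N.Normal ∧ Cfsg.generalizedFittingSubgroup G = N ∧
      Nonempty (N ≃* Alt5 × Alt5) ∧ (∀ K : Subgroup G, K.Normal → K ≤ N → K = ⊥ ∨ K = N) ∧
      N.index = 4 ∧ ∀ g : G, g ^ 2 ∈ N :=
  ⟨hN.Even2, hN.normal_Even2, hN.generalizedFitting_eq, ⟨(MonoidHom.ofInjective hN.core_injective).symm⟩,
    hN.minimal, hN.index_Even2, hN.sq_mem⟩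

end Frame

end CfsgLib.ThreeSym
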