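import Cfsg.Agent.Lib.Recognition.ThreeSym.Frame

/-!
The coordinates exist.
-/

set_option autoImplicit false
set_option linter.style.haveILetI false
set_option maxRecDepth 10000
set_option synthInstance.maxSize 2000
set_option synthInstance.maxHeartbeats 400000

namespace CfsgLib.ThreeSym

open Subgroup Equiv CfsgLib.ThreeEight

variable {G : Type*} [Group G]

theorem three_conj_c₅ : ∀ b : Perm (Fin 5), b ^ 3 = 1 →
    ∃ b' : Perm (Fin 5), ∃ k : Fin 3, b' * b * b'⁻¹ = c₅ ^ k.val := by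
  decide +kernel

theorem exists_facts :
    (∀ l : P35, l * (zP * sP) = zP * sP * l → l * zP = zP * l ∧ l * sP = sP * l) ∧
    (∀ x : Fin 3 × Fin 3, ∀ k : Fin 2, (nine x * uP ^ k.val) * (nine x * uP ^ k.val) = 1 →
      nine x * uP ^ k.val = 1 ∨ nine x * uP ^ k.val = uP) ∧
    sP⁻¹ * zP⁻¹ ≠ zP * sP ∧ uP ≠ 1 ∧ zP ≠ 1 ∧
    (∀ m ∈ ([1, aP, bP, aP * bP] : List P35), m * m = 1) := by
  decide +kernel

theorem normal_three₅ : (eZ : P35) = zP := by decide +kernel

/-- The frame from the hypotheses of the recognition. -/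
theorem exists_frame [Finite G] (P : Sylow 3 G) (D : Subgroup G) (hDP : D = P) (y z : G)
    (hgen : closure {y, z} = D) (hcomm : IsMulCommutative D) (hcard : Nat.card D = 9)
    (hexp : ∀ a ∈ D, a ^ 3 = 1)
    (hN : Nat.card (normalizer (D : Set G)) = 144)
    (hyn : (D.subgroupOf (centralizer ({y} : Set G))).Normal)
    (hycard : Nat.card (centralizer ({y} : Set G)) = 36)
    (hysq : ∀ g ∈ centralizer ({y} : Set G), g ^ 2 ∈ D)
    (eL : normalizer (zpowers z : Set G) ≃* P35) :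
    ∃ F : Frame G, ∀ g, g ∈ D ↔ ∃ x, g = F.i (nine x) := by
  classical
  obtain ⟨hf1, hf2, hf3, huP, hzP, hmsq⟩ := exists_facts
  have hyD : y ∈ D := hgen ▸ subset_closure (Set.mem_insert _ _)
  have hzD : z ∈ D := hgen ▸ subset_closure (Set.mem_insert_of_mem _ rfl)
  have hcom : ∀ {v w : G}, v ∈ D → w ∈ D → v * w = w * v := fun {v w} hv hw =>
    congrArg Subtype.val (hcomm.is_comm.comm (⟨v, hv⟩ : D) ⟨w, hw⟩)
  have hDle : ∀ {w : G}, w ∈ D → D ≤ normalizer ((zpowers w : Subgroup G) : Set G) := fun {w} hw g hg =>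
    mem_normalizer_zpowers (Or.inl (by rw [hcom hg hw]; group))
  have hz1 : z ≠ 1 := by
    rintro rfl
    have hle : D ≤ zpowers y := by
      rw [← hgen, closure_le]
      rintro v (rfl | rfl)
      · exact mem_zpowers _
      · exact one_mem _
    have h := (Subgroup.card_le_of_le hle).trans (le_of_eq (Nat.card_zpowers y))
    have h3 := Nat.le_of_dvd (by norm_num) (orderOf_dvd_of_pow_eq_one (hexp y hyD))
    omega
  set N := normalizer ((zpowers z : Subgroup G) : Set G) with hNdef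
  let i₀ : P35 →* G := N.subtype.comp eL.symm.toMonoidHom
  have hi₀ : Function.Injective i₀ := N.subtype_injective.comp eL.symm.injective
  have hr₀ : ∀ g, g ∈ N → ∃ l, i₀ l = g := fun g hg => ⟨eL ⟨g, hg⟩, by simp [i₀]⟩
  have hr₀' : ∀ l, i₀ l ∈ N := fun l => (eL.symm l).2
  obtain ⟨l, hl⟩ := hr₀ z (hDle hzD hzD)
  have hl3 : l ^ 3 = 1 := hi₀ (by rw [map_pow, hl, map_one, hexp z hzD])
  have hl1 : l ≠ 1 := fun e => hz1 (by rw [← hl, e, map_one])
  have hlz : l = zP ∨ l = zP⁻¹ := by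
    rw [← normal_three₅]
    refine normal_three hl3 hl1 fun m _ => ?_
    have hmem : i₀ (m * l * m⁻¹) ∈ zpowers z := by
      rw [map_mul, map_mul, map_inv, hl]
      exact (mem_normalizer_iff.1 (hr₀' m) z).1 (mem_zpowers z)
    rcases mem_zpowers_three (hexp z hzD) hmem with e | e | e
    · exfalso
      rw [map_mul, map_mul, map_inv, hl, mul_inv_eq_one, mul_eq_left] at e
      exact hz1 e
    · exact Or.inl (hi₀ (e.trans hl.symm))
    · exact Or.inr (hi₀ (e.trans (by rw [map_inv, hl])))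
  have hzp : zpowers (i₀ zP) = zpowers z := by
    rcases hlz with rfl | rfl
    · rw [hl]
    · rw [← hl, map_inv, zpowers_inv]
  have hZD : i₀ zP ∈ D := zpowers_le.2 hzD (hzp ▸ mem_zpowers _)
  -- straighten another element of `D`
  obtain ⟨x, hxD, hxz⟩ : ∃ x ∈ D, x ∉ zpowers z := by
    by_contra h
    push Not at h
    have h' := (Subgroup.card_le_of_le (show D ≤ zpowers z from h)).trans
      (le_of_eq (Nat.card_zpowers z))
    have h3 := Nat.le_of_dvd (by norm_num) (orderOf_dvd_of_pow_eq_one (hexp z hzD))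
    omega
  obtain ⟨v, hv⟩ := hr₀ x (hDle hzD hxD)
  have hv3 : v ^ 3 = 1 := hi₀ (by rw [map_pow, hv, map_one, hexp x hxD])
  have hvZ : v * zP = zP * v := hi₀ (by rw [map_mul, map_mul, hv, hcom hxD hZD])
  obtain ⟨b', k, hk⟩ := three_conj_c₅ v.2 (congrArg Prod.snd hv3)
  obtain ⟨p, hp⟩ := three_fst v.1 (congrArg Prod.fst hvZ)
  set m : P35 := (1, b') with hm
  let i₁ : P35 →* G := i₀.comp (MulAut.conj m⁻¹).toMonoidHom
  have hi₁ : ∀ w, i₁ w = i₀ (m⁻¹ * w * m) := fun w => by simp [i₁]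
  have hi₁inj : Function.Injective i₁ := hi₀.comp (MulAut.conj m⁻¹).injective
  have hmZ : m⁻¹ * zP * m = zP := by
    apply Prod.ext <;> simp [hm, zP]
  have hZ₁ : i₁ zP = i₀ zP := by rw [hi₁, hmZ]
  have hx₁ : i₁ (nine (p, k)) = x := by
    rw [hi₁, ← hv]
    congr 1
    have e : m * v * m⁻¹ = nine (p, k) := by
      apply Prod.ext
      · simp only [hm, Prod.fst_mul, Prod.fst_inv, nine, one_mul, inv_one, mul_one, hp]
        rfl
      · simpa [hm, nine] using hk
    rw [← e]; group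
  have hk0 : k ≠ 0 := by
    rintro rfl
    apply hxz
    have e : nine (p, 0) = zP ^ p.val := by
      apply Prod.ext <;> simp [nine, zP, Prod.pow_fst, Prod.pow_snd]
    rw [← hx₁, ← hzp, ← hZ₁, e, map_pow]
    exact pow_mem (mem_zpowers _) _
  have hz₁ : i₁ zP ∈ D := hZ₁ ▸ hZD
  have hspan : ∀ p k, k ≠ 0 → ∀ q : Fin 3 × Fin 3, ∃ a b : Fin 3,
      nine q = zP ^ a.val * nine (p, k) ^ b.val := by decide +kernel
  have hnine : ∀ q, i₁ (nine q) ∈ D := fun q => by
    obtain ⟨a, b, e⟩ := hspan p k hk0 q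
    rw [e, map_mul, map_pow, map_pow, hx₁]
    exact mul_mem (pow_mem hz₁ _) (pow_mem hxD _)
  have hD₁ : ∀ g, g ∈ D ↔ ∃ q, g = i₁ (nine q) := by
    refine fun g => ⟨fun hg => ?_, fun ⟨q, hq⟩ => hq ▸ hnine q⟩
    have hb : Function.Bijective fun q => (⟨i₁ (nine q), hnine q⟩ : D) :=
      (Nat.bijective_iff_injective_and_card _).2
        ⟨fun a b h => by
          have h' : i₁ (nine a) = i₁ (nine b) := congrArg (fun d : D => (d : G)) h
          exact nine_injective (hi₁inj h'), by simp [hcard]⟩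
    obtain ⟨q, hq⟩ := hb.2 ⟨g, hg⟩
    exact ⟨q, (congrArg Subtype.val hq).symm⟩
  have hrange₁ : i₁.range = normalizer ((zpowers (i₁ zP) : Subgroup G) : Set G) := by
    rw [hZ₁, hzp]
    ext g
    refine ⟨?_, fun hg => ?_⟩
    · rintro ⟨w, rfl⟩; rw [hi₁]; exact hr₀' _
    · obtain ⟨w, hw⟩ := hr₀ g hg
      exact ⟨m * w * m⁻¹, by rw [hi₁, ← hw]; congr 1; group⟩
  -- the other line
  have hcz : Nat.card (centralizer ({i₁ zP} : Set G)) = 360 := card_centralizer_of_range hi₁inj hrange₁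
  obtain ⟨g, hgD, hgZ⟩ : ∃ g ∈ normalizer (D : Set G), g ∉ i₁.range := by
    by_contra h
    push Not at h
    let T : Finset P35 := Finset.univ.filter fun l : P35 => ∃ x, l * sP * l⁻¹ = nine x
    have hs : ∀ g : normalizer (D : Set G), ∃ l : T, i₁ l = g := fun g => by
      obtain ⟨w, hw⟩ := h g g.2
      obtain ⟨q, hq⟩ := (hD₁ _).1 ((mem_normalizer_iff.1 g.2 _).1 (hnine (0, 1)))
      rw [nine_zP.2.1, ← hw, ← map_inv, ← map_mul, ← map_mul] at hq
      exact ⟨⟨w, Finset.mem_filter.2 ⟨Finset.mem_univ _, q, hi₁inj hq⟩⟩, hw⟩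
    choose f hf using hs
    have hle := Nat.card_le_card_of_injective f fun a b e => Subtype.ext (by rw [← hf a, ← hf b, e])
    rw [hN, Nat.card_eq_fintype_card, Fintype.card_coe, card_stab] at hle
    omega
  obtain ⟨q, hq⟩ := (hD₁ _).1 ((mem_normalizer_iff.1 hgD _).1 hz₁)
  have hcq : Nat.card (centralizer ({i₁ (nine q)} : Set G)) = 360 := by
    rw [← hq, card_centralizer_conj, hcz]
  have hq1 : q.2 ≠ 0 := by
    intro e
    have hl : ∀ q : Fin 3 × Fin 3, q.2 = 0 → nine q = 1 ∨ nine q = zP ∨ nine q = zP⁻¹ := by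
      decide +kernel
    rcases hl q e with e | e | e <;> rw [e] at hq
    · rw [map_one, mul_inv_eq_one, mul_eq_left] at hq
      exact hzP (hi₁inj (hq.trans (map_one i₁).symm))
    · exact hgZ (by rw [hrange₁]; exact mem_normalizer_zpowers (Or.inl hq))
    · exact hgZ (by rw [hrange₁]; exact mem_normalizer_zpowers (Or.inr (by rw [hq, map_inv])))
  -- the stabilizer has index two, so the image of `z` is on the line of `s`
  have haD : ∀ x, ∃ y, aP * nine x * aP⁻¹ = nine y := fun x => small_facts.1 aP (by simp) x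
  have hnormA : i₁ aP ∈ normalizer (D : Set G) := by
    refine Subgroup.mem_normalizer_fintype ?_
    intro d hd
    obtain ⟨x, rfl⟩ := (hD₁ d).1 hd
    obtain ⟨y, hy⟩ := haD x
    exact (hD₁ _).2 ⟨y, by rw [← map_inv, ← map_mul, ← map_mul, hy]⟩
  have hq0 : q.1 = 0 := by
    by_contra hq0
    set R : Subgroup ↥(normalizer (D : Set G)) := i₁.range.subgroupOf _ with hR
    have hcardR : Nat.card R = 72 := by
      let T : Finset P35 := Finset.univ.filter fun l : P35 => ∃ x, l * sP * l⁻¹ = nine x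
      have hmem : ∀ l : T, i₁ (l : P35) ∈ normalizer (D : Set G) := fun l => by
        obtain ⟨hs, hz, -⟩ := stab_conj (l : P35) (Finset.mem_filter.1 l.2).2
        refine Subgroup.mem_normalizer_fintype fun d hd => ?_
        obtain ⟨x, rfl⟩ := (hD₁ d).1 hd
        have e : ∀ l x : P35, i₁ l * i₁ x * (i₁ l)⁻¹ = i₁ (l * x * l⁻¹) := fun l x => by simp
        rw [show nine x = zP ^ x.1.val * sP ^ x.2.val by
          apply Prod.ext <;> simp [nine, zP, sP, Prod.pow_fst, Prod.pow_snd], e,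
          ← conj_mul, ← conj_pow, ← conj_pow, map_mul, map_pow, map_pow]
        refine mul_mem (pow_mem ?_ _) (pow_mem ?_ _)
        · rcases hz with h | h <;> rw [h]
          exacts [hz₁, by rw [map_inv]; exact inv_mem hz₁]
        · have hs₁ : i₁ sP ∈ D := by rw [← nine_zP.2.1]; exact hnine _
          rcases hs with h | h <;> rw [h]
          exacts [hs₁, by rw [map_inv]; exact inv_mem hs₁]
      have hb : Function.Bijective fun l : T =>
          (⟨⟨i₁ (l : P35), hmem l⟩, mem_subgroupOf.2 ⟨_, rfl⟩⟩ : R) := by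
        refine ⟨fun a b e => Subtype.ext (hi₁inj (congrArg (fun r : R => ((r : ↥(normalizer (D : Set G))) : G)) e)), ?_⟩
        rintro ⟨⟨g', hg'⟩, hr⟩
        obtain ⟨w, hw⟩ := mem_subgroupOf.1 hr
        obtain ⟨x, hx⟩ := (hD₁ _).1 ((mem_normalizer_iff.1 hg' _).1 (hnine (0, 1)))
        have hw' : i₁ w = g' := hw
        rw [nine_zP.2.1, ← hw', ← map_inv, ← map_mul, ← map_mul] at hx
        exact ⟨⟨w, Finset.mem_filter.2 ⟨Finset.mem_univ _, x, hi₁inj hx⟩⟩,
          Subtype.ext (Subtype.ext hw)⟩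
      rw [← Nat.card_eq_of_bijective _ hb, Nat.card_eq_fintype_card, Fintype.card_coe]
      exact card_stab
    have hidx : R.index = 2 := by
      have := R.card_mul_index
      rw [hcardR, hN] at this
      omega
    haveI := Subgroup.normal_of_index_eq_two hidx
    have hc := (inferInstance : R.Normal).conj_mem ⟨i₁ aP, hnormA⟩ (mem_subgroupOf.2 ⟨aP, rfl⟩)
      ⟨g⁻¹, inv_mem hgD⟩
    obtain ⟨w, hw⟩ := mem_subgroupOf.1 hc
    have hw' : i₁ w = g⁻¹ * i₁ aP * g := by simpa using hw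
    have e1 : i₁ (aP * nine q * aP⁻¹) = g * i₁ (w * zP * w⁻¹) * g⁻¹ := by
      simp only [map_mul, map_inv, hw', ← hq]; group
    rcases conj_zP w with e | e <;> rw [e] at e1
    · exact (aP_nine q hq0 hq1).1 (hi₁inj (e1.trans hq))
    · exact (aP_nine q hq0 hq1).2 (hi₁inj (by rw [e1, map_inv, map_inv, ← hq]; group))
  have hcs : Nat.card (centralizer ({i₁ sP} : Set G)) = 360 := by
    have hl : ∀ q : Fin 3 × Fin 3, q.1 = 0 → q.2 ≠ 0 → nine q = sP ∨ nine q = sP⁻¹ := by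
      decide +kernel
    rcases hl q hq0 hq1 with e | e <;> rw [e] at hcq
    · exact hcq
    · rwa [map_inv, centralizer_inv] at hcq
  -- normalize `y`
  obtain ⟨r, hr⟩ := (hD₁ y).1 hyD
  have hr12 : r.1 ≠ 0 ∧ r.2 ≠ 0 := by
    have hl : ∀ r : Fin 3 × Fin 3, r.1 = 0 ∨ r.2 = 0 → nine r = 1 ∨ nine r = zP ∨ nine r = zP⁻¹ ∨
        nine r = sP ∨ nine r = sP⁻¹ := by decide +kernel
    by_contra hc
    rcases hl r (by tauto) with e | e | e | e | e <;> rw [e] at hr <;>
      simp only [hr, map_one, map_inv, centralizer_inv, hcz, hcs] at hycard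
    · have : Nat.card (centralizer ({i₁ zP} : Set G)) ≤ 36 := by
        rw [← hycard]
        exact Subgroup.card_le_of_le fun g _ => mem_centralizer_singleton_iff.2 (by simp)
      omega
    all_goals omega
  obtain ⟨m₂, hm₂, hm₂'⟩ := conj_off r hr12.1 hr12.2
  let i : P35 →* G := i₁.comp (MulAut.conj m₂⁻¹).toMonoidHom
  have hi : ∀ w, i w = i₁ (m₂⁻¹ * w * m₂) := fun w => by simp [i]
  have hiinj : Function.Injective i := hi₁inj.comp (MulAut.conj m₂⁻¹).injective
  have hiy : i (zP * sP) = y := by rw [hi, ← hm₂', hr]; congr 1; group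
  have hinv₂ : m₂⁻¹ = m₂ := inv_eq_of_mul_eq_one_right (hmsq m₂ hm₂)
  have hD : ∀ g, g ∈ D ↔ ∃ x, g = i (nine x) := fun g => by
    rw [hD₁]
    constructor
    · rintro ⟨x, rfl⟩
      obtain ⟨x', hx'⟩ := small_facts.1 m₂ hm₂ x
      exact ⟨x', by rw [hi, ← hx']; congr 1; group⟩
    · rintro ⟨x, rfl⟩
      obtain ⟨x', hx'⟩ := small_facts.1 m₂ hm₂ x
      exact ⟨x', by rw [hi, ← hx', hinv₂]⟩
  have hzpi : zpowers (i zP) = zpowers (i₁ zP) := by
    rw [hi]
    have e := conj_zP m₂⁻¹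
    rw [inv_inv] at e
    rcases e with e | e <;> rw [e]
    rw [map_inv, zpowers_inv]
  have hrange : i.range = normalizer ((zpowers (i zP) : Subgroup G) : Set G) := by
    rw [hzpi, ← hrange₁]
    ext g
    exact ⟨fun ⟨w, hw⟩ => ⟨_, hw⟩, fun ⟨w, hw⟩ =>
      ⟨m₂ * w * m₂⁻¹, by rw [hi, ← hw]; congr 1; group⟩⟩
  have hci : Nat.card (centralizer ({i zP} : Set G)) = 360 := card_centralizer_of_range hiinj hrange
  have hciy : Nat.card (centralizer ({i (zP * sP)} : Set G)) = 36 := by rw [hiy, hycard]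
  have hyn' : ∀ g, g * y = y * g → ∀ d ∈ D, g * d * g⁻¹ ∈ D := fun g hg d hd =>
    mem_subgroupOf.1 (hyn.conj_mem ⟨d, mem_centralizer_singleton_iff.2 (hcom hd hyD)⟩
      (mem_subgroupOf.2 hd) ⟨g, mem_centralizer_singleton_iff.2 hg⟩)
  have hzi : i zP ∈ D := (hD _).2 ⟨(1, 0), by rw [nine_zP.1]⟩
  have hsi : i sP ∈ D := (hD _).2 ⟨(0, 1), by rw [nine_zP.2.1]⟩
  -- the swap
  obtain ⟨g, hgy, hgzs⟩ : ∃ g, g * y = y * g ∧ ¬ (g * i zP = i zP * g ∧ g * i sP = i sP * g) := by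
    by_contra h
    push Not at h
    have hs : ∀ g : centralizer ({y} : Set G), ∃ p : (Fin 3 × Fin 3) × Fin 2,
        i (nine p.1 * uP ^ p.2.val) = (g : G) := fun g => by
      obtain ⟨h1, h2⟩ := h g (mem_centralizer_singleton_iff.1 g.2)
      obtain ⟨x, k, hx⟩ := cent_nine_G hiinj hrange h1 h2
      exact ⟨(x, k), by rw [hx, map_mul, map_pow]⟩
    choose f hf using hs
    have hle := Nat.card_le_card_of_injective f fun a b e => Subtype.ext (by rw [← hf a, ← hf b, e])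
    simp [hycard] at hle
  set h₀ := g ^ 3 with hh₀
  have hg2 : g ^ 2 ∈ D := hysq g (mem_centralizer_singleton_iff.2 hgy)
  have hh₀2 : h₀ * h₀ = 1 := by
    rw [hh₀, ← pow_add, show 3 + 3 = 2 * 3 from rfl, pow_mul, hexp _ hg2]
  have hh₀y : h₀ * y = y * h₀ := ((show Commute g y from hgy).pow_left 3).eq
  have hh₀zs : ¬ (h₀ * i zP = i zP * h₀ ∧ h₀ * i sP = i sP * h₀) := by
    rintro ⟨h1, h2⟩
    refine hgzs ⟨?_, ?_⟩
    · have e : g = h₀ * (g ^ 2)⁻¹ := by rw [hh₀, pow_succ' g 2]; group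
      rw [e]
      exact ((show Commute h₀ _ from h1).mul_left ((show Commute (g ^ 2) (i zP) from hcom hg2 hzi).inv_left)).eq
    · have e : g = h₀ * (g ^ 2)⁻¹ := by rw [hh₀, pow_succ' g 2]; group
      rw [e]
      exact ((show Commute h₀ _ from h2).mul_left ((show Commute (g ^ 2) (i sP) from hcom hg2 hsi).inv_left)).eq
  have hh₀inv : h₀⁻¹ = h₀ := inv_eq_of_mul_eq_one_right hh₀2
  have hcj : ∀ w, h₀ * w * h₀ = h₀ * w * h₀⁻¹ := fun w => by rw [hh₀inv]
  obtain ⟨r, hr⟩ := (hD _).1 (hyn' h₀ hh₀y _ hzi)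
  have hcr : Nat.card (centralizer ({i (nine r)} : Set G)) = 360 := by
    rw [← hr, card_centralizer_conj, hci]
  have hh₀y' : h₀ * i zP * h₀ * (h₀ * i sP * h₀) = i zP * i sP := by
    rw [← map_mul, hiy, hcj, hcj,
      show h₀ * i zP * h₀⁻¹ * (h₀ * i sP * h₀⁻¹) = h₀ * i (zP * sP) * h₀⁻¹ by rw [map_mul]; group,
      hiy, hh₀y, mul_inv_cancel_right]
  have hh₀z : h₀ * i zP * h₀ = i sP := by
    rw [hcj, hr]
    have hl : ∀ r : Fin 3 × Fin 3, nine r = 1 ∨ nine r = zP ∨ nine r = zP⁻¹ ∨ nine r = sP ∨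
        nine r = sP⁻¹ ∨ (r.1 ≠ 0 ∧ r.2 ≠ 0) := by decide +kernel
    have hzrange : ∀ e : h₀ * i zP * h₀⁻¹ = i zP ∨ h₀ * i zP * h₀⁻¹ = (i zP)⁻¹, False := fun e => by
      obtain ⟨w, hw⟩ := mem_range_of_normalizer hrange e
      obtain ⟨w1, w2⟩ := hf1 w (hiinj (by rw [map_mul i w (zP * sP), map_mul i (zP * sP) w, hw, hiy, hh₀y]))
      exact hh₀zs ⟨by rw [← hw, ← map_mul, ← map_mul, w1], by rw [← hw, ← map_mul, ← map_mul, w2]⟩
    rcases hl r with e | e | e | e | e | ⟨e1, e2⟩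
    · rw [e, map_one, mul_inv_eq_one, mul_eq_left] at hr
      exact absurd (hiinj (hr.trans (map_one i).symm)) hzP
    · exact (hzrange (Or.inl (by rw [hr, e]))).elim
    · exact (hzrange (Or.inr (by rw [hr, e, map_inv]))).elim
    · rw [e]
    · exfalso
      have e1 : h₀ * i zP * h₀ = i sP⁻¹ := by rw [hcj, hr, e]
      have e2 : h₀ * i sP * h₀ = i zP⁻¹ := by
        rw [map_inv] at e1 ⊢
        have e3 : i sP = (h₀ * i zP * h₀)⁻¹ := by rw [e1, inv_inv]
        rw [e3, mul_inv_rev, mul_inv_rev, hh₀inv]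
        calc h₀ * (h₀ * ((i zP)⁻¹ * h₀)) * h₀ = (h₀ * h₀) * (i zP)⁻¹ * (h₀ * h₀) := by group
          _ = (i zP)⁻¹ := by rw [hh₀2, one_mul, mul_one]
      rw [e1, e2, ← map_mul, ← map_mul] at hh₀y'
      exact hf3 (hiinj hh₀y')
    · obtain ⟨m, -, hm⟩ := conj_off r e1 e2
      rw [← card_centralizer_conj (i m), ← map_inv, ← map_mul, ← map_mul, hm, hciy] at hcr
      omega
  have hh₀s : h₀ * i sP * h₀ = i zP := by
    rw [← hh₀z]
    calc h₀ * (h₀ * i zP * h₀) * h₀ = (h₀ * h₀) * i zP * (h₀ * h₀) := by group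
      _ = i zP := by rw [hh₀2, one_mul, mul_one]
  have hτmul : ∀ v w, h₀ * v * h₀ * (h₀ * w * h₀) = h₀ * (v * w) * h₀ := fun v w => by
    calc h₀ * v * h₀ * (h₀ * w * h₀) = h₀ * v * (h₀ * h₀) * w * h₀ := by group
      _ = _ := by rw [hh₀2]; group
  have hh₀u : h₀ * i uP * h₀ = i uP := by
    have h1 : h₀ * i uP * h₀ * i zP = i zP * (h₀ * i uP * h₀) := by
      rw [← hh₀s, hτmul, hτmul, ← map_mul, ← map_mul, small_facts.2.2.2.2.2.2.2.2.2.2.1]
    have h2 : h₀ * i uP * h₀ * i sP = i sP * (h₀ * i uP * h₀) := by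
      rw [← hh₀z, hτmul, hτmul, ← map_mul, ← map_mul, small_facts.2.2.2.2.2.2.2.2.2.1]
    obtain ⟨x, k, hx⟩ := cent_nine_G hiinj hrange h1 h2
    rw [← map_pow, ← map_mul] at hx
    have hsq : (nine x * uP ^ k.val) * (nine x * uP ^ k.val) = 1 := hiinj (by
      rw [map_mul, ← hx, hτmul, ← map_mul, rels.2.2.1, map_one, mul_one, hh₀2])
    rcases hf2 x k hsq with e | e <;> rw [e] at hx
    · exfalso
      apply huP
      apply hiinj
      rw [map_one] at hx ⊢
      calc i uP = (h₀ * h₀) * i uP * (h₀ * h₀) := by rw [hh₀2, one_mul, mul_one]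
        _ = h₀ * (h₀ * i uP * h₀) * h₀ := by group
        _ = 1 := by rw [hx, mul_one, hh₀2]
    · exact hx
  -- adjust the swap
  obtain ⟨hfa, hfas⟩ := small_facts.2
  set w := h₀ * i aP * h₀ with hw
  have hwz : w * i zP = i zP * w := by
    rw [hw, ← hh₀s, hτmul, hτmul, ← map_mul, ← map_mul, hfas.1]
  obtain ⟨l, hl⟩ := mem_range_of_normalizer hrange (g := w) (Or.inl (by rw [hwz]; group))
  have hl2 : l * l = 1 := hiinj (by
    rw [map_mul, hl, hw, hτmul, ← map_mul, rels.2.2.2.1, map_one, mul_one, hh₀2])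
  have hls : l * sP * l = sP⁻¹ := hiinj (by
    rw [map_mul, map_mul, hl, hw, ← hh₀z, hτmul, hτmul, ← map_mul, ← map_mul]
    have e : aP * zP * aP = zP⁻¹ := by
      have hinv : aP⁻¹ = aP := inv_eq_of_mul_eq_one_right rels.2.2.2.1
      rw [hinv] at hfa; exact hfa
    rw [e, map_inv, map_inv, ← hh₀z, mul_inv_rev, mul_inv_rev, hh₀inv]; group)
  have hlz' : l * zP = zP * l := hiinj (by rw [map_mul, map_mul, hl, hwz])
  obtain ⟨k, hk⟩ := invert_s l hl2 hlz' hls
  set h := i zP ^ k.val * h₀ * (i zP ^ k.val)⁻¹ with hh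
  have hconj : ∀ v, h * v * h =
      i zP ^ k.val * (h₀ * ((i zP ^ k.val)⁻¹ * v * i zP ^ k.val) * h₀) * (i zP ^ k.val)⁻¹ := fun v => by
    rw [hh]; group
  have hcz' : Commute (i zP ^ k.val) (i zP) := (Commute.refl _).pow_left _
  refine ⟨{
    i := i
    inj := hiinj
    range_eq := hrange
    h := h
    h_sq := ?_
    h_z := ?_
    h_u := ?_
    h_a := ?_
    card_y := hciy
    y_normal := fun g hg x => (hD _).1 (hyn' g (hiy ▸ hg) _ ((hD _).2 ⟨x, rfl⟩))
    sylow := ⟨P, fun g => by rw [← hD, hDP]⟩ }, hD⟩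
  · have := hconj 1
    rw [mul_one] at this
    rw [this, mul_one, inv_mul_cancel, mul_one, hh₀2, mul_one, mul_inv_cancel]
  · rw [hconj, hcz'.inv_left.eq, mul_assoc _ (i zP ^ k.val)⁻¹, inv_mul_cancel, mul_one, hh₀z,
      ← map_pow, ← map_mul, ← map_inv, ← map_mul]
    have e : ∀ j : Fin 3, zP ^ j.val * sP * (zP ^ j.val)⁻¹ = sP := by decide +kernel
    exact congrArg i (e k)
  · have hc : Commute (i zP ^ k.val) (i uP) := by
      refine Commute.pow_left ?_ _
      show i zP * i uP = i uP * i zP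
      rw [← map_mul, ← map_mul, small_facts.2.2.2.2.2.2.2.2.2.1]
    rw [hconj, hc.inv_left.eq, mul_assoc _ (i zP ^ k.val)⁻¹, inv_mul_cancel, mul_one, hh₀u, hc.eq,
      mul_inv_cancel_right]
  · have e1 : ∀ k : Fin 3, (zP ^ k.val)⁻¹ * aP * zP ^ k.val = aP * zP ^ (2 * k.val) := by
      decide +kernel
    have hpow : ∀ n : ℕ, h₀ * i (zP ^ n) * h₀ = i (sP ^ n) := fun n => by
      rw [map_pow, map_pow, ← hh₀z, hcj, hcj, conj_pow]
    have e : h * i aP * h = i (zP ^ k.val * (l * sP ^ (2 * k.val)) * (zP ^ k.val)⁻¹) := by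
      rw [hconj, ← map_pow, ← map_inv, ← map_mul, ← map_mul, e1, map_mul, ← hτmul, ← hw, ← hl, hpow]
      simp only [map_mul]
    rw [e]
    have hz' : ∀ k : Fin 3, zP ^ k.val * bP * (zP ^ k.val)⁻¹ = bP ∧
        zP ^ k.val * a'P * (zP ^ k.val)⁻¹ = a'P := by decide +kernel
    rcases hk with e | e <;> rw [e]
    · exact Or.inl (congrArg i (hz' k).1)
    · exact Or.inr (congrArg i (hz' k).2)

end CfsgLib.ThreeSym
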