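import Cfsg.Agent.Lib.Recognition.ThreeSym.Basic
import Cfsg.Agent.Lib.PCore.Basic
import Cfsg.Agent.Lib.Solvable.CoprimeGeneration
import Cfsg.Agent.Lib.PSL2.Basic
import Cfsg.Agent.S3331
import Mathlib.GroupTheory.SpecificGroups.Cyclic

/-!
When the swap carries `a` to `a' = b u`, the order of the centralizer of `⟨a, v⟩` divides 240.
-/

set_option autoImplicit false
set_option linter.style.haveILetI false
set_option maxRecDepth 10000
set_option synthInstance.maxSize 2000
set_option synthInstance.maxHeartbeats 400000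

namespace CfsgLib.ThreeSym

open Subgroup Equiv CfsgLib.ThreeEight

variable {G : Type*} [Group G]

/-- The four elements of `⟨a', v'⟩`. -/
def fourP (x : Fin 2 × Fin 2) : P35 := a'P ^ x.1.val * vP ^ x.2.val

theorem fourP_facts :
    (∀ x y, fourP x * fourP y = fourP (x + y)) ∧ fourP (0, 0) = 1 ∧ fourP (1, 0) = a'P ∧
      fourP (0, 1) = vP ∧ (∀ x, fourP x * fourP x = 1) ∧ (∀ x, fourP x * zP = zP * fourP x) := by
  decide +kernel

namespace Frame

variable (F : Frame G)

/-- The swap carries `a` to `a' = b u`. -/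
def Twisted : Prop := F.τ F.A = F.A'

variable {F}

theorem Twisted.τ_A' (hF : F.Twisted) : F.τ F.A' = F.A := by rw [← hF, τ_τ]

variable (F)

/-- The elements of `⟨a, v⟩`. -/
def four (x : Fin 2 × Fin 2) : G := F.τ (F.i (fourP x))

theorem four_mul (x y : Fin 2 × Fin 2) : F.four x * F.four y = F.four (x + y) := by
  rw [four, four, four, ← τ_mul, ← map_mul, fourP_facts.1]

theorem four_zero : F.four (0, 0) = 1 := by rw [four, fourP_facts.2.1, map_one, τ_one]

theorem four_one_zero (hF : F.Twisted) : F.four (1, 0) = F.A := by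
  rw [four, fourP_facts.2.2.1, ← F.τ_τ F.A, hF]; rfl

theorem four_zero_one : F.four (0, 1) = F.V := by
  rw [four, fourP_facts.2.2.2.1]; rfl

theorem four_sq (x : Fin 2 × Fin 2) : F.four x * F.four x = 1 := by
  rw [four, ← τ_mul, ← map_mul, fourP_facts.2.2.2.2.1, map_one, τ_one]

theorem four_injective : Function.Injective F.four := fun x y h => by
  have key : ∀ x y, fourP x = fourP y → x = y := by decide +kernel
  exact key x y (F.inj (F.τ_inj h))

theorem commute_of_four (hF : F.Twisted) {g : G} (ha : Commute g F.A) (hv : Commute g F.V)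
    (x : Fin 2 × Fin 2) : Commute g (F.four x) := by
  have e : F.four x = F.A ^ x.1.val * F.V ^ x.2.val := by
    rw [four, fourP, map_mul, map_pow, map_pow, τ_mul, τ_pow, τ_pow, show F.i a'P = F.A' from rfl,
      hF.τ_A']
    rfl
  rw [e]
  exact (ha.pow_right _).mul_right (hv.pow_right _)

/-- The centralizer of `⟨a, v⟩`. -/
def W : Subgroup G := centralizer {F.A, F.V}

theorem mem_W {g : G} : g ∈ F.W ↔ Commute g F.A ∧ Commute g F.V := by
  rw [W, mem_centralizer_iff]
  simp only [Set.mem_insert_iff, Set.mem_singleton_iff, forall_eq_or_imp, forall_eq]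
  exact ⟨fun ⟨h1, h2⟩ => ⟨h1.symm, h2.symm⟩, fun ⟨h1, h2⟩ => ⟨h1.eq.symm, h2.eq.symm⟩⟩

theorem commute_S_V : Commute F.S F.V := by
  rw [← F.τ_Z]
  exact F.τ_commute (F.commute_i (by decide +kernel))

theorem S_mem_W : F.S ∈ F.W :=
  F.mem_W.2 ⟨F.commute_i small_facts.2.2.1.symm, F.commute_S_V⟩

theorem A'_mem_W (hF : F.Twisted) : F.A' ∈ F.W := by
  refine F.mem_W.2 ⟨F.commute_i (by decide +kernel), ?_⟩
  rw [← hF]
  exact F.τ_commute (F.commute_i (by decide +kernel))

theorem four_mem_W (hF : F.Twisted) (x : Fin 2 × Fin 2) : F.four x ∈ F.W := by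
  rw [mem_W, ← F.four_one_zero hF, ← F.four_zero_one]
  exact ⟨by rw [Commute, SemiconjBy, four_mul, four_mul, add_comm],
    by rw [Commute, SemiconjBy, four_mul, four_mul, add_comm]⟩

/-- `C(a, v, s) = ⟨s⟩ × ⟨a, v⟩`. -/
theorem eq_of_commute_S (hF : F.Twisted) {g : G} (hW : g ∈ F.W) (hs : Commute g F.S) :
    ∃ k : Fin 3, ∃ x, g = F.S ^ k.val * F.four x := by
  obtain ⟨l, rfl, hl⟩ := F.exists_of_commute_s hs
  obtain ⟨ha, hv⟩ := F.mem_W.1 hW
  rw [← hF.τ_A'] at ha
  have h1 : l * a'P = a'P * l := F.eq_of_commute (by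
    have := F.τ_commute ha
    rwa [τ_τ, τ_τ] at this)
  have h2 : l * vP = vP * l := F.eq_of_commute (by
    have := F.τ_commute hv
    rwa [V, τ_τ, τ_τ] at this)
  obtain ⟨k, hk⟩ := three_fst l.1 (congrArg Prod.fst hl)
  obtain ⟨p, q, hpq⟩ := ThreeSym.cent_four l.2 (congrArg Prod.snd h1) (congrArg Prod.snd h2)
  refine ⟨k, (p, q), ?_⟩
  have e : l = zP ^ k.val * fourP (p, q) := by
    apply Prod.ext
    · rw [hk]; simp [fourP, zP, a'P, vP]; rfl
    · simp [fourP, zP, hpq]
  rw [e, map_mul, map_pow, τ_mul, τ_pow, show F.τ (F.i zP) = F.S from F.h_z]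
  rfl

theorem not_dvd_seven {x : Fin 3 × Fin 3} [Finite G] (hx : x ≠ (0, 0)) :
    ¬ 7 ∣ Nat.card (centralizer ({F.i (nine x)} : Set G)) := by
  rcases F.card_centralizer_nine hx with e | e <;> rw [e] <;> norm_num

/-- `|C(a, v)|` divides 240. -/
theorem card_W_dvd [Finite G] (hF : F.Twisted) : Nat.card F.W ∣ 240 := by
  classical
  haveI : Fact (Nat.Prime 3) := ⟨Nat.prime_three⟩
  -- the Sylow subgroup centralizing `s` and normalizing the four-group
  obtain ⟨κ, -, hκ⟩ := exists_kappa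
  set kP : P35 := (1, κ) with hkP
  set K : G := F.τ (F.i kP) with hK
  let d : Fin 3 × Fin 3 → G := fun x => K * F.i (nine x) * K⁻¹
  have hd : ∀ x, d x = F.τ (F.i (kP * nine (x.2, x.1) * kP⁻¹)) := by
    intro x
    have e : ∀ x : Fin 3 × Fin 3, nine x = zP ^ x.1.val * sP ^ x.2.val := fun x => by
      apply Prod.ext <;> simp [nine, zP, sP]
    have h1 : F.i (nine x) = F.τ (F.i (nine (x.2, x.1))) := by
      rw [e, e, map_mul, map_mul, map_pow, map_pow, map_pow, map_pow, τ_mul, τ_pow, τ_pow,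
        show F.τ (F.i zP) = F.i sP from F.h_z, show F.τ (F.i sP) = F.i zP from F.h_s]
      exact ((F.commute_i (by decide +kernel : zP * sP = sP * zP)).pow_pow _ _).eq
    show K * F.i (nine x) * K⁻¹ = _
    rw [h1, hK, ← τ_inv, ← τ_mul, ← τ_mul, map_conj]
  have hk : ∀ x : Fin 3 × Fin 3, kP * nine (x.2, x.1) * kP⁻¹ = (c₃ ^ x.2.val, rP.2 ^ x.1.val) := by
    intro x
    rw [← hκ, conj_pow]
    apply Prod.ext <;> simp [hkP, nine]
  have hdS : d (0, 1) = F.S := by
    rw [hd, hk, ← F.τ_Z]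
    congr 2
  have hd_four : ∀ x y, ∃ y', d x * F.four y * (d x)⁻¹ = F.four y' := by
    intro x y
    have key : ∀ x : Fin 3 × Fin 3, ∀ y, ∃ y', (c₃ ^ x.2.val, rP.2 ^ x.1.val) * fourP y *
        (c₃ ^ x.2.val, rP.2 ^ x.1.val)⁻¹ = fourP y' := by decide +kernel
    obtain ⟨y', hy'⟩ := key x y
    exact ⟨y', by rw [hd, hk, four, four, ← τ_conj, ← map_conj, hy']⟩
  have hWd : ∀ x, ∀ w ∈ F.W, d x * w * (d x)⁻¹ ∈ F.W := by
    intro x w hw
    obtain ⟨ha, hv⟩ := F.mem_W.1 hw
    have hc := F.commute_of_four hF ha hv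
    have hh : ∀ y, Commute (d x * w * (d x)⁻¹) (F.four y) := fun y => by
      have hsurj : ∃ y₀, d x * F.four y₀ * (d x)⁻¹ = F.four y := by
        choose f hf using hd_four x
        have hinj : Function.Injective f := fun a b e => F.four_injective (by
          have h := hf a
          rw [e, ← hf b, mul_left_inj, mul_right_inj] at h
          exact h)
        obtain ⟨y₀, hy₀⟩ := (Finite.injective_iff_surjective.1 hinj) y
        exact ⟨y₀, by rw [hf, hy₀]⟩
      obtain ⟨y₀, hy₀⟩ := hsurj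
      rw [← hy₀]
      exact (Commute.conj_iff (d x)).2 (hc y₀)
    exact F.mem_W.2 ⟨F.four_one_zero hF ▸ hh (1, 0), F.four_zero_one ▸ hh (0, 1)⟩
  -- the four-group inside `W`
  let V₄ : Subgroup F.W :=
    { carrier := {g | ∃ x, (g : G) = F.four x}
      one_mem' := ⟨(0, 0), F.four_zero.symm⟩
      mul_mem' := fun {g g'} ⟨x, hx⟩ ⟨y, hy⟩ => ⟨x + y, by
        rw [Subgroup.coe_mul, hx, hy, four_mul]⟩
      inv_mem' := fun {g} ⟨x, hx⟩ => ⟨x, by
        rw [Subgroup.coe_inv, hx, inv_eq_of_mul_eq_one_right (F.four_sq x)]⟩ }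
  have hV₄ : ∀ {g : F.W}, g ∈ V₄ ↔ ∃ x, (g : G) = F.four x := Iff.rfl
  haveI : V₄.Normal := ⟨fun n ⟨x, hx⟩ g => ⟨x, by
    obtain ⟨ha, hv⟩ := F.mem_W.1 g.2
    rw [Subgroup.coe_mul, Subgroup.coe_mul, Subgroup.coe_inv, hx,
      (F.commute_of_four hF ha hv x).eq, mul_inv_cancel_right]⟩⟩
  have hV₄card : Nat.card V₄ = 4 := by
    have hb : Function.Bijective fun x => (⟨⟨F.four x, F.four_mem_W hF x⟩, x, rfl⟩ : V₄) := by
      refine ⟨fun x y e => F.four_injective (congrArg (fun g : V₄ => ((g : F.W) : G)) e), ?_⟩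
      rintro ⟨g, x, hx⟩
      exact ⟨x, Subtype.ext (Subtype.ext hx.symm)⟩
    rw [← Nat.card_eq_of_bijective _ hb]
    simp
  -- the core of order prime to three is the four-group
  set R := Cfsg.pPrimeCore 3 F.W with hR
  haveI : R.Normal := inferInstance
  have hR3 : ∀ {g : F.W}, g ∈ R → ¬ 3 ∣ orderOf (g : G) := by
    intro g hg h3
    refine CfsgLib.PCore.not_dvd_card_pPrimeCore (p := 3) (G := F.W) (h3.trans ?_)
    rw [orderOf_coe, ← Subgroup.orderOf_mk g hg]
    exact orderOf_dvd_natCard _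
  have h4R : V₄ ≤ R :=
    CfsgLib.PCore.le_pPrimeCore_of_not_dvd (p := 3) (G := F.W) inferInstance (by rw [hV₄card]; norm_num)
  set R' := R.map F.W.subtype with hR'
  have hR'W : R' ≤ F.W := map_subtype_le _
  have hR'mem : ∀ {g : G}, g ∈ R' ↔ ∃ h : g ∈ F.W, (⟨g, h⟩ : F.W) ∈ R := by
    intro g
    constructor
    · rintro ⟨w, hw, rfl⟩; exact ⟨w.2, hw⟩
    · rintro ⟨h, hg⟩; exact ⟨_, hg, rfl⟩
  have hR'conj : ∀ x, ∀ g ∈ R', d x * g * (d x)⁻¹ ∈ R' := by
    intro x g hg
    have hin : ∀ w ∈ F.W, (d x)⁻¹ * w * d x ∈ F.W := fun w hw => by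
      have hneg : d (-x) = (d x)⁻¹ := by
        show K * F.i (nine (-x)) * K⁻¹ = (K * F.i (nine x) * K⁻¹)⁻¹
        rw [(by decide +kernel : ∀ x, nine (-x) = (nine x)⁻¹) x, map_inv]
        group
      have := hWd (-x) w hw
      rwa [hneg, inv_inv] at this
    let φ : F.W ≃* F.W :=
      { toFun := fun w => ⟨d x * w * (d x)⁻¹, hWd x _ w.2⟩
        invFun := fun w => ⟨(d x)⁻¹ * w * d x, hin _ w.2⟩
        left_inv := fun w => Subtype.ext (by simp [mul_assoc])
        right_inv := fun w => Subtype.ext (by simp [mul_assoc])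
        map_mul' := fun v w => Subtype.ext (by simp [mul_assoc]) }
    obtain ⟨hgW, hgR⟩ := hR'mem.1 hg
    refine hR'mem.2 ⟨hWd x g hgW, ?_⟩
    show φ ⟨g, hgW⟩ ∈ R
    rw [hR, ← CfsgLib.PCore.map_pPrimeCore_equiv (p := 3) φ]
    exact ⟨_, hgR, rfl⟩
  have hR'norm : ∀ w ∈ F.W, ∀ g ∈ R', w * g * w⁻¹ ∈ R' := by
    intro w hw g hg
    obtain ⟨hgW, hgR⟩ := hR'mem.1 hg
    exact hR'mem.2 ⟨mul_mem (mul_mem hw hgW) (inv_mem hw),
      (inferInstance : R.Normal).conj_mem _ hgR ⟨w, hw⟩⟩
  -- fixed points in the core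
  have hfixS : ∀ r ∈ R', Commute r F.S → ∃ x, r = F.four x := by
    intro r hr hc
    obtain ⟨hrW, hrR⟩ := hR'mem.1 hr
    obtain ⟨k, x, rfl⟩ := F.eq_of_commute_S hF hrW hc
    refine ⟨x, ?_⟩
    have h4 : (⟨F.four x, F.four_mem_W hF x⟩ : F.W) ∈ R := h4R ⟨x, rfl⟩
    have hS : (⟨F.S ^ k.val, pow_mem F.S_mem_W _⟩ : F.W) ∈ R := by
      have := mul_mem hrR (inv_mem h4)
      convert this using 1
      exact Subtype.ext (by simp)
    fin_cases k
    · simp
    all_goals
      exfalso
      refine hR3 hS ?_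
      rw [Subtype.coe_mk, orderOf_pow' _ (by norm_num), F.S_ord]
      norm_num
  have hfix : ∀ r ∈ R', ∀ x, x ≠ (0, 0) → Commute r (d x) → ∃ y, r = F.four y := by
    intro r hr x hx hc
    have hcK : Commute (K⁻¹ * r * K) (F.i (nine x)) := by
      have := (Commute.conj_iff K⁻¹).2 hc
      simpa [d, mul_assoc] using this
    rcases (show (x.1 ≠ 0 ∧ x.2 ≠ 0) ∨ x.1 = 0 ∨ x.2 = 0 by tauto) with h | h | h
    · refine hfixS r hr ?_
      obtain ⟨y, hy⟩ := F.off_normal h.1 h.2 hcK (0, 1)
      have e1 : r * F.S * r⁻¹ = d y := by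
        rw [← hdS]
        show r * (K * F.i (nine (0, 1)) * K⁻¹) * r⁻¹ = K * F.i (nine y) * K⁻¹
        rw [← hy]; group
      have hmem : r * F.S * r⁻¹ * F.S⁻¹ ∈ R' := by
        rw [show r * F.S * r⁻¹ * F.S⁻¹ = r * (F.S * r⁻¹ * F.S⁻¹) by group]
        exact mul_mem hr (hR'norm _ F.S_mem_W _ (inv_mem hr))
      obtain ⟨hw, hwR⟩ := hR'mem.1 hmem
      have h3 : (r * F.S * r⁻¹ * F.S⁻¹) ^ 3 = 1 := by
        rw [e1, ← hdS]
        show (K * F.i (nine y) * K⁻¹ * (K * F.i (nine (0, 1)) * K⁻¹)⁻¹) ^ 3 = 1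
        have e : ∀ y, (nine y * (nine (0, 1))⁻¹) ^ 3 = 1 := by decide +kernel
        rw [show K * F.i (nine y) * K⁻¹ * (K * F.i (nine (0, 1)) * K⁻¹)⁻¹ =
          K * (F.i (nine y) * (F.i (nine (0, 1)))⁻¹) * K⁻¹ by group, conj_pow, ← map_inv, ← map_mul,
          ← map_pow, e, map_one, mul_one, mul_inv_cancel]
      rcases (Nat.dvd_prime Nat.prime_three).1 (orderOf_dvd_of_pow_eq_one h3) with e | e
      · have := orderOf_eq_one_iff.1 e
        rw [mul_inv_eq_one, mul_inv_eq_iff_eq_mul] at this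
        exact this
      · exact absurd (by rw [Subtype.coe_mk, e]) (hR3 hwR)
    · -- the line of `s`
      refine hfixS r hr ?_
      have key : ∀ x : Fin 3 × Fin 3, x ≠ (0, 0) → x.1 = 0 → nine x = sP ∨ nine x = sP⁻¹ := by
        decide +kernel
      have hs : Commute (K⁻¹ * r * K) (F.i sP) := by
        rcases key x hx h with e | e <;> rw [e] at hcK
        · exact hcK
        · rw [map_inv] at hcK; exact Commute.inv_right_iff.1 hcK
      have := (Commute.conj_iff K).2 hs
      have e : K * F.i sP * K⁻¹ = F.S := by rw [← nine_zP.2.1]; exact hdS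
      rw [e] at this
      simpa [mul_assoc] using this
    · -- the line conjugate to that of `z`
      refine hfixS r hr ?_
      have key : ∀ x : Fin 3 × Fin 3, x ≠ (0, 0) → x.2 = 0 → nine x = zP ∨ nine x = zP⁻¹ := by
        decide +kernel
      have hz : Commute (K⁻¹ * r * K) (F.i zP) := by
        rcases key x hx h with e | e <;> rw [e] at hcK
        · exact hcK
        · rw [map_inv] at hcK; exact Commute.inv_right_iff.1 hcK
      let Y : Subgroup P35 := R'.comap ((MulAut.conj K).toMonoidHom.comp F.i)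
      have hY : ∀ {l : P35}, l ∈ Y ↔ K * F.i l * K⁻¹ ∈ R' := Iff.rfl
      obtain ⟨l, hl, hlz⟩ := F.exists_of_commute_z hz
      have hlY : l ∈ Y := hY.2 (by rw [hl]; simpa [mul_assoc] using hr)
      have hY3 : ∀ {m : P35}, m ∈ Y → m ^ 6 = 1 → m ^ 2 = 1 := by
        intro m hm hm6
        obtain ⟨hw, hwR⟩ := hR'mem.1 (hY.1 hm)
        have h6 : orderOf (K * F.i m * K⁻¹) ∣ 6 := orderOf_dvd_of_pow_eq_one (by
          rw [conj_pow, ← map_pow, hm6, map_one, mul_one, mul_inv_cancel])
        have h2 : orderOf (K * F.i m * K⁻¹) ∣ 2 :=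
          (Nat.Coprime.dvd_of_dvd_mul_right
            ((Nat.prime_three.coprime_iff_not_dvd.2 (hR3 hwR)).symm) (h6 : _ ∣ 2 * 3))
        have := orderOf_dvd_iff_pow_eq_one.1 h2
        rw [conj_pow, mul_inv_eq_one, mul_eq_left, ← map_pow, ← map_one F.i] at this
        exact F.inj this
      have hSK : K * F.i sP * K⁻¹ = F.S := by rw [← nine_zP.2.1]; exact hdS
      have hAK : K * F.i a'P * K⁻¹ = F.A' := by
        rw [show F.i a'P = F.A' from rfl, hK, ← hF, ← τ_conj]
        congr 1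
        show F.i kP * F.i aP * (F.i kP)⁻¹ = F.i aP
        rw [← map_conj]
        congr 1
        apply Prod.ext <;> simp [hkP, aP]
      have hYnorm : ∀ m ∈ Y, ∀ n : P35, K * F.i n * K⁻¹ ∈ F.W → n * m * n⁻¹ ∈ Y := by
        intro m hm n hn
        have := hR'norm _ hn _ (hY.1 hm)
        refine hY.2 ?_
        rw [map_conj]
        convert this using 1; group
      have hl1 : l.1 = 1 := by
        obtain ⟨k, hk'⟩ := three_fst l.1 (congrArg Prod.fst hlz)
        have hk3 : ∀ k : Fin 3, k ≠ 0 → orderOf ((eZ : P35).1 ^ k.val) = 3 := by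
          intro k hk0
          refine orderOf_eq_prime ?_ ?_
          · revert k; decide +kernel
          · revert k; decide +kernel
        by_cases hk0 : k = 0
        · rw [hk', hk0]; simp
        · exfalso
          obtain ⟨hw, hwR⟩ := hR'mem.1 hr
          refine hR3 hwR ?_
          have h1 : orderOf (K⁻¹ * r * K) = orderOf r := by
            simpa using orderOf_conj' K⁻¹ r
          rw [Subtype.coe_mk, ← h1, ← hl, orderOf_injective _ F.inj]
          have h2 := orderOf_map_dvd (MonoidHom.fst (Perm (Fin 3)) (Perm (Fin 5))) l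
          rw [show (MonoidHom.fst (Perm (Fin 3)) (Perm (Fin 5))) l = l.1 from rfl, hk', hk3 k hk0] at h2
          exact h2
      set y := l.2 with hy
      have hle : l = ((1 : Perm (Fin 3)), y) := Prod.ext hl1 rfl
      have hcjY : ∀ n : Perm (Fin 5), n ∈ ([c₅, c₅ * c₅, a'P.2, a'P.2 * c₅] : List (Perm (Fin 5))) →
          ((1 : Perm (Fin 3)), cjy n y) ∈ Y := by
        intro n hn
        have e : ((1 : Perm (Fin 3)), cjy n y) = ((1 : Perm (Fin 3)), n) * l * ((1 : Perm (Fin 3)), n)⁻¹ := by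
          rw [hle]; apply Prod.ext <;> simp [cjy]
        rw [e]
        refine hYnorm l hlY _ ?_
        have hc5 : ((1 : Perm (Fin 3)), c₅) = sP := rfl
        have ha5 : ((1 : Perm (Fin 3)), a'P.2) = a'P := rfl
        have hmul : ∀ p q : Perm (Fin 5), ((1 : Perm (Fin 3)), p * q) = ((1, p) : P35) * (1, q) :=
          fun p q => by apply Prod.ext <;> simp
        have hin : ∀ p q : P35, K * F.i p * K⁻¹ ∈ F.W → K * F.i q * K⁻¹ ∈ F.W →
            K * F.i (p * q) * K⁻¹ ∈ F.W := fun p q hp hq => by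
          convert mul_mem hp hq using 1
          rw [map_mul]; group
        have hs' : K * F.i sP * K⁻¹ ∈ F.W := hSK ▸ F.S_mem_W
        have ha' : K * F.i a'P * K⁻¹ ∈ F.W := hAK ▸ F.A'_mem_W hF
        simp only [List.mem_cons, List.not_mem_nil, or_false] at hn
        rcases hn with rfl | rfl | rfl | rfl
        · exact hc5 ▸ hs'
        · rw [hmul, hc5]; exact hin _ _ hs' hs'
        · exact ha5 ▸ ha'
        · rw [hmul, hc5, ha5]; exact hin _ _ ha' hs'
      have hyY : ((1 : Perm (Fin 3)), y) ∈ Y := hle ▸ hlY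
      have hyc : y * c₅ = c₅ * y := by
        refine no_three y fun w hw hw6 => ?_
        have hwY : ((1 : Perm (Fin 3)), w) ∈ Y := by
          have hm : ∀ p q : Perm (Fin 5), ((1 : Perm (Fin 3)), p) ∈ Y → ((1 : Perm (Fin 3)), q) ∈ Y →
              ((1 : Perm (Fin 3)), p * q) ∈ Y := fun p q hp hq => by
            convert mul_mem hp hq using 1
            apply Prod.ext <;> simp
          have h1 := hcjY c₅ (by simp)
          have h2 := hcjY (c₅ * c₅) (by simp)
          have h3 := hcjY a'P.2 (by simp)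
          have h4 := hcjY (a'P.2 * c₅) (by simp)
          simp only [List.mem_cons, List.not_mem_nil, or_false] at hw
          rcases hw with rfl | rfl | rfl | rfl | rfl
          exacts [hm _ _ (hm _ _ (hm _ _ hyY hyY) h1) h2, hm _ _ (hm _ _ (hm _ _ hyY hyY) h2) h1,
            hm _ _ (hm _ _ (hm _ _ hyY h1) hyY) h2, hm _ _ (hm _ _ (hm _ _ hyY h3) h1) h4,
            hm _ _ hyY h4]
        have := hY3 hwY (by apply Prod.ext <;> simp [hw6])
        exact congrArg Prod.snd this
      have hls : l * sP = sP * l := by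
        rw [hle]; apply Prod.ext <;> simp [sP, hyc]
      have := (Commute.conj_iff K).2 (F.commute_i hls)
      rw [hSK, hl] at this
      simpa [mul_assoc] using this
  -- generation of the core by fixed points
  let D' : Subgroup G :=
    { carrier := {g | ∃ x, g = d x}
      one_mem' := ⟨(0, 0), by
        show 1 = K * F.i (nine (0, 0)) * K⁻¹
        rw [show nine (0, 0) = 1 by decide +kernel, map_one, mul_one, mul_inv_cancel]⟩
      mul_mem' := fun {g g'} ⟨x, hx⟩ ⟨y, hy⟩ => ⟨x + y, by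
        show g * g' = K * F.i (nine (x + y)) * K⁻¹
        rw [hx, hy, ← nine_mul, map_mul]
        show K * F.i (nine x) * K⁻¹ * (K * F.i (nine y) * K⁻¹) = _
        group⟩
      inv_mem' := fun {g} ⟨x, hx⟩ => ⟨-x, by
        rw [hx]
        show (K * F.i (nine x) * K⁻¹)⁻¹ = K * F.i (nine (-x)) * K⁻¹
        rw [(by decide +kernel : ∀ x, nine (-x) = (nine x)⁻¹) x, map_inv]
        group⟩ }
  have hD' : ∀ {g : G}, g ∈ D' ↔ ∃ x, g = d x := Iff.rfl
  have hdinj : Function.Injective d := fun x y e => nine_injective (F.inj (by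
    exact mul_left_cancel (mul_right_cancel e)))
  haveI : IsMulCommutative D' := ⟨⟨fun g g' => by
    obtain ⟨x, hx⟩ := g.2
    obtain ⟨y, hy⟩ := g'.2
    apply Subtype.ext
    show (g : G) * g' = g' * g
    rw [hx, hy]
    show K * F.i (nine x) * K⁻¹ * (K * F.i (nine y) * K⁻¹) =
      K * F.i (nine y) * K⁻¹ * (K * F.i (nine x) * K⁻¹)
    rw [conj_mul, conj_mul, ← map_mul, ← map_mul, nine_mul, nine_mul, add_comm]⟩⟩
  have hDcard : Nat.card D' = 9 := by
    have hb : Function.Bijective fun x => (⟨d x, x, rfl⟩ : D') :=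
      ⟨fun x y e => hdinj (congrArg Subtype.val e), fun g => by
        obtain ⟨x, hx⟩ := g.2
        exact ⟨x, Subtype.ext hx.symm⟩⟩
    rw [← Nat.card_eq_of_bijective _ hb]
    simp
  have hDexp : ∀ g ∈ D', g ^ 3 = 1 := by
    rintro g ⟨x, rfl⟩
    show (K * F.i (nine x) * K⁻¹) ^ 3 = 1
    rw [conj_pow, ← map_pow, (by decide +kernel : ∀ x, nine x ^ 3 = 1) x, map_one, mul_one,
      mul_inv_cancel]
  have hDnc : ¬ IsCyclic D' := fun hc => by
    obtain ⟨g, hg⟩ := IsCyclic.exists_ofOrder_eq_natCard (α := D')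
    have h3 := orderOf_dvd_of_pow_eq_one (show g ^ 3 = 1 from Subtype.ext (hDexp _ g.2))
    rw [hg, hDcard] at h3
    norm_num at h3
  have hRR : R' ≤ V₄.map F.W.subtype := by
    rw [← CfsgLib.CoprimeGeneration.iSup_centralizer_eq D' R' hDnc (fun g hg => by
        obtain ⟨x, rfl⟩ := hg
        exact Subgroup.mem_normalizer_fintype (hR'conj x)) (by
        rw [hDcard, show (9 : ℕ) = 3 ^ 2 by norm_num, hR',
          Subgroup.card_map_of_injective (Subgroup.subtype_injective _)]
        exact (CfsgLib.PCore.pPrimeCore_coprime (p := 3) (G := F.W)).symm.pow_left 2)]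
    refine iSup₂_le fun g hg r hr => ?_
    obtain ⟨⟨x, rfl⟩, hg1⟩ := hg
    obtain ⟨hrR, hrc⟩ := hr
    obtain ⟨y, rfl⟩ := hfix r hrR x (fun e => hg1 (by
        rw [e]
        show K * F.i (nine (0, 0)) * K⁻¹ = 1
        rw [show nine (0, 0) = 1 by decide +kernel, map_one, mul_one, mul_inv_cancel]))
      (mem_centralizer_singleton_iff.1 hrc)
    exact ⟨⟨_, F.four_mem_W hF y⟩, ⟨y, rfl⟩, rfl⟩
  have hRV : R ≤ V₄ := fun g hg => by
    obtain ⟨g', hg', e⟩ := hRR ⟨g, hg, rfl⟩
    rwa [← Subgroup.subtype_injective F.W e]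
  -- the quotient by the four-group
  let sb : F.W ⧸ V₄ := ((⟨F.S, F.S_mem_W⟩ : F.W) : F.W ⧸ V₄)
  have hsb : orderOf sb = 3 := by
    refine orderOf_eq_prime ?_ fun e => ?_
    · show ((⟨F.S, F.S_mem_W⟩ : F.W) : F.W ⧸ V₄) ^ 3 = 1
      rw [← QuotientGroup.mk_pow, QuotientGroup.eq_one_iff]
      exact ⟨(0, 0), by rw [four_zero, Subgroup.coe_pow, ← F.S_ord, pow_orderOf_eq_one]⟩
    · obtain ⟨x, hx⟩ := (QuotientGroup.eq_one_iff _).1 e
      have h2 : orderOf F.S ∣ 2 := orderOf_dvd_of_pow_eq_one (by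
        rw [show F.S = F.four x from hx, pow_two, four_sq])
      rw [F.S_ord] at h2
      norm_num at h2
  have hcentX : centralizer (zpowers sb : Set (F.W ⧸ V₄)) = zpowers sb := by
    refine le_antisymm (fun q hq => ?_) fun q hq => ?_
    · obtain ⟨g, rfl⟩ := QuotientGroup.mk_surjective q
      have hc := mem_centralizer_iff.1 hq sb (mem_zpowers _)
      rw [show sb * (g : F.W ⧸ V₄) = (((⟨F.S, F.S_mem_W⟩ : F.W) * g : F.W) : F.W ⧸ V₄) from rfl,
        ← QuotientGroup.mk_mul, QuotientGroup.eq] at hc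
      obtain ⟨x, hx⟩ := hc
      have hx' : (g : G) * F.S = F.S * g * F.four x := by
        rw [← hx]; simp [mul_assoc]
      obtain ⟨hgA, hgV⟩ := F.mem_W.1 g.2
      have hgx := F.commute_of_four hF hgA hgV x
      obtain ⟨hSA, hSV⟩ := F.mem_W.1 F.S_mem_W
      have hSx := F.commute_of_four hF hSA hSV x
      have hx1 : F.four x = 1 := by
        have e1 : (g : G) * F.S * (g : G)⁻¹ = F.S * F.four x := by
          rw [hx', mul_assoc F.S, hgx.eq]; group
        have h3 : F.S ^ 3 = 1 := by rw [← F.S_ord, pow_orderOf_eq_one]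
        have e2 : (F.S * F.four x) ^ 3 = 1 := by
          rw [← e1, conj_pow, h3, mul_one, mul_inv_cancel]
        rw [hSx.mul_pow, h3, one_mul, pow_succ, pow_two, four_sq, one_mul] at e2
        exact e2
      rw [hx1, mul_one] at hx'
      obtain ⟨k, y, hy⟩ := F.eq_of_commute_S hF g.2 hx'
      refine ⟨(k.val : ℤ), ?_⟩
      show sb ^ (k.val : ℤ) = _
      rw [zpow_natCast]
      show ((⟨F.S, F.S_mem_W⟩ : F.W) : F.W ⧸ V₄) ^ k.val = (g : F.W ⧸ V₄)
      rw [← QuotientGroup.mk_pow, QuotientGroup.eq]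
      exact ⟨y, by simp [hy]⟩
    · refine mem_centralizer_iff.2 fun r hr => ?_
      obtain ⟨i, rfl⟩ := hq
      obtain ⟨j, rfl⟩ := hr
      exact (Commute.zpow_zpow (Commute.refl sb) j i).eq
  have hN0 : ∀ (N : Subgroup (F.W ⧸ V₄)), N.Normal → ¬ 3 ∣ Nat.card N → N = ⊥ := by
    intro N hN h3
    have hle : N.comap (QuotientGroup.mk' V₄) ≤ R := by
      refine CfsgLib.PCore.le_pPrimeCore_of_not_dvd (p := 3) (G := F.W) (Subgroup.Normal.comap hN _) ?_
      rw [CfsgLib.PCore.card_comap_mk', hV₄card]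
      intro h
      rcases (Nat.Prime.dvd_mul Nat.prime_three).1 h with e | e
      · norm_num at e
      · exact h3 e
    rw [eq_bot_iff]
    intro q hq
    obtain ⟨g, rfl⟩ := QuotientGroup.mk_surjective q
    rw [mem_bot, QuotientGroup.eq_one_iff]
    exact hRV (hle hq)
  have hcW : Nat.card F.W = 4 * Nat.card (F.W ⧸ V₄) := by
    rw [← hV₄card, mul_comm, ← Subgroup.card_eq_card_quotient_mul_card_subgroup]
  have hquot : ∀ N : Subgroup (F.W ⧸ V₄), ∀ _ : N.Normal, N = ⊥ →
      Nat.card ((F.W ⧸ V₄) ⧸ N) = Nat.card (F.W ⧸ V₄) := fun N hn e => by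
    rw [← Subgroup.index_eq_card, e, Subgroup.index_bot]
  rcases Cfsg.Agent.S3331.result (zpowers sb) (by rw [Nat.card_zpowers, hsb]) hcentX with
      ⟨N, hN, -, hcop, h⟩ | ⟨N, hN, -, hsq, e⟩ | e
  · rw [hquot N hN (hN0 N hN (Nat.prime_three.coprime_iff_not_dvd.1 hcop.symm))] at h
    rcases h with h | e
    · rw [hcW, h]; norm_num
    · obtain ⟨e⟩ := e
      have h6 := Nat.card_congr e.toEquiv
      rw [hquot N hN (hN0 N hN (Nat.prime_three.coprime_iff_not_dvd.1 hcop.symm)),
        Nat.card_eq_fintype_card (α := Perm (Fin 3)), Fintype.card_perm, Fintype.card_fin] at h6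
      rw [hcW, h6]; decide
  · obtain ⟨e⟩ := e
    have h60 := Nat.card_congr e.toEquiv
    have hNb : N = ⊥ := hN0 N hN fun h3 => by
      obtain ⟨n, hn⟩ := exists_prime_orderOf_dvd_card' 3 h3
      have h2 : orderOf n ∣ 2 := orderOf_dvd_of_pow_eq_one (Subtype.ext (hsq _ n.2))
      rw [hn] at h2
      norm_num at h2
    rw [hquot N hN hNb, nat_card_alternatingGroup, Nat.card_fin] at h60
    rw [hcW, h60]; decide
  · exfalso
    obtain ⟨e⟩ := e
    haveI : Fact (Nat.Prime 7) := ⟨by norm_num⟩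
    have h168 : Nat.card (F.W ⧸ V₄) = 168 := by
      have h := CfsgLib.PSL2.card_psl (F := ZMod 7)
      rw [ZMod.card, show Nat.gcd 2 (7 - 1) = 2 from rfl] at h
      rw [Nat.card_congr e.toEquiv]
      omega
    rw [h168] at hcW
    let φ : D' →* MulAut F.W :=
      { toFun := fun g =>
          { toFun := fun w => ⟨(g : G) * w * (g : G)⁻¹, by
              obtain ⟨x, hx⟩ := g.2
              rw [hx]; exact hWd x _ w.2⟩
            invFun := fun w => ⟨(g : G)⁻¹ * w * g, by
              obtain ⟨x, hx⟩ := (inv_mem g.2 : (g : G)⁻¹ ∈ D')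
              have := hWd x _ w.2
              rw [← hx, inv_inv] at this
              exact this⟩
            left_inv := fun w => Subtype.ext (by simp [mul_assoc])
            right_inv := fun w => Subtype.ext (by simp [mul_assoc])
            map_mul' := fun v w => Subtype.ext (by simp [mul_assoc]) }
        map_one' := MulEquiv.ext fun w => Subtype.ext (by simp)
        map_mul' := fun g g' => MulEquiv.ext fun w => Subtype.ext (by simp [mul_assoc]) }
    letI : MulDistribMulAction D' F.W := MulDistribMulAction.compHom F.W φ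
    have hn : ¬ 3 ∣ Nat.card (Sylow 7 F.W) := by
      obtain ⟨P₀⟩ := (inferInstance : Nonempty (Sylow 7 F.W))
      have h1 : Nat.card (Sylow 7 F.W) ∣ P₀.index := P₀.card_dvd_index
      have h2 : Nat.card (Sylow 7 F.W) % 7 = 1 := card_sylow_modEq_one 7 F.W
      have h3 : P₀.index = 96 := by
        have hc : Nat.card P₀ = 7 := by
          rw [P₀.card_eq_multiplicity, hcW]
          have : Nat.factorization (4 * 168) 7 = 1 := by
            rw [show 4 * 168 = 96 * 7 by norm_num, Nat.factorization_mul (by norm_num) (by norm_num),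
              Finsupp.add_apply, (show Nat.Prime 7 by norm_num).factorization_self,
              Nat.factorization_eq_zero_of_not_dvd (by norm_num)]
          rw [this, pow_one]
        have := (P₀ : Subgroup F.W).card_mul_index
        rw [hc, hcW] at this
        omega
      rw [h3] at h1
      have hle := Nat.le_of_dvd (by norm_num) h1
      have key : ∀ n, n ≤ 96 → n ∣ 96 → n % 7 = 1 → ¬ 3 ∣ n := by decide +kernel
      exact key _ hle h1 h2
    obtain ⟨Q, hQ⟩ := (IsPGroup.of_card (n := 2) (hDcard.trans (by norm_num)) :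
      IsPGroup 3 D').nonempty_fixed_point_of_prime_not_dvd_card _ hn
    have hQ' : ∀ (g : D') (w : F.W), w ∈ (Q : Subgroup F.W) → φ g w ∈ (Q : Subgroup F.W) := by
      intro g w hw
      have h := congrArg (fun P : Sylow 7 F.W => (P : Subgroup F.W)) (hQ g)
      rw [← h]
      exact ⟨w, hw, rfl⟩
    have hQ7 : Nat.card (Q : Subgroup F.W) = 7 := by
      rw [Q.card_eq_multiplicity, hcW]
      have : Nat.factorization (4 * 168) 7 = 1 := by
        rw [show 4 * 168 = 96 * 7 by norm_num, Nat.factorization_mul (by norm_num) (by norm_num),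
          Finsupp.add_apply, (show Nat.Prime 7 by norm_num).factorization_self,
          Nat.factorization_eq_zero_of_not_dvd (by norm_num)]
      rw [this, pow_one]
    haveI : IsCyclic (Q : Subgroup F.W) := isCyclic_of_prime_card hQ7
    let ψ : D' →* MulAut (Q : Subgroup F.W) :=
      { toFun := fun g =>
          { toFun := fun w => ⟨φ g w, hQ' g _ w.2⟩
            invFun := fun w => ⟨φ g⁻¹ w, hQ' g⁻¹ _ w.2⟩
            left_inv := fun w => Subtype.ext (by
              show φ g⁻¹ (φ g w) = w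
              rw [← MulAut.mul_apply, ← map_mul, inv_mul_cancel, map_one]; rfl)
            right_inv := fun w => Subtype.ext (by
              show φ g (φ g⁻¹ w) = w
              rw [← MulAut.mul_apply, ← map_mul, mul_inv_cancel, map_one]; rfl)
            map_mul' := fun v w => Subtype.ext (map_mul (φ g) _ _) }
        map_one' := MulEquiv.ext fun w => Subtype.ext (by
          show φ 1 w = w
          rw [map_one]; rfl)
        map_mul' := fun g g' => MulEquiv.ext fun w => Subtype.ext (by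
          show φ (g * g') w = φ g (φ g' w)
          rw [map_mul]; rfl) }
    have hnotinj : ¬ Function.Injective ψ := fun hi => by
      have h := ψ.range.card_subgroup_dvd_card
      rw [← Nat.card_congr (MonoidHom.ofInjective hi).toEquiv, hDcard, IsCyclic.card_mulAut, hQ7,
        Nat.totient_prime (by norm_num)] at h
      norm_num at h
    rw [← MonoidHom.ker_eq_bot_iff, eq_bot_iff_forall] at hnotinj
    push Not at hnotinj
    obtain ⟨g, hg, hg1⟩ := hnotinj
    obtain ⟨w, hw⟩ := exists_prime_orderOf_dvd_card' 7 (dvd_of_eq hQ7.symm)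
    obtain ⟨x, hx⟩ := g.2
    have hx0 : x ≠ (0, 0) := fun e => hg1 (Subtype.ext (by
      rw [hx, e]
      show K * F.i (nine (0, 0)) * K⁻¹ = 1
      rw [show nine (0, 0) = 1 by decide +kernel, map_one, mul_one, mul_inv_cancel]))
    have hgw : Commute (((w : F.W) : G)) (d x) := by
      have := congrArg (fun q : (Q : Subgroup F.W) => ((q : F.W) : G))
        (DFunLike.congr_fun (MonoidHom.mem_ker.1 hg) w)
      change (g : G) * _ * (g : G)⁻¹ = _ at this
      rw [hx, mul_inv_eq_iff_eq_mul] at this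
      exact this.symm
    refine F.not_dvd_seven hx0 ?_
    have hc : K⁻¹ * ((w : F.W) : G) * K ∈ centralizer ({F.i (nine x)} : Set G) := by
      refine mem_centralizer_singleton_iff.2 ?_
      have := (Commute.conj_iff K⁻¹).2 hgw
      simpa [d, mul_assoc] using this.eq
    have ho : orderOf (K⁻¹ * ((w : F.W) : G) * K) = 7 := by
      have h1 : orderOf (K⁻¹ * ((w : F.W) : G) * K) = orderOf ((w : F.W) : G) := by
        simpa using orderOf_conj' K⁻¹ ((w : F.W) : G)
      rw [h1, Subgroup.orderOf_coe, Subgroup.orderOf_coe]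
      exact hw
    rw [← ho, ← Subgroup.orderOf_mk _ hc]
    exact orderOf_dvd_natCard _

end Frame

end CfsgLib.ThreeSym
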