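import Cfsg.Agent.Lib.Recognition.ThreeSym.Model
import Cfsg.Agent.Lib.Recognition.ThreeEight.Basic

/-!
Coordinates for a group with the 3-local data of `S₈` or of `(A₅ × A₅).2²`.
-/

set_option autoImplicit false
set_option linter.style.haveILetI false

namespace CfsgLib.ThreeSym

open Subgroup Equiv CfsgLib.ThreeEight

variable {G : Type*} [Group G]

theorem mem_range_of_normalizer {i : P35 →* G} (hr : i.range = normalizer ((zpowers (i zP) : Subgroup G) : Set G))
    {g : G} (h : g * i zP * g⁻¹ = i zP ∨ g * i zP * g⁻¹ = (i zP)⁻¹) : ∃ l, i l = g := by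
  have hg : g ∈ i.range := by rw [hr]; exact mem_normalizer_zpowers h
  exact hg

theorem card_centralizer_of_range [Finite G] {i : P35 →* G} (hi : Function.Injective i)
    (hr : i.range = normalizer ((zpowers (i zP) : Subgroup G) : Set G)) :
    Nat.card (centralizer ({i zP} : Set G)) = 360 := by
  let T : Finset P35 := Finset.univ.filter fun l : P35 => l * zP = zP * l
  have hT : ∀ {l : P35}, l ∈ T → l * zP = zP * l := fun h => (Finset.mem_filter.1 h).2
  have hb : Function.Bijective fun l : T =>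
      (⟨i l.1, mem_centralizer_singleton_iff.2 (by rw [← map_mul, ← map_mul, hT l.2])⟩ :
        centralizer ({i zP} : Set G)) := by
    refine ⟨fun a b e => Subtype.ext (hi (congrArg Subtype.val e)), fun g => ?_⟩
    have hg := mem_centralizer_singleton_iff.1 g.2
    obtain ⟨l, hl⟩ := mem_range_of_normalizer hr (g := (g : G)) (Or.inl (by rw [hg]; group))
    refine ⟨⟨l, Finset.mem_filter.2 ⟨Finset.mem_univ _, hi ?_⟩⟩, Subtype.ext hl⟩
    rw [map_mul, map_mul, hl, hg]
  rw [← Nat.card_eq_of_bijective _ hb, Nat.card_eq_fintype_card, Fintype.card_coe]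
  exact card_centralizer_zP

theorem cent_nine_G {i : P35 →* G} (hi : Function.Injective i)
    (hr : i.range = normalizer ((zpowers (i zP) : Subgroup G) : Set G)) {g : G}
    (hz : g * i zP = i zP * g) (hs : g * i sP = i sP * g) :
    ∃ x, ∃ k : Fin 2, g = i (nine x) * i uP ^ k.val := by
  obtain ⟨l, rfl⟩ := mem_range_of_normalizer hr (g := g) (Or.inl (by rw [hz]; group))
  rw [← map_mul, ← map_mul] at hz hs
  obtain ⟨x, k, rfl⟩ := cent_nine l (hi hz) (hi hs)
  exact ⟨x, k, by rw [map_mul, map_pow]⟩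

/-- The coordinates. -/
structure Frame (G : Type*) [Group G] where
  i : P35 →* G
  inj : Function.Injective i
  range_eq : i.range = normalizer ((zpowers (i zP) : Subgroup G) : Set G)
  h : G
  h_sq : h * h = 1
  h_z : h * i zP * h = i sP
  h_u : h * i uP * h = i uP
  h_a : h * i aP * h = i bP ∨ h * i aP * h = i a'P
  card_y : Nat.card (centralizer ({i (zP * sP)} : Set G)) = 36
  y_normal : ∀ g, g * i (zP * sP) = i (zP * sP) * g → ∀ x, ∃ x', g * i (nine x) * g⁻¹ = i (nine x')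
  sylow : ∃ P : Sylow 3 G, ∀ g, g ∈ (P : Subgroup G) ↔ ∃ x, g = i (nine x)

namespace Frame

variable (F : Frame G)

/-- Conjugation by the swap. -/
def τ (g : G) : G := F.h * g * F.h

theorem h_inv : F.h⁻¹ = F.h := inv_eq_of_mul_eq_one_right F.h_sq

theorem τ_eq (g : G) : F.τ g = F.h * g * F.h⁻¹ := by rw [h_inv]; rfl

theorem τ_mul (g g' : G) : F.τ (g * g') = F.τ g * F.τ g' := by
  simp only [τ_eq]; group

theorem τ_τ (g : G) : F.τ (F.τ g) = g := by
  show F.h * (F.h * g * F.h) * F.h = g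
  calc F.h * (F.h * g * F.h) * F.h = (F.h * F.h) * g * (F.h * F.h) := by group
    _ = g := by rw [F.h_sq, one_mul, mul_one]

theorem τ_one : F.τ 1 = 1 := by simp only [τ_eq]; group

theorem τ_inv (g : G) : F.τ g⁻¹ = (F.τ g)⁻¹ := by simp only [τ_eq]; group

theorem τ_pow (g : G) (n : ℕ) : F.τ (g ^ n) = F.τ g ^ n := by simp only [τ_eq, conj_pow]

theorem τ_inj {g g' : G} (h : F.τ g = F.τ g') : g = g' := by
  rw [← F.τ_τ g, h, τ_τ]

theorem h_s : F.h * F.i sP * F.h = F.i zP := by
  rw [← F.h_z]; exact F.τ_τ _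

theorem τ_commute {g g' : G} (h : Commute g g') : Commute (F.τ g) (F.τ g') := by
  show F.τ g * F.τ g' = F.τ g' * F.τ g
  rw [← τ_mul, ← τ_mul, h.eq]

theorem τ_conj (g x : G) : F.τ (g * x * g⁻¹) = F.τ g * F.τ x * (F.τ g)⁻¹ := by
  rw [τ_mul, τ_mul, τ_inv]

/-- Model identities hold in the group. -/
theorem map_conj (l x : P35) : F.i (l * x * l⁻¹) = F.i l * F.i x * (F.i l)⁻¹ := by
  rw [map_mul, map_mul, map_inv]

theorem commute_i {l m : P35} (h : l * m = m * l) : Commute (F.i l) (F.i m) := by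
  show F.i l * F.i m = F.i m * F.i l
  rw [← map_mul, ← map_mul, h]

theorem eq_of_commute {l m : P35} (h : Commute (F.i l) (F.i m)) : l * m = m * l :=
  F.inj (by rw [map_mul, map_mul, h.eq])

theorem exists_of_zpowers {g : G} (h : g * F.i zP * g⁻¹ = F.i zP ∨ g * F.i zP * g⁻¹ = (F.i zP)⁻¹) :
    ∃ l, F.i l = g :=
  mem_range_of_normalizer F.range_eq h

theorem exists_of_commute_z {g : G} (h : Commute g (F.i zP)) :
    ∃ l, F.i l = g ∧ l * zP = zP * l := by
  obtain ⟨l, rfl⟩ := F.exists_of_zpowers (g := g) (Or.inl (by rw [h.eq]; group))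
  exact ⟨l, rfl, F.eq_of_commute h⟩

theorem exists_of_commute_s {g : G} (h : Commute g (F.i sP)) :
    ∃ l, F.τ (F.i l) = g ∧ l * zP = zP * l := by
  obtain ⟨l, hl, hc⟩ := F.exists_of_commute_z (g := F.τ g) (by
    have h' := F.τ_commute h
    rwa [show F.τ (F.i sP) = F.i zP from F.h_s] at h')
  exact ⟨l, by rw [hl, τ_τ], hc⟩

theorem cent_zs {g : G} (hz : Commute g (F.i zP)) (hs : Commute g (F.i sP)) :
    ∃ x, ∃ k : Fin 2, g = F.i (nine x) * F.i uP ^ k.val :=
  cent_nine_G F.inj F.range_eq hz.eq hs.eq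

theorem card_centralizer_z [Finite G] : Nat.card (centralizer ({F.i zP} : Set G)) = 360 :=
  card_centralizer_of_range F.inj F.range_eq

theorem card_centralizer_s [Finite G] : Nat.card (centralizer ({F.i sP} : Set G)) = 360 := by
  rw [← F.h_z, show F.h * F.i zP * F.h = F.h * F.i zP * F.h⁻¹ by rw [h_inv],
    card_centralizer_conj, F.card_centralizer_z]

theorem card_centralizer_off [Finite G] {x : Fin 3 × Fin 3} (h1 : x.1 ≠ 0) (h2 : x.2 ≠ 0) :
    Nat.card (centralizer ({F.i (nine x)} : Set G)) = 36 := by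
  obtain ⟨m, -, hm⟩ := conj_off x h1 h2
  rw [← card_centralizer_conj (F.i m), ← map_conj, hm, F.card_y]

/-- The centralizer of an element off the lines carries `D` to itself. -/
theorem off_normal {x : Fin 3 × Fin 3} (h1 : x.1 ≠ 0) (h2 : x.2 ≠ 0) {g : G}
    (hg : Commute g (F.i (nine x))) (y : Fin 3 × Fin 3) :
    ∃ y', g * F.i (nine y) * g⁻¹ = F.i (nine y') := by
  obtain ⟨m, hmm, hm⟩ := conj_off x h1 h2
  have hsc : ∀ m ∈ ([1, aP, bP, aP * bP] : List P35), m * m = 1 := by decide +kernel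
  have hinv : m⁻¹ = m := inv_eq_of_mul_eq_one_right (hsc m hmm)
  obtain ⟨y₁, hy₁⟩ := small_facts.1 m hmm y
  have hg' : F.i m * g * (F.i m)⁻¹ * F.i (zP * sP) = F.i (zP * sP) * (F.i m * g * (F.i m)⁻¹) := by
    rw [← hm, map_conj]
    exact ((Commute.conj_iff (F.i m)).2 hg).eq
  obtain ⟨y₂, hy₂⟩ := F.y_normal _ hg' y₁
  obtain ⟨y', hy'⟩ := small_facts.1 m hmm y₂
  refine ⟨y', ?_⟩
  rw [← hy', map_conj, ← hy₂, ← hy₁, map_conj]
  rw [← map_inv, hinv]
  have hmm' : F.i m * F.i m = 1 := by rw [← map_mul, hsc m hmm, map_one]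
  calc g * F.i (nine y) * g⁻¹
      = (F.i m * F.i m) * g * (F.i m * F.i m) * F.i (nine y) * (F.i m * F.i m) * g⁻¹ * (F.i m * F.i m) := by
        rw [hmm']; simp
    _ = _ := by
        simp only [mul_inv_rev, show (F.i m)⁻¹ = F.i m by rw [← map_inv, hinv]]
        group

theorem eq_zero_or_of_card [Finite G] {x : Fin 3 × Fin 3}
    (h : Nat.card (centralizer ({F.i (nine x)} : Set G)) ≠ 36) : x.1 = 0 ∨ x.2 = 0 := by
  by_contra hc
  push Not at hc
  exact h (F.card_centralizer_off hc.1 hc.2)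

/-- The elements normalizing `D` permute the two lines. -/
theorem conj_z_cases [Finite G] {g : G} (h : ∃ x, g * F.i zP * g⁻¹ = F.i (nine x)) :
    g * F.i zP * g⁻¹ ∈ ({F.i zP, (F.i zP)⁻¹, F.i sP, (F.i sP)⁻¹} : Set G) := by
  obtain ⟨x, hx⟩ := h
  have hc := card_centralizer_conj g (F.i zP)
  rw [hx, F.card_centralizer_z] at hc
  have h0 : x ≠ (0, 0) := by
    rintro rfl
    rw [show nine (0, 0) = 1 by decide, map_one, mul_inv_eq_one, mul_eq_left] at hx
    have := F.inj (hx.trans (map_one F.i).symm)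
    revert this
    decide
  have key : ∀ x : Fin 3 × Fin 3, (x.1 = 0 ∨ x.2 = 0) → x ≠ (0, 0) →
      nine x = zP ∨ nine x = zP⁻¹ ∨ nine x = sP ∨ nine x = sP⁻¹ := by decide +kernel
  rw [hx]
  rcases key x (F.eq_zero_or_of_card (by omega)) h0 with e | e | e | e <;> simp [e]

theorem normal_D [Finite G] {g : G} (hg : ∀ x, ∃ x', g * F.i (nine x) * g⁻¹ = F.i (nine x')) :
    (∃ l, F.i l = g) ∨ ∃ l, F.h * F.i l = g := by
  have hcases := F.conj_z_cases (g := g) (by
    obtain ⟨x', hx⟩ := hg (1, 0)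
    exact ⟨x', by rw [← nine_zP.1]; exact hx⟩)
  simp only [Set.mem_insert_iff, Set.mem_singleton_iff] at hcases
  rcases hcases with e | e | e | e
  · exact Or.inl (F.exists_of_zpowers (Or.inl e))
  · exact Or.inl (F.exists_of_zpowers (Or.inr e))
  all_goals
    right
    obtain ⟨l, hl⟩ := F.exists_of_zpowers (g := F.h * g) (by
      have e1 : F.h * g * F.i zP * (F.h * g)⁻¹ = F.τ (g * F.i zP * g⁻¹) := by
        rw [τ_eq]; group
      rw [e1, e]
      first
        | exact Or.inl F.h_s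
        | exact Or.inr (by rw [τ_inv]; exact congrArg (·⁻¹) F.h_s))
    refine ⟨l, ?_⟩
    rw [hl, ← mul_assoc, F.h_sq, one_mul]

end Frame

end CfsgLib.ThreeSym
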