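import Cfsg.Agent.Lib.Recognition.ThreeEight.Model

/-!
The 3-local model `S₃ × S₅` of the recognition of `S₈` and `(A₅ × A₅).2²`, and its finite facts.
-/

set_option autoImplicit false
set_option maxRecDepth 10000
set_option synthInstance.maxSize 2000
set_option synthInstance.maxHeartbeats 400000

namespace CfsgLib.ThreeSym

open Equiv CfsgLib.ThreeEight

/-- The three-cycle of `S₃`. -/
abbrev c₃ : Perm (Fin 3) := swap 0 1 * swap 1 2
/-- The three-cycle of `S₅`. -/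
abbrev c₅ : Perm (Fin 5) := swap 0 1 * swap 1 2

/-- `z`. -/
def zP : P35 := (c₃, 1)
/-- `s`. -/
def sP : P35 := (1, c₅)
/-- `u`. -/
def uP : P35 := (1, swap 3 4)
/-- `a`. -/
def aP : P35 := (swap 0 1, 1)
/-- `b`. -/
def bP : P35 := (1, swap 0 1)
/-- `a' = b u`. -/
def a'P : P35 := (1, swap 0 1 * swap 3 4)
/-- `v'`. -/
def vP : P35 := (1, swap 0 3 * swap 1 4)
/-- An element of order three normalizing `{a', v'}`. -/
def rP : P35 := (1, swap 1 3 * swap 3 4)

/-- The nine elements of `D`. -/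
def nine (x : Fin 3 × Fin 3) : P35 := (c₃ ^ x.1.val, c₅ ^ x.2.val)

theorem rels :
    zP ^ 3 = 1 ∧ sP ^ 3 = 1 ∧ uP * uP = 1 ∧ aP * aP = 1 ∧ bP * bP = 1 ∧ a'P * a'P = 1 ∧
    vP * vP = 1 ∧ rP ^ 3 = 1 ∧ bP * uP = a'P ∧ a'P * uP = bP := by
  decide +kernel

theorem nine_injective : Function.Injective nine := by
  intro x y
  revert x y
  decide +kernel

theorem nine_zP : nine (1, 0) = zP ∧ nine (0, 1) = sP ∧ nine (1, 1) = zP * sP := by
  decide +kernel

theorem nine_mul : ∀ x y, nine x * nine y = nine (x + y) := by decide +kernel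

/-- The elements commuting with both `z` and `s`. -/
theorem cent_nine : ∀ l : P35, l * zP = zP * l → l * sP = sP * l →
    ∃ x, ∃ k : Fin 2, l = nine x * uP ^ k.val := by
  decide +kernel

theorem eighteen_injective : Function.Injective
    fun x : (Fin 3 × Fin 3) × Fin 2 => nine x.1 * uP ^ x.2.val := by
  intro x y
  revert x y
  decide +kernel

theorem card_centralizer_zP : (Finset.univ.filter fun l : P35 => l * zP = zP * l).card = 360 := by
  decide +kernel

theorem card_stab : (Finset.univ.filter fun l : P35 => ∃ x, l * sP * l⁻¹ = nine x).card = 72 := by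
  decide +kernel

/-- The model elements carrying `D` to itself. -/
theorem stab_conj : ∀ l : P35, (∃ x, l * sP * l⁻¹ = nine x) →
    (l * sP * l⁻¹ = sP ∨ l * sP * l⁻¹ = sP⁻¹) ∧ (l * zP * l⁻¹ = zP ∨ l * zP * l⁻¹ = zP⁻¹) ∧
      l * uP = uP * l := by
  decide +kernel

theorem conj_zP : ∀ l : P35, l * zP * l⁻¹ = zP ∨ l * zP * l⁻¹ = zP⁻¹ := by decide +kernel

/-- `a` separates the lines of `z` and of `s` from the other two. -/
theorem aP_nine : ∀ x : Fin 3 × Fin 3, x.1 ≠ 0 → x.2 ≠ 0 →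
    aP * nine x * aP⁻¹ ≠ nine x ∧ aP * nine x * aP⁻¹ ≠ (nine x)⁻¹ := by
  decide +kernel

/-- The elements off the lines are conjugate to `z s`. -/
theorem conj_off : ∀ x : Fin 3 × Fin 3, x.1 ≠ 0 → x.2 ≠ 0 →
    ∃ m ∈ ([1, aP, bP, aP * bP] : List P35), m * nine x * m⁻¹ = zP * sP := by
  decide +kernel

theorem small_facts :
    (∀ m ∈ ([1, aP, bP, aP * bP] : List P35), ∀ x, ∃ y, m * nine x * m⁻¹ = nine y) ∧
    aP * zP * aP⁻¹ = zP⁻¹ ∧ aP * sP = sP * aP ∧ aP * uP = uP * aP ∧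
    bP * sP * bP⁻¹ = sP⁻¹ ∧ bP * zP = zP * bP ∧ bP * uP = uP * bP ∧
    a'P * sP * a'P⁻¹ = sP⁻¹ ∧ a'P * uP = uP * a'P ∧
    uP * zP = zP * uP ∧ uP * sP = sP * uP ∧ aP * bP = bP * aP ∧ aP * a'P = a'P * aP := by
  decide +kernel

/-- Involutions inverting `s` and centralizing `z`, up to conjugation by `⟨s⟩`. -/
theorem invert_s : ∀ l : P35, l * l = 1 → l * zP = zP * l → l * sP * l = sP⁻¹ →
    ∃ k : Fin 3, l * sP ^ (2 * k.val) = bP ∨ l * sP ^ (2 * k.val) = a'P := by
  decide +kernel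

/-- An element commuting with `a'` and `u`, with first coordinate commuting with `(0 1)`. -/
theorem cent_E : ∀ l : P35, l * aP = aP * l → l * a'P = a'P * l → l * uP = uP * l →
    ∃ i j k : Fin 2, l = aP ^ i.val * a'P ^ j.val * uP ^ k.val := by
  decide +kernel

theorem conj_aP : ∀ l : P35, l * uP = uP * l → l * aP = aP * l →
    l * a'P * l⁻¹ ≠ aP ∧ l * a'P * l⁻¹ ≠ aP * a'P := by
  decide +kernel

theorem fst_ne : ∀ l m : P35, l * a'P * l⁻¹ ≠ aP ∧ m * aP * m⁻¹ ≠ a'P := by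
  intro l m
  refine ⟨fun h => ?_, fun h => ?_⟩
  · have h1 := congrArg Prod.fst h
    simp [a'P, aP] at h1
    exact absurd h1 (by decide)
  · have h1 := congrArg Prod.fst h
    simp [a'P, aP] at h1

/-- The elements of `S₅` commuting with `a'` and `v'`. -/
theorem cent_four : ∀ y : Perm (Fin 5), y * a'P.2 = a'P.2 * y → y * vP.2 = vP.2 * y →
    ∃ i j : Fin 2, y = a'P.2 ^ i.val * vP.2 ^ j.val := by
  decide +kernel

theorem four_facts :
    a'P * vP = vP * a'P ∧ vP * zP = zP * vP ∧ vP * aP = aP * vP ∧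
    uP * vP * uP = vP * a'P ∧ vP * uP ≠ uP * vP ∧
    rP * a'P * rP⁻¹ = vP ∧ rP * vP * rP⁻¹ = a'P * vP ∧ rP * zP = zP * rP ∧ rP * aP = aP * rP := by
  decide +kernel

/-- A conjugator from `σ` to the new three-cycle. -/
theorem exists_kappa : ∃ k : Perm (Fin 5), Perm.sign k = 1 ∧ k * c₅ * k⁻¹ = rP.2 := by
  decide +kernel

/-- The conjugate of `y` under an element of `⟨(0 1 2), (0 1)(3 4)⟩`. -/
def cjy (h y : Perm (Fin 5)) : Perm (Fin 5) := h * y * h⁻¹

/-- Groups of order prime to three normalized by `⟨(0 1 2), (0 1)(3 4)⟩` centralize it. -/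
theorem no_three : ∀ y : Perm (Fin 5),
    (∀ w ∈ ([y * y * cjy c₅ y * cjy (c₅ * c₅) y, y * y * cjy (c₅ * c₅) y * cjy c₅ y,
        y * cjy c₅ y * y * cjy (c₅ * c₅) y, y * cjy a'P.2 y * cjy c₅ y * cjy (a'P.2 * c₅) y,
        y * cjy (a'P.2 * c₅) y] : List (Perm (Fin 5))), w ^ 6 = 1 → w ^ 2 = 1) →
      y * c₅ = c₅ * y := by
  decide +kernel

/-- Odd involutions of `S₅` are conjugate to `u` under the even permutations. -/
theorem odd_invol : ∀ y : Perm (Fin 5), y * y = 1 → Perm.sign y = -1 →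
    ∃ k : Perm (Fin 5), Perm.sign k = 1 ∧ k * (swap 3 4) * k⁻¹ = y := by
  decide +kernel

/-- Even involutions of `S₅` are conjugate to `a'` under the even permutations. -/
theorem even_invol : ∀ y : Perm (Fin 5), y * y = 1 → y ≠ 1 → Perm.sign y = 1 →
    ∃ k : Perm (Fin 5), Perm.sign k = 1 ∧ k * a'P.2 * k⁻¹ = y := by
  decide +kernel

/-- Words for the even permutations. -/
theorem alt_words : ∀ y : Perm (Fin 5), Perm.sign y = 1 →
    ∃ p q : Fin 3, ∃ j k l m : Fin 2, ∃ r : Fin 3, y =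
      c₅ ^ p.val * a'P.2 ^ j.val * vP.2 ^ k.val * c₅ ^ q.val * vP.2 ^ l.val * c₅ ^ r.val *
        a'P.2 ^ m.val := by
  decide +kernel

end CfsgLib.ThreeSym
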