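import Cfsg.Agent.Lib.Recognition.ThreeSym.SixLists

/-!
Facts about `S₆`: the centralizers of the odd involutions.
-/

set_option autoImplicit false
set_option maxRecDepth 100000
set_option synthInstance.maxSize 2000
set_option synthInstance.maxHeartbeats 400000

namespace CfsgLib.ThreeSym.SixFacts

open Equiv

/-- The odd involutions up to conjugation. -/
def reps : List (Perm (Fin 6)) := [swap 0 1, swap 0 1 * swap 2 3 * swap 4 5]

/-- The centralizer. -/
def cent (a : Perm (Fin 6)) : List (Perm (Fin 6)) := if a = swap 0 1 then cent1 else cent3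

/-- The conjugacy class. -/
def cls (a : Perm (Fin 6)) : List (Perm (Fin 6)) := if a = swap 0 1 then class1 else class3

/-- The squares of order two. -/
def sqs (a : Perm (Fin 6)) : List (Perm (Fin 6)) :=
  if a = swap 0 1 then [swap 2 3 * swap 4 5, swap 2 4 * swap 3 5, swap 2 5 * swap 3 4]
  else [swap 0 1 * swap 2 3, swap 0 1 * swap 4 5, swap 2 3 * swap 4 5]

theorem mem_cent : ∀ a ∈ reps, ∀ y : Perm (Fin 6), y * a = a * y → y ∈ cent a := by decide +kernel

/-- The squares of order two in the centralizer. -/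
def Sq (a r : Perm (Fin 6)) : Prop :=
  r * r = 1 ∧ r ≠ 1 ∧ ∃ y : Perm (Fin 6), y * a = a * y ∧ y * y = r

theorem sqs_facts : ∀ a ∈ reps,
    (∀ y ∈ cent a, y * y * (y * y) = 1 → y * y ≠ 1 → y * y ∈ sqs a) ∧
    (∀ r ∈ sqs a, r * r = 1 ∧ r ≠ 1 ∧ r * a = a * r ∧ ∃ y ∈ cent a, y * a = a * y ∧ y * y = r) ∧
    (sqs a).Nodup ∧ (sqs a).length = 3 := by
  decide +kernel

theorem sqs_closed : ∀ a ∈ reps, ∀ r ∈ sqs a, ∀ r' ∈ sqs a, r' ≠ r →
    r * r' = r' * r ∧ r * r' ∈ sqs a ∧ a ≠ r * r' ∧ a ≠ r ∧ a ≠ r' := by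
  decide +kernel

end CfsgLib.ThreeSym.SixFacts
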