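import Cfsg.Agent.Lib.Recognition.ThreeSym.SixClasses
import Cfsg.Agent.Lib.Recognition.ThreeSym.SixCent

/-!
Facts about `S₆` used for the centralizer of `u`.
-/

set_option autoImplicit false
set_option maxRecDepth 100000
set_option synthInstance.maxSize 2000
set_option synthInstance.maxHeartbeats 400000

namespace CfsgLib.ThreeSym.SixFacts

open Equiv

theorem reps_spec (a : Perm (Fin 6)) (hs : Perm.sign a = -1) (h2 : a * a = 1) :
    ∃ g : Perm (Fin 6), g * a * g⁻¹ ∈ reps := by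
  rcases List.mem_append.1 (odd_invol_mem a hs h2) with h | h
  · obtain ⟨g, hg⟩ := class_conj1 a h
    refine ⟨g⁻¹, ?_⟩
    rw [show g⁻¹ * a * g⁻¹⁻¹ = swap 0 1 by rw [← hg]; group]
    exact List.mem_cons_self
  · obtain ⟨g, hg⟩ := class_conj3 a h
    refine ⟨g⁻¹, ?_⟩
    rw [show g⁻¹ * a * g⁻¹⁻¹ = swap 0 1 * swap 2 3 * swap 4 5 by rw [← hg]; group]
    exact List.mem_cons_of_mem _ List.mem_cons_self

theorem mem_sqs {a : Perm (Fin 6)} (ha : a ∈ reps) {r : Perm (Fin 6)} : Sq a r ↔ r ∈ sqs a := by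
  constructor
  · rintro ⟨h2, h1, y, hy, rfl⟩
    exact (sqs_facts a ha).1 y (mem_cent a ha y hy) h2 h1
  · intro hr
    obtain ⟨h2, h1, -, y, -, hy, he⟩ := (sqs_facts a ha).2.1 r hr
    exact ⟨h2, h1, y, hy, he⟩

theorem sq_three : ∀ a ∈ reps, ∃ r₁ r₂ r₃, r₁ ≠ r₂ ∧ r₁ ≠ r₃ ∧ r₂ ≠ r₃ ∧
    ∀ r, Sq a r ↔ r = r₁ ∨ r = r₂ ∨ r = r₃ := by
  intro a ha
  obtain ⟨-, -, hn, hl⟩ := sqs_facts a ha
  obtain ⟨r₁, r₂, r₃, he⟩ := List.length_eq_three.1 hl
  rw [he] at hn
  refine ⟨r₁, r₂, r₃, ?_, ?_, ?_, fun r => by rw [mem_sqs ha, he]; simp⟩ <;> simp_all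

/-- A subgroup containing `a`, `s`, `t` and a square `r` has order divisible by 16. -/
theorem sixteen_dvd (a : Perm (Fin 6)) (ha : a ∈ reps) (s : Perm (Fin 6)) (hsa : s * a = a * s)
    (hs3 : s ^ 3 = 1) (hs1 : s ≠ 1) (t : Perm (Fin 6)) (hta : t * a = a * t) (ht2 : t * t = 1)
    (hts : t * s * t = s⁻¹) (r : Perm (Fin 6)) (hr : Sq a r) (hrs : s * r * s⁻¹ ≠ r)
    (K : Subgroup (Perm (Fin 6)))
    (haK : a ∈ K) (hsK : s ∈ K) (htK : t ∈ K) (hrK : r ∈ K) : 16 ∣ Nat.card K := by
  classical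
  haveI : Fact (Nat.Prime 2) := ⟨Nat.prime_two⟩
  have hconj : ∀ g : Perm (Fin 6), g * a = a * g → ∀ q ∈ sqs a, g * q * g⁻¹ ∈ sqs a := by
    intro g hg q hq
    obtain ⟨q2, q1, y, hy, hyy⟩ := (mem_sqs ha).2 hq
    refine (mem_sqs ha).1 ⟨by rw [conj_mul, q2, mul_one, mul_inv_cancel], ?_, g * y * g⁻¹, ?_, ?_⟩
    · rw [Ne, mul_inv_eq_one, mul_eq_left]; exact q1
    · have hga : Commute g a := hg
      exact ((hga.mul_left hy).mul_left hga.inv_left).eq
    · rw [conj_mul, hyy]
  have hr' := (mem_sqs ha).1 hr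
  set q := s * r * s⁻¹ with hq
  have hq' : q ∈ sqs a := hconj s hsa r hr'
  obtain ⟨hrq, hrqm, ha3, ha1, ha2⟩ := sqs_closed a ha r hr' q hq' hrs
  have hqK : q ∈ K := mul_mem (mul_mem hsK hrK) (inv_mem hsK)
  -- the three squares
  have hinv : ∀ w ∈ sqs a, w * w = 1 := fun w hw => ((sqs_facts a ha).2.1 w hw).1
  have hcoma : ∀ w ∈ sqs a, Commute w a := fun w hw => ((sqs_facts a ha).2.1 w hw).2.2.1
  have haa : a * a = 1 := (by decide +kernel : ∀ a ∈ reps, a * a = 1) _ ha
  let E : Subgroup (Perm (Fin 6)) :=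
    { carrier := {g | ∃ i j k : Fin 2, g = a ^ i.val * r ^ j.val * q ^ k.val}
      one_mem' := ⟨0, 0, 0, by simp⟩
      mul_mem' := by
        rintro g g' ⟨i, j, k, rfl⟩ ⟨i', j', k', rfl⟩
        refine ⟨i + i', j + j', k + k', ?_⟩
        have hp : ∀ w : Perm (Fin 6), w * w = 1 → ∀ i i' : Fin 2,
            w ^ (i + i').val = w ^ i.val * w ^ i'.val := by
          intro w hw i i'
          fin_cases i <;> fin_cases i' <;> simp [hw]
        rw [hp a haa, hp r (hinv r hr'), hp q (hinv q hq')]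
        have c1 : Commute (a ^ i'.val) (r ^ j.val * q ^ k.val) :=
          (((hcoma r hr').symm.pow_pow _ _).mul_right ((hcoma q hq').symm.pow_pow _ _))
        have c2 : Commute (r ^ j'.val) (q ^ k.val) := (show Commute r q from hrq).pow_pow _ _
        calc a ^ i.val * r ^ j.val * q ^ k.val * (a ^ i'.val * r ^ j'.val * q ^ k'.val)
            = a ^ i.val * (r ^ j.val * q ^ k.val * a ^ i'.val) * (r ^ j'.val * q ^ k'.val) := by group
          _ = a ^ i.val * (a ^ i'.val * (r ^ j.val * q ^ k.val)) * (r ^ j'.val * q ^ k'.val) := by rw [c1.eq]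
          _ = a ^ i.val * a ^ i'.val * r ^ j.val * (q ^ k.val * r ^ j'.val) * q ^ k'.val := by group
          _ = a ^ i.val * a ^ i'.val * r ^ j.val * (r ^ j'.val * q ^ k.val) * q ^ k'.val := by rw [c2.eq]
          _ = _ := by group
      inv_mem' := by
        rintro g ⟨i, j, k, rfl⟩
        refine ⟨i, j, k, ?_⟩
        have hp : ∀ w : Perm (Fin 6), w * w = 1 → ∀ i : Fin 2, (w ^ i.val)⁻¹ = w ^ i.val := by
          intro w hw i
          fin_cases i <;> simp [inv_eq_of_mul_eq_one_right hw]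
        rw [mul_inv_rev, mul_inv_rev, hp a haa, hp r (hinv r hr'), hp q (hinv q hq')]
        have c1 : Commute (a ^ i.val) (r ^ j.val) := (hcoma r hr').symm.pow_pow _ _
        have c2 : Commute (q ^ k.val) (a ^ i.val * r ^ j.val) :=
          ((hcoma q hq').pow_pow _ _).mul_right ((show Commute r q from hrq).symm.pow_pow _ _)
        rw [← c1.eq, c2.eq] }
  have hEmem : ∀ i j k : Fin 2, a ^ i.val * r ^ j.val * q ^ k.val ∈ E := fun i j k => ⟨i, j, k, rfl⟩
  have hE2 : IsPGroup 2 E := fun ⟨g, i, j, k, hg⟩ => ⟨1, Subtype.ext (by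
    show g ^ 2 ^ 1 = 1
    have h : a ^ i.val * r ^ j.val * q ^ k.val ∈ E := hEmem i j k
    have h' := E.inv_mem' h
    rw [hg, pow_one, pow_two]
    have hp : ∀ w : Perm (Fin 6), w * w = 1 → ∀ i : Fin 2, w ^ i.val * w ^ i.val = 1 := by
      intro w hw i
      fin_cases i <;> simp [hw]
    have c1 : Commute (a ^ i.val) (r ^ j.val) := (hcoma r hr').symm.pow_pow _ _
    have c2 : Commute (q ^ k.val) (a ^ i.val * r ^ j.val) :=
      ((hcoma q hq').pow_pow _ _).mul_right ((show Commute r q from hrq).symm.pow_pow _ _)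
    rw [← pow_two, c2.symm.mul_pow, c1.mul_pow, pow_two, pow_two, pow_two, hp a haa,
      hp r (hinv r hr'), hp q (hinv q hq'), one_mul, one_mul])⟩
  have hEsq : ∀ w ∈ sqs a, w ∈ E := by
    intro w hw
    have hnd := (sqs_facts a ha).2.2.1
    have hr3 : r * q ≠ r ∧ r * q ≠ q := by
      refine ⟨fun e => ?_, fun e => ?_⟩
      · exact ((sqs_facts a ha).2.1 q hq').2.1 (mul_eq_left.1 e)
      · exact ((sqs_facts a ha).2.1 r hr').2.1 (mul_eq_right.1 e)
    obtain ⟨r₁, r₂, r₃, he⟩ := List.length_eq_three.1 (sqs_facts a ha).2.2.2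
    have key : w = r ∨ w = q ∨ w = r * q := by
      have h : ({r, q, r * q} : Finset (Perm (Fin 6))) = (sqs a).toFinset := by
        refine Finset.eq_of_subset_of_card_le ?_ ?_
        · intro g hg
          simp only [Finset.mem_insert, Finset.mem_singleton] at hg
          rcases hg with rfl | rfl | rfl <;> simpa [List.mem_toFinset]
        · rw [List.toFinset_card_of_nodup hnd, (sqs_facts a ha).2.2.2,
            Finset.card_insert_of_notMem (by simp [hrs.symm, hr3.1.symm]),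
            Finset.card_pair (fun e => hr3.2 e.symm)]
      have := List.mem_toFinset.2 hw
      rw [← h] at this
      simpa using this
    rcases key with rfl | rfl | rfl
    · simpa using hEmem 0 1 0
    · simpa using hEmem 0 0 1
    · simpa using hEmem 0 1 1
  have haE : a ∈ E := by simpa using hEmem 1 0 0
  have hnorm : ∀ g : Perm (Fin 6), g * a = a * g → g ∈ Subgroup.normalizer (E : Set (Perm (Fin 6))) := by
    intro g hg
    refine Subgroup.mem_normalizer_fintype fun x hx => ?_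
    obtain ⟨i, j, k, rfl⟩ := hx
    rw [← conj_mul, ← conj_mul, ← conj_pow, ← conj_pow, ← conj_pow]
    refine mul_mem (mul_mem (pow_mem ?_ _) (pow_mem ?_ _)) (pow_mem ?_ _)
    · rw [show g * a * g⁻¹ = a by rw [hg, mul_inv_cancel_right]]; exact haE
    · exact hEsq _ (hconj g hg r hr')
    · exact hEsq _ (hconj g hg q hq')
  have htE : t ∉ E := by
    intro ht
    have h1 : t * (s * t * s⁻¹) ∈ E :=
      mul_mem ht ((Subgroup.mem_normalizer_iff.1 (hnorm s hsa) t).1 ht)
    have h2 : t * (s * t * s⁻¹) = s⁻¹ * s⁻¹ := by rw [← mul_assoc, ← mul_assoc, hts]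
    rw [h2] at h1
    obtain ⟨n, hn⟩ := hE2 ⟨_, h1⟩
    have hn' : (s⁻¹ * s⁻¹) ^ 2 ^ n = 1 := congrArg Subtype.val hn
    have hd := orderOf_dvd_of_pow_eq_one hn'
    have h3 : orderOf (s⁻¹ * s⁻¹) = 3 := orderOf_eq_prime (by
        rw [← mul_inv_rev, inv_pow, (Commute.refl s).mul_pow, hs3, one_mul, inv_one]) (fun e => hs1 (by
        calc s = s ^ 3 * (s⁻¹ * s⁻¹) := by group
          _ = 1 := by rw [hs3, e, one_mul]))
    rw [h3] at hd
    exact absurd (Nat.prime_three.dvd_of_dvd_pow hd) (by norm_num)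
  have hA : E ≤ K := by
    rintro _ ⟨i, j, k, rfl⟩
    exact mul_mem (mul_mem (pow_mem haK _) (pow_mem hrK _)) (pow_mem hqK _)
  set H := Subgroup.zpowers t ⊔ E with hH
  have hp : IsPGroup 2 H := by
    refine IsPGroup.to_sup_of_normal_right' ?_ hE2 (Subgroup.zpowers_le.2 (hnorm t hta))
    refine IsPGroup.of_card (n := 1) ?_
    have ht1 : t ≠ 1 := fun e => htE (e ▸ E.one_mem)
    rw [Nat.card_zpowers, orderOf_eq_prime (by rw [pow_two, ht2]) ht1, pow_one]
  obtain ⟨n, hn⟩ := IsPGroup.iff_card.1 hp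
  have hE8 : Nat.card E = 8 := by
    have hinj : Function.Injective fun p : Fin 2 × Fin 2 × Fin 2 =>
        (⟨_, hEmem p.1 p.2.1 p.2.2⟩ : E) := by
      intro p p' e
      have e' : a ^ p.1.val * r ^ p.2.1.val * q ^ p.2.2.val = a ^ p'.1.val * r ^ p'.2.1.val * q ^ p'.2.2.val :=
        congrArg Subtype.val e
      have hodd : Perm.sign a = -1 := (by decide +kernel : ∀ a ∈ reps, Perm.sign a = -1) a ha
      have heven : ∀ w ∈ sqs a, Perm.sign w = 1 := fun w hw => by
        obtain ⟨-, -, y, -, hy⟩ := (mem_sqs ha).2 hw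
        rw [← hy, map_mul, Int.units_mul_self]
      obtain ⟨i, j, k⟩ := p
      obtain ⟨i', j', k'⟩ := p'
      have hi : i = i' := by
        have h := congrArg Perm.sign e'
        simp only [map_mul, map_pow, hodd, heven r hr', heven q hq', one_pow, mul_one] at h
        have key : ∀ i i' : Fin 2, (-1 : ℤˣ) ^ i.val = (-1) ^ i'.val → i = i' := by decide +kernel
        exact key i i' h
      subst hi
      have e'' : r ^ j.val * q ^ k.val = r ^ j'.val * q ^ k'.val := by
        apply mul_left_cancel (a := a ^ i.val)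
        rw [← mul_assoc, ← mul_assoc]; exact e'
      have r1 := ((sqs_facts a ha).2.1 r hr').2.1
      have q1 := ((sqs_facts a ha).2.1 q hq').2.1
      have rq1 := ((sqs_facts a ha).2.1 _ hrqm).2.1
      have hnr : q ≠ r := hrs
      fin_cases j <;> fin_cases k <;> fin_cases j' <;> fin_cases k' <;>
        simp only [Fin.zero_eta, Fin.mk_one, Fin.val_zero, Fin.val_one, pow_zero, pow_one, one_mul, mul_one] at e'' ⊢ <;>
        first
          | exact absurd e'' q1
          | exact absurd e''.symm q1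
          | exact absurd e'' r1
          | exact absurd e''.symm r1
          | exact absurd e'' rq1
          | exact absurd e''.symm rq1
          | exact absurd e'' hnr
          | exact absurd e''.symm hnr
          | exact absurd (mul_eq_left.1 e'') q1
          | exact absurd (mul_eq_left.1 e''.symm) q1
          | exact absurd (mul_eq_right.1 e'') r1
          | exact absurd (mul_eq_right.1 e''.symm) r1
    have hsur : Function.Surjective fun p : Fin 2 × Fin 2 × Fin 2 =>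
        (⟨_, hEmem p.1 p.2.1 p.2.2⟩ : E) := by
      rintro ⟨g, i, j, k, hg⟩
      exact ⟨(i, j, k), Subtype.ext hg.symm⟩
    rw [← Nat.card_eq_of_bijective _ ⟨hinj, hsur⟩]
    simp
  have hlt : Nat.card E < Nat.card H := by
    refine lt_of_le_of_ne (Subgroup.card_le_of_le le_sup_right) fun e => htE ?_
    rw [Subgroup.eq_of_le_of_card_ge (le_sup_right : E ≤ H) e.ge]
    exact Subgroup.mem_sup_left (Subgroup.mem_zpowers t)
  rw [hE8, hn] at hlt
  refine dvd_trans ?_ (Subgroup.card_dvd_of_le (show H ≤ K from sup_le (Subgroup.zpowers_le.2 htK) hA))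
  rw [hn, show 16 = 2 ^ 4 by norm_num]
  refine pow_dvd_pow 2 ?_
  by_contra hlt'
  have := Nat.pow_le_pow_right (show 2 > 0 by norm_num) (Nat.le_of_lt_succ (not_le.1 hlt'))
  omega

/-- The sixteen elements of `⟨a, b, k, h⟩`. -/
def prods' (a b k h : Perm (Fin 6)) : List (Perm (Fin 6)) :=
  [1, a, b, a * b, k, a * k, b * k, a * b * k, h, a * h, b * h, a * b * h,
    k * h, a * k * h, b * k * h, a * b * k * h]

theorem complement_raw : ∀ a ∈ reps, ∀ h ∈ class1 ++ class3,
    h * a * h * a = a * (h * a * h) → h * a * h ≠ a →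
    ∃ k ∈ cls a, k * k = 1 ∧ k * a = a * k ∧ k * (h * a * h) = (h * a * h) * k ∧ k * h = h * k ∧
      (prods' a (h * a * h) k h).Nodup ∧ h * k ∈ evenInv ∧ a * (h * a * h) ∈ evenInv := by
  decide +kernel

theorem complement (a : Perm (Fin 6)) (ha : a ∈ reps) (h : Perm (Fin 6)) (h2 : h * h = 1)
    (hs : Perm.sign h = -1) (b : Perm (Fin 6)) (hb : b = h * a * h) (hab : b * a = a * b) (hne : b ≠ a) :
    ∃ k : Perm (Fin 6), k * k = 1 ∧ k * a = a * k ∧ k * b = b * k ∧ k * h = h * k ∧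
      (prods' a b k h).Nodup ∧ (∃ g, g * a * g⁻¹ = k) ∧ ∃ g, g * (a * b) * g⁻¹ = h * k := by
  subst hb
  obtain ⟨k, hk, k2, ka, kb, kh, hn, he, he'⟩ := complement_raw a ha h (odd_invol_mem h hs h2) hab hne
  refine ⟨k, k2, ka, kb, kh, hn, ?_, ?_⟩
  · unfold cls at hk
    simp only [reps, List.mem_cons, List.not_mem_nil, or_false] at ha
    rcases ha with rfl | rfl
    · rw [if_pos rfl] at hk; exact class_conj1 k hk
    · rw [if_neg (by decide +kernel)] at hk; exact class_conj3 k hk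
  · obtain ⟨g, hg⟩ := even_conj _ he
    obtain ⟨g', hg'⟩ := even_conj _ he'
    exact ⟨g * g'⁻¹, by rw [← hg, ← hg']; group⟩

end CfsgLib.ThreeSym.SixFacts
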