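import Cfsg.Agent.Lib.Recognition.ThreeSym.CentU
import Cfsg.Agent.Lib.Recognition.ThreeSym.Classes
import Cfsg.Agent.Lib.Recognition.ThreeSym.SixFacts

/-!
If `C(u)/⟨u⟩` is `S₆` then the swap carries `a` to `b` and `C(u)` is `2 × S₆`; otherwise it carries
`a` to `a'`.
-/

set_option autoImplicit false
set_option linter.style.haveILetI false
set_option maxRecDepth 10000
set_option synthInstance.maxSize 2000
set_option synthInstance.maxHeartbeats 400000

namespace CfsgLib.ThreeSym

open Subgroup Equiv CfsgLib.ThreeEight SixFacts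

variable {G : Type*} [Group G]

theorem six_model :
    (∀ l : P35, l * zP = zP * l → l * a'P = a'P * l → l ^ 9 = 1 → ∃ k : Fin 3, l = zP ^ k.val) ∧
    (∃ k : P35, k * uP * k⁻¹ = bP) ∧ aP * sP = sP * aP ∧ (aP * sP) ^ 6 = 1 ∧
    (aP * sP) ^ 2 = sP ^ 2 ∧ (aP * sP) ^ 3 = aP ∧ aP ≠ uP ∧ sP ^ 2 ≠ 1 ∧ sP ^ 2 ≠ uP ∧
    aP * bP = bP * aP ∧ bP ≠ aP ∧ bP ≠ aP * uP ∧ sP ≠ uP := by
  decide +kernel

namespace Frame

variable (F : Frame G)

variable {F}

namespace Six

theorem A_mem : F.A ∈ centralizer ({F.U} : Set G) :=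
  mem_centralizer_singleton_iff.2 (F.commute_i (by decide +kernel)).eq

theorem S_mem : F.S ∈ centralizer ({F.U} : Set G) :=
  mem_centralizer_singleton_iff.2 (F.commute_i (by decide +kernel)).eq

variable (X : F.Six)
include X

/-- Composition with a conjugation. -/
def conj (g : Perm (Fin 6)) : F.Six where
  ψ := (MulAut.conj g).toMonoidHom.comp X.ψ
  surj := (MulAut.conj g).surjective.comp X.surj
  ker := fun x => by
    rw [← X.ker x, MonoidHom.comp_apply, MulEquiv.coe_toMonoidHom, EmbeddingLike.map_eq_one_iff]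

theorem psi_U (h : F.U ∈ centralizer ({F.U} : Set G)) : X.ψ ⟨F.U, h⟩ = 1 := (X.ker _).2 (Or.inr rfl)

theorem eq_or_of_psi {g g' : centralizer ({F.U} : Set G)} (h : X.ψ g = X.ψ g') :
    (g' : G) = g ∨ (g' : G) = g * F.U := by
  rcases (X.ker (g⁻¹ * g')).1 (by rw [map_mul, map_inv, h, inv_mul_cancel]) with e | e
  · left; simpa [inv_mul_eq_one, eq_comm] using e
  · right
    have e' : (g : G)⁻¹ * g' = F.U := e
    exact inv_mul_eq_iff_eq_mul.1 e'

theorem psi_A_sq : X.ψ ⟨F.A, A_mem⟩ * X.ψ ⟨F.A, A_mem⟩ = 1 := by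
  rw [← map_mul]
  exact (X.ker _).2 (Or.inl (mul_self F.A_ord))

theorem psi_A_sign : Perm.sign (X.ψ ⟨F.A, A_mem⟩) = -1 := by
  rcases Int.units_eq_one_or (Perm.sign (X.ψ ⟨F.A, A_mem⟩)) with e | e
  · exfalso
    obtain ⟨-, -, hAS, h6, h2, h3, hau, hs1, hsu, -⟩ := six_model
    set S' : centralizer ({F.U} : Set G) := ⟨F.S, S_mem⟩
    have hs : Perm.sign (X.ψ S') = 1 := by
      have h : (Perm.sign (X.ψ S')) ^ 3 = 1 := by
        rw [← map_pow, ← map_pow, show S' ^ 3 = 1 from Subtype.ext (by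
          show F.S ^ 3 = 1; rw [← F.S_ord, pow_orderOf_eq_one]), map_one, map_one]
      rcases Int.units_eq_one_or (Perm.sign (X.ψ S')) with e' | e'
      · exact e'
      · rw [e'] at h; exact absurd h (by decide)
    set w : centralizer ({F.U} : Set G) := ⟨F.A, A_mem⟩ * S' with hw
    have hwG : ∀ n : ℕ, ((w ^ n : centralizer ({F.U} : Set G)) : G) = F.i ((aP * sP) ^ n) := fun n => by
      rw [map_pow, map_mul]; rfl
    have hne : ∀ n : ℕ, X.ψ (w ^ n) = 1 → (aP * sP) ^ n = 1 ∨ (aP * sP) ^ n = uP := fun n hn => by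
      rcases (X.ker _).1 hn with e | e <;> rw [hwG] at e
      · exact Or.inl (F.inj (e.trans (map_one F.i).symm))
      · exact Or.inr (F.inj e)
    rcases even_order (X.ψ w) (by rw [hw, map_mul, map_mul, e, hs, one_mul])
        (by rw [← map_pow]; exact (X.ker _).2 (Or.inl (by rw [hwG, h6, map_one]))) with h | h <;>
      rw [← map_pow] at h
    · rcases hne 2 h with e' | e' <;> rw [h2] at e'
      exacts [hs1 e', hsu e']
    · rcases hne 3 h with e' | e' <;> rw [h3] at e'
      exacts [ord_facts.2.1 e', hau e']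
  · exact e

theorem commute_A [Finite G] {x : centralizer ({F.U} : Set G)}
    (h : X.ψ x * X.ψ ⟨F.A, A_mem⟩ = X.ψ ⟨F.A, A_mem⟩ * X.ψ x) : Commute (x : G) F.A := by
  have h' : X.ψ ⟨F.A, A_mem⟩ = X.ψ (x * ⟨F.A, A_mem⟩ * x⁻¹) := by
    rw [map_mul, map_mul, map_inv, h, mul_inv_cancel_right]
  rcases X.eq_or_of_psi h' with e | e <;> rw [Subgroup.coe_mul, Subgroup.coe_mul, Subgroup.coe_inv] at e
  · exact mul_inv_eq_iff_eq_mul.1 e
  · exact absurd e (F.AU_not_conj_A x)

theorem exists_normalized : ∃ Y : F.Six, Y.ψ ⟨F.A, A_mem⟩ ∈ reps := by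
  obtain ⟨g, hg⟩ := reps_spec _ X.psi_A_sign X.psi_A_sq
  exact ⟨X.conj g, hg⟩

omit X in
/-- With `C(u)/⟨u⟩ ≅ S₆` the swap is not twisted. -/
theorem not_twisted [Finite G] (X₀ : F.Six) : ¬ F.Twisted := by
  classical
  intro hF
  obtain ⟨X, hrep⟩ := X₀.exists_normalized
  set C := centralizer ({F.U} : Set G) with hC
  have hUc : ∀ {g : G}, g ∈ C ↔ Commute g F.U := mem_centralizer_singleton_iff
  set ā := X.ψ ⟨F.A, A_mem⟩ with hā
  have hāodd : Perm.sign ā = -1 := X.psi_A_sign
  have hVV : F.V * F.V = 1 := mul_self F.V_ord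
  have hAV : Commute F.A F.V := by
    rw [← F.four_one_zero hF, ← F.four_zero_one, Commute, SemiconjBy, four_mul, four_mul, add_comm]
  have hVUV : F.V * F.U * F.V = F.U * F.A := by
    have h : F.V' * F.U * F.V' = F.U * F.A' := by
      rw [V', U, A', ← map_mul, ← map_mul, ← map_mul]
      congr 1
      decide +kernel
    have := congrArg F.τ h
    rwa [τ_mul, τ_mul, τ_mul, τ_U, hF.τ_A'] at this
  -- the automorphism
  have hθ : ∀ {g : G}, Commute g F.U → Commute g F.A →
      Commute (F.V * g * F.V) F.U ∧ Commute (F.V * g * F.V) F.A := by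
    intro g hu ha
    have hVinv : F.V⁻¹ = F.V := inv_eq F.V_ord
    have hfix : ∀ w, Commute g w → Commute (F.V * g * F.V) (F.V * w * F.V) := fun w hw => by
      have := (Commute.conj_iff F.V).2 hw
      rwa [hVinv] at this
    have h1 : F.V * (F.U * F.A) * F.V = F.U := by
      rw [← hVUV, show F.V * (F.V * F.U * F.V) * F.V = (F.V * F.V) * F.U * (F.V * F.V) by group, hVV,
        one_mul, mul_one]
    have h2 : F.V * F.A * F.V = F.A := by rw [mul_assoc, hAV.eq, ← mul_assoc, hVV, one_mul]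
    exact ⟨by rw [← h1]; exact hfix _ (hu.mul_right ha), by rw [← h2]; exact hfix _ ha⟩
  let Q : Type _ := {x : G // x * x = 1 ∧ x ≠ 1 ∧ x ≠ F.U ∧
    ∃ y, Commute y F.U ∧ Commute y F.A ∧ y * y = x}
  -- no element of `C` has square image `ā`
  have hno : ∀ y : C, (y : G) * y ≠ F.U * F.A := fun y e => by
    have h : X.ψ y * X.ψ y = ā := by
      rw [← map_mul, show y * y = (⟨F.U, hUc.2 (Commute.refl _)⟩ : C) * ⟨F.A, A_mem⟩ from Subtype.ext e,
        map_mul, X.psi_U, one_mul]
    have h' := congrArg Perm.sign h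
    rw [map_mul, hāodd, Int.units_mul_self] at h'
    exact absurd h' (by decide)
  have hyU : ∀ y, Commute y F.U → Commute y F.A → y * y ≠ F.U := by
    intro y hu ha e
    obtain ⟨h1, -⟩ := hθ hu ha
    refine hno ⟨_, hUc.2 h1⟩ ?_
    show F.V * y * F.V * (F.V * y * F.V) = _
    rw [← hVUV, ← e, show F.V * y * F.V * (F.V * y * F.V) = F.V * y * (F.V * F.V) * y * F.V by group,
      hVV]
    group
  have hQinj : ∀ x x' : Q, ∀ hx : (x : G) ∈ C, ∀ hx' : (x' : G) ∈ C,
      X.ψ ⟨x, hx⟩ = X.ψ ⟨x', hx'⟩ → x = x' := by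
    intro x x' hx hx' e
    rcases X.eq_or_of_psi e with e | e
    · exact Subtype.ext e.symm
    · exfalso
      obtain ⟨-, -, -, y, hyu, hya, hy⟩ := x.2
      obtain ⟨-, -, -, y', hyu', hya', hy'⟩ := x'.2
      obtain ⟨h1, -⟩ := hθ hyu hya
      obtain ⟨h1', -⟩ := hθ hyu' hya'
      have e1 : F.V * y' * F.V * (F.V * y' * F.V) = F.V * y * F.V * (F.V * y * F.V) * (F.U * F.A) := by
        rw [← hVUV]
        calc F.V * y' * F.V * (F.V * y' * F.V) = F.V * y' * (F.V * F.V) * y' * F.V := by group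
          _ = F.V * ((x : G) * F.U) * F.V := by rw [hVV, mul_one, mul_assoc F.V, hy', ← e]
          _ = F.V * (x : G) * (F.V * F.V) * F.U * F.V := by rw [hVV]; group
          _ = F.V * (y * (F.V * F.V) * y) * F.V * (F.V * F.U * F.V) := by
            rw [← hy, hVV]; simp only [mul_one, mul_assoc]
            simp only [← mul_assoc F.V F.V, hVV, one_mul]
          _ = _ := by group
      have e2 : X.ψ ⟨_, hUc.2 h1'⟩ * X.ψ ⟨_, hUc.2 h1'⟩ = X.ψ ⟨_, hUc.2 h1⟩ * X.ψ ⟨_, hUc.2 h1⟩ * ā := by
        rw [← map_mul, show (⟨_, hUc.2 h1'⟩ : C) * ⟨_, hUc.2 h1'⟩ = ⟨_, hUc.2 h1⟩ * ⟨_, hUc.2 h1⟩ *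
          (⟨F.U, hUc.2 (Commute.refl _)⟩ * ⟨F.A, A_mem⟩) from Subtype.ext e1, map_mul, map_mul, map_mul,
          X.psi_U, one_mul]
      have h' := congrArg Perm.sign e2
      rw [map_mul, map_mul, map_mul, hāodd, Int.units_mul_self, Int.units_mul_self] at h'
      exact absurd h' (by decide)
  have hQC : ∀ x : Q, (x : G) ∈ C := fun x => by
    obtain ⟨-, -, -, y, hu, -, hy⟩ := x.2
    rw [hUc, ← hy]
    exact hu.mul_left hu
  have hQA : ∀ x : Q, Commute (x : G) F.A := fun x => by
    obtain ⟨-, -, -, y, -, ha, hy⟩ := x.2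
    rw [← hy]
    exact ha.mul_left ha
  have hQimg : ∀ x : Q, Sq ā (X.ψ ⟨x, hQC x⟩) := by
    intro x
    obtain ⟨h2, h1, hU, y, hu, ha, hy⟩ := x.2
    refine ⟨by rw [← map_mul]; exact (X.ker _).2 (Or.inl h2), fun e => ?_, X.ψ ⟨y, hUc.2 hu⟩, ?_, ?_⟩
    · rcases (X.ker _).1 e with e | e
      exacts [h1 e, hU e]
    · rw [hā, ← map_mul, ← map_mul]
      exact congrArg X.ψ (Subtype.ext ha.eq)
    · rw [← map_mul]
      exact congrArg X.ψ (Subtype.ext hy)
  have hQsurj : ∀ r, Sq ā r → ∃ x : Q, X.ψ ⟨x, hQC x⟩ = r := by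
    rintro r ⟨h2, h1, y, hya, hy⟩
    obtain ⟨g, rfl⟩ := X.surj y
    have hga := X.commute_A hya
    have hgu := hUc.1 g.2
    have hne : ((g : G) * g ≠ 1 ∧ (g : G) * g ≠ F.U) := by
      refine ⟨fun e => h1 ?_, hyU _ hgu hga⟩
      rw [← hy, ← map_mul]
      exact (X.ker _).2 (Or.inl e)
    have hsq : (g : G) * g * ((g : G) * g) = 1 := by
      rcases (X.ker (g * g * (g * g))).1 (by rw [map_mul, map_mul, hy, h2]) with e | e
      · exact e
      · exact absurd e (hyU _ (hgu.mul_left hgu) (hga.mul_left hga))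
    refine ⟨⟨(g : G) * g, hsq, hne.1, hne.2, g, hgu, hga, rfl⟩, ?_⟩
    rw [← hy, ← map_mul]
    rfl
  obtain ⟨r₁, r₂, r₃, h12, h13, h23, hr⟩ := sq_three ā hrep
  haveI : Fact (Nat.Prime 2) := ⟨Nat.prime_two⟩
  have hcard : Nat.card Q = 3 := by
    have hb : Function.Bijective fun x : Q => (⟨X.ψ ⟨x, hQC x⟩, hQimg x⟩ : {r // Sq ā r}) := by
      refine ⟨fun x x' e => hQinj x x' _ _ (congrArg Subtype.val e), fun r => ?_⟩
      obtain ⟨x, hx⟩ := hQsurj r.1 r.2
      exact ⟨x, Subtype.ext hx⟩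
    rw [Nat.card_eq_of_bijective _ hb]
    have e : Nat.card {r // Sq ā r} = Nat.card ({r₁, r₂, r₃} : Finset (Perm (Fin 6))) :=
      Nat.card_congr (Equiv.subtypeEquivRight fun r => by simp [hr r])
    rw [e, Nat.card_eq_fintype_card, Fintype.card_coe, Finset.card_eq_three.2 ⟨r₁, r₂, r₃, h12, h13, h23, rfl⟩]
  -- a fixed point of the automorphism
  obtain ⟨x, hx⟩ : ∃ x : Q, F.V * x * F.V = (x : G) := by
    haveI : Finite Q := Nat.finite_of_card_ne_zero (by rw [hcard]; norm_num)
    letI : Fintype Q := Fintype.ofFinite Q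
    let σ : Q → Q := fun x => ⟨F.V * x * F.V, by
      obtain ⟨h2, h1, hU, y, hu, ha, hy⟩ := x.2
      obtain ⟨h1', h2'⟩ := hθ hu ha
      have hyy : F.V * y * F.V * (F.V * y * F.V) = F.V * x * F.V := by
        rw [← hy, show F.V * y * F.V * (F.V * y * F.V) = F.V * y * (F.V * F.V) * y * F.V by group, hVV]
        group
      refine ⟨?_, fun e => h1 ?_, ?_, _, h1', h2', hyy⟩
      · rw [show F.V * x * F.V * (F.V * x * F.V) = F.V * x * (F.V * F.V) * x * F.V by group, hVV,
          mul_one, mul_assoc F.V, h2, mul_one, hVV]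
      · calc (x : G) = (F.V * F.V) * x * (F.V * F.V) := by rw [hVV, one_mul, mul_one]
          _ = F.V * (F.V * x * F.V) * F.V := by group
          _ = 1 := by rw [e, mul_one, hVV]
      · rw [← hyy]
        exact hyU _ h1' h2'⟩
    have hσ : Function.Involutive σ := fun x => Subtype.ext (by
      show F.V * (F.V * x * F.V) * F.V = (x : G)
      rw [show F.V * (F.V * (x : G) * F.V) * F.V = (F.V * F.V) * x * (F.V * F.V) by group, hVV, one_mul,
        mul_one])
    have hpow : (hσ.toPerm σ) ^ 2 ^ 1 = 1 := by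
      rw [pow_one, pow_two]; exact Equiv.ext fun x => hσ x
    obtain ⟨x, hx⟩ := Equiv.Perm.exists_fixed_point_of_prime (p := 2) (n := 1)
      (by rw [← Nat.card_eq_fintype_card, hcard]; norm_num) hpow
    exact ⟨x, congrArg Subtype.val hx⟩
  -- the subgroup of `C(u) ∩ W`
  set s' : C := ⟨F.S, S_mem⟩ with hs'
  set t' : C := ⟨F.A', hUc.2 (F.commute_i (by decide +kernel))⟩ with ht'
  set r' : C := ⟨(x : G), hQC x⟩ with hr'
  have hcomA : ∀ {g : C}, Commute (g : G) F.A → X.ψ g * ā = ā * X.ψ g := fun {g} hg => by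
    rw [hā, ← map_mul, ← map_mul]
    exact congrArg X.ψ (Subtype.ext hg.eq)
  have hrW : (x : G) ∈ F.W := F.mem_W.2 ⟨hQA x, by
    have h := congrArg (F.V * ·) hx
    simp only [← mul_assoc, hVV, one_mul] at h
    exact h⟩
  let FF : Subgroup G := F.W ⊓ C
  have hFF : ∀ g : C, (g : G) ∈ F.W → (g : G) ∈ FF := fun g hg => ⟨hg, g.2⟩
  let φ : FF →* Perm (Fin 6) := X.ψ.comp (Subgroup.inclusion inf_le_right)
  have hφ : Function.Injective φ := by
    rw [injective_iff_map_eq_one]
    intro g hg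
    rcases (X.ker _).1 hg with e | e
    · exact Subtype.ext e
    · exfalso
      have hgV := (F.mem_W.1 g.2.1).2
      rw [show (g : G) = F.U from e] at hgV
      refine ord_facts.2.1 (F.inj ((mul_eq_left.1 (?_ : F.U * F.A = F.U)).trans (map_one F.i).symm))
      rw [← hVUV, ← hgV.eq, mul_assoc, hVV, mul_one]
  have hrs : X.ψ s' * X.ψ r' * (X.ψ s')⁻¹ ≠ X.ψ r' := by
    intro e
    rw [← map_inv, ← map_mul, ← map_mul] at e
    let x' : Q := ⟨F.S * (x : G) * F.S⁻¹, by
      obtain ⟨h2, h1, hU, y, hu, ha, hy⟩ := x.2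
      have hSu : Commute F.S F.U := hUc.1 S_mem
      have hSa : Commute F.S F.A := (F.mem_W.1 F.S_mem_W).1
      have hcj : ∀ w, Commute F.S w → ∀ y, Commute y w → Commute (F.S * y * F.S⁻¹) w := fun w hw y hy =>
        ((hw.mul_left hy).mul_left hw.inv_left)
      refine ⟨by rw [conj_mul, h2, mul_one, mul_inv_cancel], ?_, ?_, F.S * y * F.S⁻¹, hcj _ hSu _ hu,
        hcj _ hSa _ ha, by rw [conj_mul, hy]⟩
      · rw [Ne, mul_inv_eq_one, mul_eq_left]; exact h1
      · intro e'
        rw [mul_inv_eq_iff_eq_mul, ← hSu.eq] at e'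
        exact hU (mul_left_cancel e')⟩
    have hxx : F.S * (x : G) * F.S⁻¹ = (x : G) := congrArg Subtype.val (hQinj x' x (hQC x') (hQC x) e)
    obtain ⟨l, hl, hlz⟩ := F.exists_of_commute_s (g := (x : G)) (mul_inv_eq_iff_eq_mul.1 hxx).symm
    have hla : l * a'P = a'P * l := F.eq_of_commute (by
      have := F.τ_commute (show Commute (F.τ (F.i l)) F.A from hl.symm ▸ hQA x)
      rwa [τ_τ, hF] at this)
    have hlu : l * uP = uP * l := F.eq_of_commute (by
      have := F.τ_commute (show Commute (F.τ (F.i l)) F.U from hl.symm ▸ hUc.1 (hQC x))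
      rwa [τ_τ, τ_U] at this)
    have hl2 : l * l = 1 := F.inj (by
      obtain ⟨h2, -⟩ := x.2
      rw [← hl, ← τ_mul, ← F.τ_one] at h2
      rw [map_mul, F.τ_inj h2, map_one])
    have key : ∀ l : P35, l * zP = zP * l → l * a'P = a'P * l → l * uP = uP * l → l * l = 1 →
        l = 1 ∨ l = uP ∨ l = a'P ∨ l = bP := by decide +kernel
    obtain ⟨hr2, hr1, y₀, -, hy₀⟩ := hQimg x
    have hsign : Perm.sign (X.ψ r') = 1 := by rw [← hy₀, map_mul, Int.units_mul_self]
    obtain ⟨-, x1, xU, -⟩ := x.2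
    rcases key l hlz hla hlu hl2 with rfl | rfl | rfl | rfl
    · exact x1 (by rw [← hl, map_one, τ_one])
    · exact xU (by rw [← hl]; exact F.τ_U)
    · rw [show r' = ⟨F.A, A_mem⟩ from Subtype.ext (by show (x : G) = F.A; rw [← hl]; exact hF.τ_A'), ← hā,
        hāodd] at hsign
      exact absurd hsign (by decide)
    · have hB : (x : G) = F.A * F.U := by
        rw [← hl, show F.i bP = F.A' * F.U by rw [A', U, ← map_mul, rels.2.2.2.2.2.2.2.2.2], τ_mul,
          hF.τ_A', τ_U]
      rw [show r' = ⟨F.A, A_mem⟩ * ⟨F.U, hUc.2 (Commute.refl _)⟩ from Subtype.ext hB, map_mul, X.psi_U,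
        mul_one, ← hā, hāodd] at hsign
      exact absurd hsign (by decide)
  have h16 : 16 ∣ Nat.card φ.range :=
    sixteen_dvd ā hrep (X.ψ s') (hcomA (g := s') (F.mem_W.1 F.S_mem_W).1)
      (by rw [← map_pow]; exact (X.ker _).2 (Or.inl (by
        show F.S ^ 3 = 1; rw [← F.S_ord, pow_orderOf_eq_one])))
      (fun e => by
        rcases (X.ker _).1 e with e | e
        · exact ord_facts.2.2.2.2.2.2 (F.inj (e.trans (map_one F.i).symm))
        · exact six_model.2.2.2.2.2.2.2.2.2.2.2.2 (F.inj e))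
      (X.ψ t') (hcomA (g := t') (F.mem_W.1 (F.A'_mem_W hF)).1)
      (by rw [← map_mul]; exact (X.ker _).2 (Or.inl (mul_self F.A'_ord)))
      (by
        rw [← map_inv, ← map_mul, ← map_mul]
        refine congrArg X.ψ (Subtype.ext ?_)
        show F.A' * F.S * F.A' = F.S⁻¹
        rw [A', S, ← map_inv, ← map_mul, ← map_mul]
        congr 1
        decide +kernel)
      (X.ψ r') (hQimg x) hrs φ.range
      ⟨⟨F.A, hFF ⟨F.A, A_mem⟩ (F.four_one_zero hF ▸ F.four_mem_W hF (1, 0) : F.A ∈ F.W)⟩, rfl⟩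
      ⟨⟨F.S, hFF s' F.S_mem_W⟩, rfl⟩ ⟨⟨F.A', hFF t' (F.A'_mem_W hF)⟩, rfl⟩
      ⟨⟨(x : G), hFF r' hrW⟩, rfl⟩
  rw [← Nat.card_congr (MonoidHom.ofInjective hφ).toEquiv] at h16
  -- doubling by `v`
  let T : Subgroup G :=
    { carrier := {g | g ∈ F.W ∧ (g * F.U * g⁻¹ = F.U ∨ g * F.U * g⁻¹ = F.U * F.A)}
      one_mem' := ⟨one_mem _, Or.inl (by group)⟩
      mul_mem' := fun {g g'} ⟨hg, h⟩ ⟨hg', h'⟩ => ⟨mul_mem hg hg', by
        have hga : g * F.A * g⁻¹ = F.A := by rw [(F.mem_W.1 hg).1.eq, mul_inv_cancel_right]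
        have e : g * g' * F.U * (g * g')⁻¹ = g * (g' * F.U * g'⁻¹) * g⁻¹ := by group
        rw [e]
        rcases h' with h' | h' <;> rw [h']
        · exact h
        · rw [← conj_mul, hga]
          rcases h with h | h <;> rw [h]
          · exact Or.inr rfl
          · left; rw [mul_assoc, mul_self F.A_ord, mul_one]⟩
      inv_mem' := fun {g} ⟨hg, h⟩ => ⟨inv_mem hg, by
        have hga : Commute g⁻¹ F.A := (F.mem_W.1 hg).1.inv_left
        rcases h with h | h
        · left; nth_rw 1 [← h]; group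
        · right
          have e : g * (F.U * F.A) * g⁻¹ = F.U := by
            rw [← conj_mul, h, show g * F.A * g⁻¹ = F.A by
              rw [(F.mem_W.1 hg).1.eq, mul_inv_cancel_right], mul_assoc, mul_self F.A_ord, mul_one]
          nth_rw 1 [← e]
          group⟩ }
  have hTW : T ≤ F.W := fun g hg => hg.1
  have hVT : F.V ∈ T := ⟨F.four_zero_one ▸ F.four_mem_W hF _, Or.inr (by rw [inv_eq F.V_ord, hVUV])⟩
  have hFT : ∀ g, g ∈ FF → g ∈ T := fun g hg => ⟨hg.1, Or.inl (by
    rw [(hUc.1 hg.2).eq, mul_inv_cancel_right])⟩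
  have hVU : F.V * F.U ≠ F.U * F.V := fun e => ord_facts.2.1 (F.inj ((mul_eq_left.1 (show
      F.U * F.A = F.U by rw [← hVUV, e, mul_assoc, hVV, mul_one])).trans (map_one F.i).symm))
  have hcardT : Nat.card T = 2 * Nat.card FF := by
    have hidx : (FF.subgroupOf T).index = 2 := by
      rw [Subgroup.index_eq_two_iff]
      refine ⟨⟨F.V, hVT⟩, fun g => ?_⟩
      rw [mem_subgroupOf, mem_subgroupOf, Subgroup.coe_mul]
      have hga : Commute (g : G) F.A := (F.mem_W.1 g.2.1).1
      have hval : (g : G) * F.V * F.U * ((g : G) * F.V)⁻¹ = (g : G) * (F.U * F.A) * (g : G)⁻¹ := by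
        rw [← hVUV, show F.V * F.U * F.V = F.V * F.U * F.V⁻¹ by rw [inv_eq F.V_ord]]
        group
      have hne : F.U * F.A ≠ F.U := fun e =>
        ord_facts.2.1 (F.inj ((mul_eq_left.1 e).trans (map_one F.i).symm))
      have hmem : ∀ {w : G}, w ∈ T → (w ∈ FF ↔ w * F.U * w⁻¹ = F.U) := fun {w} hw =>
        ⟨fun h => by rw [(hUc.1 h.2).eq, mul_inv_cancel_right],
          fun h => ⟨hw.1, hUc.2 (mul_inv_eq_iff_eq_mul.1 h)⟩⟩
      rw [hmem (mul_mem g.2 hVT), hmem g.2, hval, ← conj_mul,
        show (g : G) * F.A * (g : G)⁻¹ = F.A by rw [hga.eq, mul_inv_cancel_right]]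
      rcases g.2.2 with e | e
      · right
        refine ⟨e, ?_⟩
        rw [e]; exact hne
      · left
        refine ⟨?_, by rw [e]; exact hne⟩
        rw [e, mul_assoc, mul_self F.A_ord, mul_one]
    have := (FF.subgroupOf T).card_mul_index
    rw [hidx, Nat.card_congr (Subgroup.subgroupOfEquivOfLe (fun g hg => hFT g hg)).toEquiv] at this
    omega
  have h32 : 32 ∣ 240 := (dvd_trans (by rw [hcardT]; exact Nat.mul_dvd_mul_left 2 h16)
    (Subgroup.card_dvd_of_le hTW)).trans (F.card_W_dvd hF)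
  norm_num at h32

omit X in
/-- Then `C(u) ≅ 2 × S₆`. -/
theorem nonempty_equiv [Finite G] (X₀ : F.Six) :
    Nonempty (centralizer ({F.U} : Set G) ≃* Multiplicative (ZMod 2) × Perm (Fin 6)) := by
  classical
  have hτA : F.τ F.A = F.B := (F.twisted_or).resolve_left X₀.not_twisted
  have hτB : F.τ F.B = F.A := by rw [← hτA, τ_τ]
  obtain ⟨X, hrep⟩ := X₀.exists_normalized
  set C := centralizer ({F.U} : Set G) with hC
  have hUc : ∀ {g : G}, g ∈ C ↔ Commute g F.U := mem_centralizer_singleton_iff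
  have hhu : Commute F.h F.U := by
    have e := F.τ_U
    rw [τ_eq, mul_inv_eq_iff_eq_mul] at e
    exact e
  set a' : C := ⟨F.A, A_mem⟩ with ha'
  set b' : C := ⟨F.B, hUc.2 (F.commute_i (by decide +kernel))⟩ with hb'
  set h' : C := ⟨F.h, hUc.2 hhu⟩ with hh'
  set u' : C := ⟨F.U, hUc.2 (Commute.refl _)⟩ with hu'
  have hbeq : b' = h' * a' * h' := Subtype.ext hτA.symm
  have hAB : Commute F.A F.B := F.commute_i six_model.2.2.2.2.2.2.2.2.2.1
  -- `h` is odd
  have hh_odd : Perm.sign (X.ψ h') = -1 := by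
    set y' : C := ⟨F.i (zP * sP), hUc.2 (F.commute_i (by decide +kernel))⟩ with hy'
    have hyh : Commute F.h (F.i (zP * sP)) := by
      show F.h * F.i (zP * sP) = F.i (zP * sP) * F.h
      have e : F.τ (F.i (zP * sP)) = F.i (zP * sP) := by
        rw [map_mul, τ_mul, show F.τ (F.i zP) = F.i sP from F.h_z, show F.τ (F.i sP) = F.i zP from F.h_s]
        exact (F.commute_i (by decide +kernel : sP * zP = zP * sP)).eq
      rw [τ_eq, mul_inv_eq_iff_eq_mul] at e
      exact e
    rcases Int.units_eq_one_or (Perm.sign (X.ψ h')) with e | e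
    · exfalso
      have hy3 : y' ^ 3 = 1 := Subtype.ext (by
        show F.i (zP * sP) ^ 3 = 1
        rw [← map_pow, show (zP * sP) ^ 3 = (1 : P35) by decide +kernel, map_one])
      have hys : Perm.sign (X.ψ y') = 1 := by
        have h3 : Perm.sign (X.ψ y') ^ 3 = 1 := by rw [← map_pow, ← map_pow, hy3, map_one, map_one]
        rcases Int.units_eq_one_or (Perm.sign (X.ψ y')) with e' | e'
        · exact e'
        · rw [e'] at h3; exact absurd h3 (by decide)
      have hh2 : h' ^ 2 = 1 := Subtype.ext (by show F.h ^ 2 = 1; rw [pow_two, F.h_sq])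
      have hc' : Commute h' y' := Subtype.ext hyh.eq
      have h6 : (h' * y') ^ 6 = 1 := by
        rw [hc'.mul_pow, show 6 = 2 * 3 from rfl, pow_mul, hh2, one_pow, one_mul, mul_comm, pow_mul, hy3,
          one_pow]
      rcases even_order (X.ψ (h' * y')) (by rw [map_mul, map_mul, e, hys, one_mul])
        (by rw [← map_pow, h6, map_one]) with w | w <;> rw [← map_pow, hc'.mul_pow] at w
      · rw [hh2, one_mul] at w
        rcases (X.ker _).1 w with e' | e' <;> rw [Subgroup.coe_pow, ← map_pow] at e'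
        · exact absurd (F.inj (e'.trans (map_one F.i).symm)) (by decide +kernel)
        · exact absurd (F.inj e') (by decide +kernel)
      · rw [hy3, mul_one, pow_succ, hh2, one_mul] at w
        rcases (X.ker _).1 w with e' | e'
        · refine six_model.2.2.2.2.2.2.2.2.2.2.1 (F.inj ?_)
          show F.B = F.A
          rw [← hτA, τ, show F.h = 1 from e', one_mul, mul_one]
        · refine six_model.2.2.2.2.2.2.2.2.2.2.1 (F.inj ?_)
          show F.B = F.A
          rw [← hτA, τ, show F.h = F.U from e',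
            show F.U * F.A = F.A * F.U from (F.commute_i small_facts.2.2.2.1.symm).eq, mul_assoc,
            mul_self F.U_ord, mul_one]
    · exact e
  obtain ⟨k₀, hk2, hka, hkb, hkh, hnd, ⟨g₁, hg₁⟩, g₂, hg₂⟩ := complement (X.ψ a') hrep (X.ψ h')
    (by rw [← map_mul]; exact (X.ker _).2 (Or.inl F.h_sq)) hh_odd (X.ψ b')
    (by rw [hbeq, map_mul, map_mul])
    (by rw [← map_mul, ← map_mul]; exact congrArg X.ψ (Subtype.ext hAB.symm.eq))
    (fun e => by
      rcases X.eq_or_of_psi e with e' | e'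
      · exact six_model.2.2.2.2.2.2.2.2.2.2.1 (F.inj e'.symm)
      · refine six_model.2.2.2.2.2.2.2.2.2.2.2.1 (F.inj ?_)
        rw [map_mul]
        show F.B = F.A * F.U
        rw [show F.A = F.B * F.U from e', mul_assoc, mul_self F.U_ord, mul_one])
  obtain ⟨c₁, rfl⟩ := X.surj g₁
  obtain ⟨c₂, rfl⟩ := X.surj g₂
  set k' : C := c₁ * a' * c₁⁻¹ with hk'
  have hψk : X.ψ k' = k₀ := by rw [hk', map_mul, map_mul, map_inv, hg₁]
  have hKK : (k' : G) * k' = 1 := by
    rw [hk', Subgroup.coe_mul, Subgroup.coe_mul, Subgroup.coe_inv]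
    show (c₁ : G) * F.A * (c₁ : G)⁻¹ * ((c₁ : G) * F.A * (c₁ : G)⁻¹) = 1
    rw [conj_mul, mul_self F.A_ord, mul_one, mul_inv_cancel]
  have hKA : Commute (k' : G) F.A := X.commute_A (by rw [hψk]; exact hka)
  have hKh : Commute (k' : G) F.h := by
    have h2 : X.ψ (c₂ * (a' * b') * c₂⁻¹) = X.ψ (h' * k') := by
      rw [map_mul, map_mul, map_inv, map_mul, hg₂, map_mul, hψk]
    have hinv : (h' : G) * k' * ((h' : G) * k') = 1 := by
      have hab2 : (a' : G) * b' * ((a' : G) * b') = 1 := by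
        show F.A * F.B * (F.A * F.B) = 1
        rw [A, B, ← map_mul, ← map_mul, show aP * bP * (aP * bP) = (1 : P35) by decide +kernel, map_one]
      have hu2 : ∀ w : G, Commute w F.U → w * F.U * (w * F.U) = w * w := fun w hw => by
        rw [show w * F.U * (w * F.U) = w * (F.U * w) * F.U by group, ← hw.eq,
          show w * (w * F.U) * F.U = w * w * (F.U * F.U) by group, mul_self F.U_ord, mul_one]
      have hcc : (c₂ : G) * ((a' : G) * b') * (c₂ : G)⁻¹ * ((c₂ : G) * ((a' : G) * b') * (c₂ : G)⁻¹) = 1 := by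
        rw [conj_mul, hab2, mul_one, mul_inv_cancel]
      rcases X.eq_or_of_psi h2 with e | e <;> simp only [Subgroup.coe_mul, Subgroup.coe_inv] at e <;> rw [e]
      · exact hcc
      · rw [hu2 _ (show Commute ((c₂ : G) * ((a' : G) * b') * (c₂ : G)⁻¹) F.U from
          hUc.1 (c₂ * (a' * b') * c₂⁻¹ : C).2)]
        exact hcc
    show (k' : G) * F.h = F.h * k'
    have e := inv_eq_of_mul_eq_one_right hinv
    rw [mul_inv_rev, inv_eq_of_mul_eq_one_right hKK, show (h' : G)⁻¹ = F.h from F.h_inv] at e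
    exact e
  have hKB : Commute (k' : G) F.B := by
    rw [← hτA]
    exact (hKh.mul_right hKA).mul_right hKh
  -- the complement in a Sylow subgroup
  let el : Fin 2 × Fin 2 × Fin 2 × Fin 2 → C := fun p =>
    a' ^ p.1.val * b' ^ p.2.1.val * k' ^ p.2.2.1.val * h' ^ p.2.2.2.val
  have helinj : Function.Injective fun p => X.ψ (el p) := by
    intro p q e
    set ia := X.ψ a'
    set ib := X.ψ b'
    set ih := X.ψ h'
    have hel : ∀ p, X.ψ (el p) = ia ^ p.1.val * ib ^ p.2.1.val * k₀ ^ p.2.2.1.val * ih ^ p.2.2.2.val :=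
      fun p => by simp only [el, map_mul, map_pow, hψk]; rfl
    let idx : Fin 2 × Fin 2 × Fin 2 × Fin 2 → Fin 16 := fun p =>
      ⟨p.1.val + 2 * p.2.1.val + 4 * p.2.2.1.val + 8 * p.2.2.2.val, by omega⟩
    have hget : ∀ p, (prods' ia ib k₀ ih)[(idx p).val]'(by simp [prods']) = X.ψ (el p) := by
      intro p
      rw [hel]
      obtain ⟨i, j, l, m⟩ := p
      fin_cases i <;> fin_cases j <;> fin_cases l <;> fin_cases m <;> simp [idx, prods']
    have hi : idx p = idx q := by
      apply Fin.ext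
      have h := hget p
      rw [show X.ψ (el p) = X.ψ (el q) from e, ← hget q] at h
      exact (List.Nodup.getElem_inj_iff hnd).1 h
    have key : Function.Injective idx := by
      intro a b; revert a b; decide +kernel
    exact key hi
  have hab : Commute a' b' := Subtype.ext hAB.eq
  have hka' : Commute k' a' := Subtype.ext hKA.eq
  have hkb' : Commute k' b' := Subtype.ext hKB.eq
  have hkh' : Commute k' h' := Subtype.ext hKh.eq
  have ha2 : a' * a' = 1 := Subtype.ext (mul_self F.A_ord)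
  have hb2 : b' * b' = 1 := Subtype.ext (by
    show F.B * F.B = 1
    rw [B, ← map_mul, rels.2.2.2.2.1, map_one])
  have hk2' : k' * k' = 1 := Subtype.ext hKK
  have hh2 : h' * h' = 1 := Subtype.ext F.h_sq
  set P₀ : Subgroup C := Subgroup.closure {a', b', k', h'} with hP₀
  have hP₀el : ∀ g : C, g ∈ P₀ ↔ ∃ p, g = el p := by
    have hha : ∀ i : Fin 2, h' * a' ^ i.val = b' ^ i.val * h' := fun i => by
      fin_cases i <;> simp [hbeq, mul_assoc, hh2]
    have hhb : ∀ i : Fin 2, h' * b' ^ i.val = a' ^ i.val * h' := fun i => by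
      fin_cases i <;> simp [hbeq, ← mul_assoc, hh2]
    have sq : ∀ {w : C}, w * w = 1 → ∀ i : Fin 2, w * w ^ i.val = w ^ (1 - i : Fin 2).val := fun {w} hw i => by
      fin_cases i <;> simp [hw]
    intro g
    constructor
    · intro hg
      induction hg using Subgroup.closure_induction_left with
      | one => exact ⟨(0, 0, 0, 0), by simp [el]⟩
      | mul_left x hx y hy ih =>
        obtain ⟨⟨i, j, l, m⟩, rfl⟩ := ih
        simp only [Set.mem_insert_iff, Set.mem_singleton_iff] at hx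
        rcases hx with rfl | rfl | rfl | rfl
        · exact ⟨(1 - i, j, l, m), by
            show a' * el (i, j, l, m) = el (1 - i, j, l, m)
            simp only [el]
            rw [← sq ha2 i]
            group⟩
        · exact ⟨(i, 1 - j, l, m), by
            show b' * el (i, j, l, m) = el (i, 1 - j, l, m)
            simp only [el]
            rw [← sq hb2 j]
            calc b' * (a' ^ i.val * b' ^ j.val * k' ^ l.val * h' ^ m.val)
                = (b' * a' ^ i.val) * b' ^ j.val * k' ^ l.val * h' ^ m.val := by group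
              _ = _ := by rw [(hab.symm.pow_right i.val).eq]; group⟩
        · exact ⟨(i, j, 1 - l, m), by
            show k' * el (i, j, l, m) = el (i, j, 1 - l, m)
            simp only [el]
            rw [← sq hk2' l]
            calc k' * (a' ^ i.val * b' ^ j.val * k' ^ l.val * h' ^ m.val)
                = (k' * (a' ^ i.val * b' ^ j.val)) * k' ^ l.val * h' ^ m.val := by group
              _ = _ := by rw [((hka'.pow_right i.val).mul_right (hkb'.pow_right j.val)).eq]; group⟩
        · exact ⟨(j, i, l, 1 - m), by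
            show h' * el (i, j, l, m) = el (j, i, l, 1 - m)
            simp only [el]
            rw [← sq hh2 m]
            calc h' * (a' ^ i.val * b' ^ j.val * k' ^ l.val * h' ^ m.val)
                = h' * a' ^ i.val * b' ^ j.val * k' ^ l.val * h' ^ m.val := by group
              _ = b' ^ i.val * (h' * b' ^ j.val) * k' ^ l.val * h' ^ m.val := by rw [hha]; group
              _ = b' ^ i.val * a' ^ j.val * (h' * k' ^ l.val) * h' ^ m.val := by rw [hhb]; group
              _ = _ := by rw [(hkh'.symm.pow_right l.val).eq, (hab.symm.pow_pow i.val j.val).eq]; group⟩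
      | inv_mul_cancel x hx y hy ih =>
        have hxinv : x⁻¹ = x := by
          simp only [Set.mem_insert_iff, Set.mem_singleton_iff] at hx
          rcases hx with rfl | rfl | rfl | rfl
          exacts [inv_eq_of_mul_eq_one_right ha2, inv_eq_of_mul_eq_one_right hb2,
            inv_eq_of_mul_eq_one_right hk2', inv_eq_of_mul_eq_one_right hh2]
        rw [hxinv]
        obtain ⟨⟨i, j, l, m⟩, rfl⟩ := ih
        simp only [Set.mem_insert_iff, Set.mem_singleton_iff] at hx
        rcases hx with rfl | rfl | rfl | rfl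
        · exact ⟨(1 - i, j, l, m), by
            show a' * el (i, j, l, m) = el (1 - i, j, l, m)
            simp only [el]
            rw [← sq ha2 i]
            group⟩
        · exact ⟨(i, 1 - j, l, m), by
            show b' * el (i, j, l, m) = el (i, 1 - j, l, m)
            simp only [el]
            rw [← sq hb2 j]
            calc b' * (a' ^ i.val * b' ^ j.val * k' ^ l.val * h' ^ m.val)
                = (b' * a' ^ i.val) * b' ^ j.val * k' ^ l.val * h' ^ m.val := by group
              _ = _ := by rw [(hab.symm.pow_right i.val).eq]; group⟩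
        · exact ⟨(i, j, 1 - l, m), by
            show k' * el (i, j, l, m) = el (i, j, 1 - l, m)
            simp only [el]
            rw [← sq hk2' l]
            calc k' * (a' ^ i.val * b' ^ j.val * k' ^ l.val * h' ^ m.val)
                = (k' * (a' ^ i.val * b' ^ j.val)) * k' ^ l.val * h' ^ m.val := by group
              _ = _ := by rw [((hka'.pow_right i.val).mul_right (hkb'.pow_right j.val)).eq]; group⟩
        · exact ⟨(j, i, l, 1 - m), by
            show h' * el (i, j, l, m) = el (j, i, l, 1 - m)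
            simp only [el]
            rw [← sq hh2 m]
            calc h' * (a' ^ i.val * b' ^ j.val * k' ^ l.val * h' ^ m.val)
                = h' * a' ^ i.val * b' ^ j.val * k' ^ l.val * h' ^ m.val := by group
              _ = b' ^ i.val * (h' * b' ^ j.val) * k' ^ l.val * h' ^ m.val := by rw [hha]; group
              _ = b' ^ i.val * a' ^ j.val * (h' * k' ^ l.val) * h' ^ m.val := by rw [hhb]; group
              _ = _ := by rw [(hkh'.symm.pow_right l.val).eq, (hab.symm.pow_pow i.val j.val).eq]; group⟩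
    · rintro ⟨p, rfl⟩
      exact mul_mem (mul_mem (mul_mem (pow_mem (subset_closure (by simp)) _)
        (pow_mem (subset_closure (by simp)) _)) (pow_mem (subset_closure (by simp)) _))
        (pow_mem (subset_closure (by simp)) _)
  have hcardP : Nat.card P₀ = 16 := by
    have hb : Function.Bijective fun p => (⟨el p, (hP₀el _).2 ⟨p, rfl⟩⟩ : P₀) :=
      ⟨fun p q e => helinj (congrArg (fun g : P₀ => X.ψ (g : C)) e), fun g => by
        obtain ⟨p, hp⟩ := (hP₀el _).1 g.2
        exact ⟨p, Subtype.ext hp.symm⟩⟩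
    rw [← Nat.card_eq_of_bijective _ hb]
    simp
  have huP : u' ∉ P₀ := fun h => by
    obtain ⟨p, hp⟩ := (hP₀el _).1 h
    have e0 : el (0, 0, 0, 0) = 1 := by simp [el]
    have hz : p = (0, 0, 0, 0) := helinj (by
      show X.ψ (el p) = X.ψ (el (0, 0, 0, 0))
      rw [← hp, e0, map_one]; exact X.psi_U _)
    rw [hz, e0] at hp
    exact ord_facts.1 (F.inj ((congrArg (fun g : C => (g : G)) hp).trans (map_one F.i).symm))
  have hcardC : Nat.card C = 1440 := by
    have h1 := X.ψ.ker.card_mul_index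
    rw [Subgroup.index_ker, MonoidHom.range_eq_top.2 X.surj, Subgroup.card_top,
      Nat.card_eq_fintype_card (α := Perm (Fin 6)), Fintype.card_perm, Fintype.card_fin] at h1
    have hk : X.ψ.ker = zpowers u' := by
      refine le_antisymm (fun g hg => ?_) (zpowers_le.2 (MonoidHom.mem_ker.2 (X.psi_U _)))
      rcases (X.ker g).1 (MonoidHom.mem_ker.1 hg) with e | e
      · rw [show g = 1 from Subtype.ext e]; exact one_mem _
      · rw [show g = u' from Subtype.ext e]; exact mem_zpowers _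
    rw [hk, Nat.card_zpowers, orderOf_mk, F.U_ord] at h1
    rw [← h1]
    decide
  letI : Fintype (C ⧸ P₀) := Fintype.ofFinite _
  let θ : C →* ℤˣ :=
    (Perm.sign : Perm (C ⧸ P₀) →* ℤˣ).comp (MulAction.toPermHom C (C ⧸ P₀))
  have hθu : θ u' = -1 := by
    set σ := MulAction.toPermHom C (C ⧸ P₀) u' with hσ
    show Perm.sign σ = -1
    have hu2 : u' * u' = 1 := Subtype.ext (mul_self F.U_ord)
    have hσ2 : σ ^ 2 = 1 := by rw [hσ, ← map_pow, pow_two, hu2, map_one]
    have hfix : Fintype.card (Function.fixedPoints σ) = 0 := by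
      rw [Fintype.card_eq_zero_iff]
      refine ⟨fun ⟨q, hq⟩ => ?_⟩
      obtain ⟨g, rfl⟩ := QuotientGroup.mk_surjective q
      have e : ((u' * g : C) : C ⧸ P₀) = (g : C ⧸ P₀) := hq
      rw [QuotientGroup.eq] at e
      have hc : u' * g = g * u' := Subtype.ext (hUc.1 g.2).eq.symm
      rw [hc, mul_inv_rev, mul_assoc, inv_mul_cancel, mul_one] at e
      exact huP (inv_mem_iff.1 e)
    have hidx : Fintype.card (C ⧸ P₀) = 90 := by
      rw [← Nat.card_eq_fintype_card, ← Subgroup.index_eq_card]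
      have := P₀.card_mul_index
      rw [hcardP, hcardC] at this
      omega
    rw [Equiv.Perm.sign_of_pow_two_eq_one hσ2, hfix, hidx]
    decide
  have hcard2 : Nat.card ℤˣ = 2 := by rw [Nat.card_eq_fintype_card]; rfl
  haveI : Fact (Nat.Prime 2) := ⟨Nat.prime_two⟩
  let e₂ : ℤˣ ≃* Multiplicative (ZMod 2) := mulEquivOfPrimeCardEq (p := 2) hcard2 (by simp)
  let Φ : C →* Multiplicative (ZMod 2) × Perm (Fin 6) := MonoidHom.prod (e₂.toMonoidHom.comp θ) X.ψ
  refine ⟨MulEquiv.ofBijective Φ ((Nat.bijective_iff_injective_and_card _).2 ⟨?_, ?_⟩)⟩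
  · rw [injective_iff_map_eq_one]
    intro g hg
    have h1 : θ g = 1 := by
      have := congrArg Prod.fst hg
      exact e₂.injective (this.trans e₂.map_one.symm)
    rcases (X.ker g).1 (congrArg Prod.snd hg) with e | e
    · exact Subtype.ext e
    · rw [show g = u' from Subtype.ext e, hθu] at h1
      exact absurd h1 (by decide)
  · rw [hcardC, Nat.card_prod, Nat.card_eq_fintype_card (α := Perm (Fin 6)), Fintype.card_perm,
      Fintype.card_fin, Nat.card_eq_fintype_card, Fintype.card_multiplicative, ZMod.card]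
    decide

end Six

/-- Without the `S₆` the swap is twisted. -/
theorem twisted_of_normal [Finite G] (h : ∀ g, Commute g F.U → F.IsStab g) : F.Twisted := by
  rcases F.twisted_or with e | e
  · exact e
  exfalso
  obtain ⟨k, hk⟩ := F.conj_U_B
  have hg : (F.h * k) * F.U * (F.h * k)⁻¹ = F.A := by
    rw [show (F.h * k) * F.U * (F.h * k)⁻¹ = F.h * (k * F.U * k⁻¹) * F.h⁻¹ by group, hk, ← τ_eq, ← e,
      τ_τ]
  have hC : Nat.card (centralizer ({F.U} : Set G)) = 144 := by
    rw [← F.card_isStab]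
    exact Nat.card_congr (Equiv.subtypeEquivRight fun g =>
      ⟨fun hm => h g (mem_centralizer_singleton_iff.1 hm),
        fun hs => mem_centralizer_singleton_iff.2 (F.commute_U_of_isStab hs).eq⟩)
  set p : P35 := (1, swap 0 1 * swap 1 2 * (swap 2 3 * swap 3 4)) with hp
  have hm : F.i p ∈ centralizer ({F.A} : Set G) :=
    mem_centralizer_singleton_iff.2 (F.commute_i (by rw [hp]; decide +kernel)).eq
  have h5 : orderOf (F.i p) = 5 := by
    haveI : Fact (Nat.Prime 5) := ⟨by norm_num⟩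
    refine orderOf_eq_prime (by rw [← map_pow, show p ^ 5 = 1 by rw [hp]; decide +kernel, map_one]) ?_
    intro e'
    have := F.inj (e'.trans (map_one F.i).symm)
    exact absurd this (by rw [hp]; decide +kernel)
  have h144 := orderOf_dvd_natCard (⟨F.i p, hm⟩ : centralizer ({F.A} : Set G))
  rw [Subgroup.orderOf_mk, h5, ← hg, card_centralizer_conj, hC] at h144
  norm_num at h144

end Frame

end CfsgLib.ThreeSym
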