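import Cfsg.Agent.Lib.Recognition.ThreeSym.SixLists

/-!
Facts about `S₆`: the classes of involutions.
-/

set_option autoImplicit false
set_option maxRecDepth 100000
set_option synthInstance.maxSize 2000
set_option synthInstance.maxHeartbeats 400000

namespace CfsgLib.ThreeSym.SixFacts

open Equiv

theorem odd_invol_mem' : ∀ a : Perm (Fin 6), a * a = 1 → Perm.sign a = -1 → a ∈ class1 ++ class3 := by
  decide +kernel

theorem odd_invol_mem (a : Perm (Fin 6)) (hs : Perm.sign a = -1) (h2 : a * a = 1) : a ∈ class1 ++ class3 :=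
  odd_invol_mem' a h2 hs

theorem class_conj1 : ∀ a ∈ class1, ∃ g : Perm (Fin 6), g * swap 0 1 * g⁻¹ = a := by decide +kernel

theorem class_conj3 : ∀ a ∈ class3,
    ∃ g : Perm (Fin 6), g * (swap 0 1 * swap 2 3 * swap 4 5) * g⁻¹ = a := by
  decide +kernel

theorem even_conj : ∀ a ∈ evenInv, ∃ g : Perm (Fin 6), g * (swap 0 1 * swap 2 3) * g⁻¹ = a := by
  decide +kernel

theorem even_invol_mem : ∀ a : Perm (Fin 6), a * a = 1 → a ≠ 1 → Perm.sign a = 1 → a ∈ evenInv := by
  decide +kernel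

theorem even_order' : ∀ w : Perm (Fin 6), w * w ≠ 1 → w * w * w ≠ 1 →
    w * w * w * (w * w * w) = 1 → Perm.sign w ≠ 1 := by
  decide +kernel

theorem even_order (w : Perm (Fin 6)) (hs : Perm.sign w = 1) (h6 : w ^ 6 = 1) : w ^ 2 = 1 ∨ w ^ 3 = 1 := by
  by_contra h
  push Not at h
  have e3 : w ^ 3 = w * w * w := by rw [pow_succ, pow_two]
  refine even_order' w (by rw [← pow_two]; exact h.1) (by rw [← e3]; exact h.2) ?_ hs
  rw [← e3, ← pow_add]
  exact h6

end CfsgLib.ThreeSym.SixFacts
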