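import Mathlib

/-!
Explicit lists in `S₆`.
-/

set_option autoImplicit false

namespace CfsgLib.ThreeSym.SixFacts

open Equiv

def cent1 : List (Perm (Fin 6)) :=
  [1,
    swap 4 5,
    swap 3 4,
    swap 3 4 * swap 4 5,
    swap 3 5 * swap 5 4,
    swap 3 5,
    swap 2 3,
    swap 2 3 * swap 4 5,
    swap 2 3 * swap 3 4,
    swap 2 3 * swap 3 4 * swap 4 5,
    swap 2 3 * swap 3 5 * swap 5 4,
    swap 2 3 * swap 3 5,
    swap 2 4 * swap 4 3,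
    swap 2 4 * swap 4 5 * swap 5 3,
    swap 2 4,
    swap 2 4 * swap 4 5,
    swap 2 4 * swap 3 5,
    swap 2 4 * swap 4 3 * swap 3 5,
    swap 2 5 * swap 5 4 * swap 4 3,
    swap 2 5 * swap 5 3,
    swap 2 5 * swap 5 4,
    swap 2 5,
    swap 2 5 * swap 5 3 * swap 3 4,
    swap 2 5 * swap 3 4,
    swap 0 1,
    swap 0 1 * swap 4 5,
    swap 0 1 * swap 3 4,
    swap 0 1 * swap 3 4 * swap 4 5,
    swap 0 1 * swap 3 5 * swap 5 4,
    swap 0 1 * swap 3 5,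
    swap 0 1 * swap 2 3,
    swap 0 1 * swap 2 3 * swap 4 5,
    swap 0 1 * swap 2 3 * swap 3 4,
    swap 0 1 * swap 2 3 * swap 3 4 * swap 4 5,
    swap 0 1 * swap 2 3 * swap 3 5 * swap 5 4,
    swap 0 1 * swap 2 3 * swap 3 5,
    swap 0 1 * swap 2 4 * swap 4 3,
    swap 0 1 * swap 2 4 * swap 4 5 * swap 5 3,
    swap 0 1 * swap 2 4,
    swap 0 1 * swap 2 4 * swap 4 5,
    swap 0 1 * swap 2 4 * swap 3 5,
    swap 0 1 * swap 2 4 * swap 4 3 * swap 3 5,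
    swap 0 1 * swap 2 5 * swap 5 4 * swap 4 3,
    swap 0 1 * swap 2 5 * swap 5 3,
    swap 0 1 * swap 2 5 * swap 5 4,
    swap 0 1 * swap 2 5,
    swap 0 1 * swap 2 5 * swap 5 3 * swap 3 4,
    swap 0 1 * swap 2 5 * swap 3 4]
def cent3 : List (Perm (Fin 6)) :=
  [1,
    swap 4 5,
    swap 2 3,
    swap 2 3 * swap 4 5,
    swap 2 4 * swap 3 5,
    swap 2 4 * swap 4 3 * swap 3 5,
    swap 2 5 * swap 5 3 * swap 3 4,
    swap 2 5 * swap 3 4,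
    swap 0 1,
    swap 0 1 * swap 4 5,
    swap 0 1 * swap 2 3,
    swap 0 1 * swap 2 3 * swap 4 5,
    swap 0 1 * swap 2 4 * swap 3 5,
    swap 0 1 * swap 2 4 * swap 4 3 * swap 3 5,
    swap 0 1 * swap 2 5 * swap 5 3 * swap 3 4,
    swap 0 1 * swap 2 5 * swap 3 4,
    swap 0 2 * swap 1 3,
    swap 0 2 * swap 1 3 * swap 4 5,
    swap 0 2 * swap 2 1 * swap 1 3,
    swap 0 2 * swap 2 1 * swap 1 3 * swap 4 5,
    swap 0 2 * swap 2 4 * swap 1 3 * swap 3 5,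
    swap 0 2 * swap 2 4 * swap 4 1 * swap 1 3 * swap 3 5,
    swap 0 2 * swap 2 5 * swap 5 1 * swap 1 3 * swap 3 4,
    swap 0 2 * swap 2 5 * swap 1 3 * swap 3 4,
    swap 0 3 * swap 3 1 * swap 1 2,
    swap 0 3 * swap 3 1 * swap 1 2 * swap 4 5,
    swap 0 3 * swap 1 2,
    swap 0 3 * swap 1 2 * swap 4 5,
    swap 0 3 * swap 3 5 * swap 5 1 * swap 1 2 * swap 2 4,
    swap 0 3 * swap 3 5 * swap 1 2 * swap 2 4,
    swap 0 3 * swap 3 4 * swap 1 2 * swap 2 5,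
    swap 0 3 * swap 3 4 * swap 4 1 * swap 1 2 * swap 2 5,
    swap 0 4 * swap 4 2 * swap 1 5 * swap 5 3,
    swap 0 4 * swap 4 3 * swap 3 1 * swap 1 5 * swap 5 2,
    swap 0 4 * swap 4 2 * swap 2 1 * swap 1 5 * swap 5 3,
    swap 0 4 * swap 4 3 * swap 1 5 * swap 5 2,
    swap 0 4 * swap 1 5,
    swap 0 4 * swap 4 1 * swap 1 5,
    swap 0 4 * swap 1 5 * swap 2 3,
    swap 0 4 * swap 4 1 * swap 1 5 * swap 2 3,
    swap 0 5 * swap 5 3 * swap 3 1 * swap 1 4 * swap 4 2,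
    swap 0 5 * swap 5 2 * swap 1 4 * swap 4 3,
    swap 0 5 * swap 5 3 * swap 1 4 * swap 4 2,
    swap 0 5 * swap 5 2 * swap 2 1 * swap 1 4 * swap 4 3,
    swap 0 5 * swap 5 1 * swap 1 4,
    swap 0 5 * swap 1 4,
    swap 0 5 * swap 5 1 * swap 1 4 * swap 2 3,
    swap 0 5 * swap 1 4 * swap 2 3]
def class1 : List (Perm (Fin 6)) :=
  [swap 4 5,
    swap 3 4,
    swap 3 5,
    swap 2 3,
    swap 2 4,
    swap 2 5,
    swap 1 2,
    swap 1 3,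
    swap 1 4,
    swap 1 5,
    swap 0 1,
    swap 0 2,
    swap 0 3,
    swap 0 4,
    swap 0 5]
def class3 : List (Perm (Fin 6)) :=
  [swap 0 1 * swap 2 3 * swap 4 5,
    swap 0 1 * swap 2 4 * swap 3 5,
    swap 0 1 * swap 2 5 * swap 3 4,
    swap 0 2 * swap 1 3 * swap 4 5,
    swap 0 2 * swap 1 4 * swap 3 5,
    swap 0 2 * swap 1 5 * swap 3 4,
    swap 0 3 * swap 1 2 * swap 4 5,
    swap 0 3 * swap 1 4 * swap 2 5,
    swap 0 3 * swap 1 5 * swap 2 4,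
    swap 0 4 * swap 1 2 * swap 3 5,
    swap 0 4 * swap 1 3 * swap 2 5,
    swap 0 4 * swap 1 5 * swap 2 3,
    swap 0 5 * swap 1 2 * swap 3 4,
    swap 0 5 * swap 1 3 * swap 2 4,
    swap 0 5 * swap 1 4 * swap 2 3]
def evenInv : List (Perm (Fin 6)) :=
  [swap 2 3 * swap 4 5,
    swap 2 4 * swap 3 5,
    swap 2 5 * swap 3 4,
    swap 1 2 * swap 4 5,
    swap 1 2 * swap 3 4,
    swap 1 2 * swap 3 5,
    swap 1 3 * swap 4 5,
    swap 1 3 * swap 2 4,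
    swap 1 3 * swap 2 5,
    swap 1 4 * swap 3 5,
    swap 1 4 * swap 2 3,
    swap 1 4 * swap 2 5,
    swap 1 5 * swap 3 4,
    swap 1 5 * swap 2 3,
    swap 1 5 * swap 2 4,
    swap 0 1 * swap 4 5,
    swap 0 1 * swap 3 4,
    swap 0 1 * swap 3 5,
    swap 0 1 * swap 2 3,
    swap 0 1 * swap 2 4,
    swap 0 1 * swap 2 5,
    swap 0 2 * swap 4 5,
    swap 0 2 * swap 3 4,
    swap 0 2 * swap 3 5,
    swap 0 2 * swap 1 3,
    swap 0 2 * swap 1 4,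
    swap 0 2 * swap 1 5,
    swap 0 3 * swap 4 5,
    swap 0 3 * swap 2 4,
    swap 0 3 * swap 2 5,
    swap 0 3 * swap 1 2,
    swap 0 3 * swap 1 4,
    swap 0 3 * swap 1 5,
    swap 0 4 * swap 3 5,
    swap 0 4 * swap 2 3,
    swap 0 4 * swap 2 5,
    swap 0 4 * swap 1 2,
    swap 0 4 * swap 1 3,
    swap 0 4 * swap 1 5,
    swap 0 5 * swap 3 4,
    swap 0 5 * swap 2 3,
    swap 0 5 * swap 2 4,
    swap 0 5 * swap 1 2,
    swap 0 5 * swap 1 3,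
    swap 0 5 * swap 1 4]

end CfsgLib.ThreeSym.SixFacts
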