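import Cfsg.Agent.Lib.Recognition.ThreeSym.Six
import Cfsg.Agent.S3146
import Cfsg.Agent.S3329
import Cfsg.Agent.S2119

/-!
If `C(u)/⟨u⟩` is `S₆` then the group is `S₈`: it has a subgroup of index two missing `u`, which
satisfies the 3-local hypotheses characterizing `A₈`.
-/

set_option autoImplicit false
set_option linter.style.haveILetI false
set_option maxRecDepth 10000
set_option synthInstance.maxSize 2000
set_option synthInstance.maxHeartbeats 400000

namespace CfsgLib.ThreeSym

open Subgroup Equiv CfsgLib.ThreeEight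

variable {G : Type*} [Group G]

theorem hom_perm_cases {n : ℕ} (s : Perm (Fin n) →* ℤˣ) : s = 1 ∨ s = Perm.sign := by
  by_cases h : Function.Surjective s
  · exact Or.inr (Equiv.Perm.eq_sign_of_surjective_hom h)
  · left
    ext x
    rcases Int.units_eq_one_or (s x) with e | e
    · rw [e]; rfl
    · exfalso
      refine h fun y => ?_
      rcases Int.units_eq_one_or y with rfl | rfl
      exacts [⟨1, map_one s⟩, ⟨x, e⟩]

/-- A subgroup of index two is the kernel of a sign. -/
theorem exists_sign {H : Subgroup G} (hH : H.index = 2) : ∃ χ : G →* ℤˣ, ∀ g, g ∈ H ↔ χ g = 1 := by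
  classical
  refine ⟨MonoidHom.mk' (fun g => if g ∈ H then 1 else -1) fun a b => ?_, fun g => ?_⟩
  · have e := mul_mem_iff_of_index_two hH (a := a) (b := b)
    by_cases ha : a ∈ H <;> by_cases hb : b ∈ H <;> simp [ha, hb, e]
  · by_cases hg : g ∈ H <;> simp [hg]

/-- A subgroup with an involution outside a subgroup of index two has twice its order. -/
theorem card_two_mul [Finite G] {K L : Subgroup G} (hKL : K ≤ L) {w : G} (hw : w ∈ L) (hw2 : w * w = 1)
    (hwK : w ∉ K) (h : ∀ g ∈ L, g ∈ K ∨ g * w ∈ K) : Nat.card L = 2 * Nat.card K := by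
  let f : K × Fin 2 → L := fun p => ⟨(p.1 : G) * w ^ p.2.val, mul_mem (hKL p.1.2) (pow_mem hw _)⟩
  have hb : Function.Bijective f := by
    refine ⟨?_, fun g => ?_⟩
    · rintro ⟨k, i⟩ ⟨k', j⟩ e
      have e' : (k : G) * w ^ i.val = (k' : G) * w ^ j.val := congrArg Subtype.val e
      have hij : i = j := by
        by_contra hne
        apply hwK
        fin_cases i <;> fin_cases j <;> simp at hne e'
        · rw [show w = (k' : G)⁻¹ * k by rw [e']; group]
          exact mul_mem (inv_mem k'.2) k.2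
        · rw [show w = (k : G)⁻¹ * k' by rw [← e']; group]
          exact mul_mem (inv_mem k.2) k'.2
      subst hij
      exact Prod.ext (Subtype.ext (mul_right_cancel e')) rfl
    · rcases h g g.2 with hg | hg
      · exact ⟨(⟨g, hg⟩, 0), Subtype.ext (by simp [f])⟩
      · exact ⟨(⟨_, hg⟩, 1), Subtype.ext (by simp [f, mul_assoc, hw2])⟩
  rw [← Nat.card_eq_of_bijective f hb, Nat.card_prod, Nat.card_eq_fintype_card (α := Fin 2),
    Fintype.card_fin, mul_comm]

theorem stab_y : ∀ l : P35,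
    (l * (zP * sP) * l⁻¹ = zP * sP ∨ l * (zP * sP) * l⁻¹ = (zP * sP)⁻¹) →
      ∃ x, ∃ e ∈ ([1, aP * bP, uP, aP * bP * uP] : List P35), l = nine x * e := by
  decide +kernel

theorem stab_y_sq : ∀ e ∈ ([1, aP * bP, uP, aP * bP * uP] : List P35), ∀ x : Fin 3 × Fin 3,
    (∃ x', nine x * e * (nine x * e) = nine x') ∧
      (∃ x', nine x.swap * e * (nine x * e) = nine x') := by
  decide +kernel

theorem sym_facts :
    (∀ x, ∀ k : Fin 2, (nine x * uP ^ k.val) * a'P = a'P * (nine x * uP ^ k.val) →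
      (nine x * uP ^ k.val) * vP = vP * (nine x * uP ^ k.val) →
      (nine x * uP ^ k.val) * (aP * bP) = aP * bP * (nine x * uP ^ k.val) →
      nine x * uP ^ k.val = 1) ∧
    (∀ a : Perm (Fin 3), a * c₃ = c₃ * a ↔ Perm.sign a = 1) ∧
    aP * bP * (aP * bP) = 1 ∧ (aP * bP) * (zP * sP) * (aP * bP)⁻¹ = (zP * sP)⁻¹ ∧
    (zP * sP)⁻¹ ≠ zP * sP ∧ (zP * sP) ^ 3 = 1 ∧ zP ^ 3 = 1 ∧ aP * bP = bP * aP ∧
    (aP * bP) * uP = uP * (aP * bP) := by
  decide +kernel

namespace Frame

variable (F : Frame G)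

theorem τ_nine (x : Fin 3 × Fin 3) : F.τ (F.i (nine x)) = F.i (nine x.swap) := by
  have e : ∀ x : Fin 3 × Fin 3, nine x = zP ^ x.1.val * sP ^ x.2.val := fun x => by
    apply Prod.ext <;> simp [nine, zP, sP]
  rw [e, e, map_mul, map_mul, map_pow, map_pow, map_pow, map_pow, τ_mul, τ_pow, τ_pow,
    show F.τ (F.i zP) = F.i sP from F.h_z, show F.τ (F.i sP) = F.i zP from F.h_s]
  exact ((F.commute_i (by decide +kernel : sP * zP = zP * sP)).pow_pow _ _).eq

variable {F}

/-- A sign which is trivial at `u` is trivial on `N(D)`. -/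
theorem Six.sign_trivial [Finite G] (X : F.Six) {χ : G →* ℤˣ} (hU : χ F.U = 1) :
    χ F.h = 1 ∧ ∀ l, χ (F.i l) = 1 := by
  classical
  obtain ⟨k, hk⟩ := F.conj_U_B
  have hB : χ F.B = 1 := by rw [← hk, map_mul, map_mul, map_inv, hU, mul_one, mul_inv_cancel]
  have hτA : F.τ F.A = F.B := (F.twisted_or).resolve_left X.not_twisted
  have hA : χ F.A = 1 := by
    rw [← F.τ_τ F.A, hτA, τ_eq, map_mul, map_mul, map_inv, hB, mul_one, mul_inv_cancel]
  have h1 : (χ.comp F.i).comp (MonoidHom.inl (Perm (Fin 3)) (Perm (Fin 5))) = 1 := by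
    refine (hom_perm_cases _).resolve_right fun e => ?_
    have := DFunLike.congr_fun e (swap 0 1)
    rw [Perm.sign_swap (by decide)] at this
    exact absurd ((this.symm).trans hA) (by decide)
  have h2 : (χ.comp F.i).comp (MonoidHom.inr (Perm (Fin 3)) (Perm (Fin 5))) = 1 := by
    refine (hom_perm_cases _).resolve_right fun e => ?_
    have := DFunLike.congr_fun e (swap 0 1)
    rw [Perm.sign_swap (by decide)] at this
    exact absurd ((this.symm).trans hB) (by decide)
  refine ⟨?_, fun l => ?_⟩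
  · set C := centralizer ({F.U} : Set G)
    let χ' : C →* ℤˣ := χ.comp C.subtype
    have hker : X.ψ.ker ≤ χ'.ker := fun g hg => by
      rcases (X.ker g).1 hg with e | e <;> show χ (g : G) = 1 <;> rw [e]
      exacts [map_one χ, hU]
    let s : Perm (Fin 6) →* ℤˣ := MonoidHom.liftOfSurjective X.ψ X.surj ⟨χ', hker⟩
    have hs : ∀ g, s (X.ψ g) = χ' g := fun g =>
      MonoidHom.liftOfRightInverse_comp_apply _ _ _ ⟨χ', hker⟩ g
    have hs1 : s = 1 := by
      refine (hom_perm_cases _).resolve_right fun e => ?_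
      have := hs ⟨F.A, Six.A_mem⟩
      rw [e, X.psi_A_sign] at this
      exact absurd (this.trans hA) (by decide)
    have hmem : F.h ∈ C := mem_centralizer_singleton_iff.2 (by
      have e := F.τ_U
      rw [τ_eq, mul_inv_eq_iff_eq_mul] at e
      exact e)
    have := hs ⟨F.h, hmem⟩
    rw [hs1] at this
    exact this.symm
  · have e : l = (l.1, (1 : Perm (Fin 5))) * ((1 : Perm (Fin 3)), l.2) := by simp
    rw [e, map_mul, map_mul]
    have e1 := DFunLike.congr_fun h1 l.1
    have e2 := DFunLike.congr_fun h2 l.2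
    simp only [MonoidHom.comp_apply, MonoidHom.inl_apply, MonoidHom.inr_apply, MonoidHom.one_apply] at e1 e2
    rw [e1, e2, mul_one]

/-- There is a sign which is the product of the two signs on the coordinates. -/
theorem Six.exists_parity [Finite G] (X : F.Six) :
    ∃ H : Subgroup G, H.index = 2 ∧ ∀ l : P35, F.i l ∈ H ↔ Perm.sign l.1 * Perm.sign l.2 = 1 := by
  classical
  haveI : Fact (Nat.Prime 3) := ⟨Nat.prime_three⟩
  have hG : Even (Nat.card G) := by
    rw [even_iff_two_dvd, ← F.U_ord]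
    exact orderOf_dvd_natCard _
  obtain ⟨H, hH⟩ := Cfsg.Agent.S3146.result hG F.U F.U_ord X.nonempty_equiv
  obtain ⟨χ, hχ⟩ := exists_sign hH
  have hU : χ F.U = -1 := by
    rcases Int.units_eq_one_or (χ F.U) with e | e
    · exfalso
      obtain ⟨hh, hi⟩ := X.sign_trivial e
      haveI : H.Normal := normal_of_index_eq_two hH
      obtain ⟨P, hP⟩ := F.sylow
      have hPH : (P : Subgroup G) ≤ H := fun g hg => by
        obtain ⟨x, rfl⟩ := (hP g).1 hg
        exact (hχ _).2 (hi _)
      have hN : normalizer (P : Set G) ≤ H := fun g hg => by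
        have hst : F.IsStab g := fun x =>
          (hP _).1 ((mem_normalizer_iff.1 hg _).1 ((hP _).2 ⟨x, rfl⟩))
        rcases F.normal_D hst with ⟨l, rfl⟩ | ⟨l, rfl⟩
        · exact (hχ _).2 (hi l)
        · exact mul_mem ((hχ _).2 hh) ((hχ _).2 (hi l))
      have htop := Sylow.normalizer_sup_eq_top' P hPH
      rw [sup_eq_right.2 hN] at htop
      rw [htop, index_top] at hH
      exact absurd hH (by norm_num)
    · exact e
  obtain ⟨k, hk⟩ := F.conj_U_B
  have hB : χ F.B = -1 := by rw [← hk, map_mul, map_mul, map_inv, hU, mul_inv_cancel_comm]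
  have hτA : F.τ F.A = F.B := (F.twisted_or).resolve_left X.not_twisted
  have hA : χ F.A = -1 := by
    rw [← F.τ_τ F.A, hτA, τ_eq, map_mul, map_mul, map_inv, hB, mul_inv_cancel_comm]
  have h1 : (χ.comp F.i).comp (MonoidHom.inl (Perm (Fin 3)) (Perm (Fin 5))) = Perm.sign := by
    refine (hom_perm_cases _).resolve_left fun e => ?_
    have := DFunLike.congr_fun e (swap 0 1)
    exact absurd ((this.symm).trans hA) (by decide)
  have h2 : (χ.comp F.i).comp (MonoidHom.inr (Perm (Fin 3)) (Perm (Fin 5))) = Perm.sign := by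
    refine (hom_perm_cases _).resolve_left fun e => ?_
    have := DFunLike.congr_fun e (swap 0 1)
    exact absurd ((this.symm).trans hB) (by decide)
  refine ⟨H, hH, fun l => ?_⟩
  have e : l = (l.1, (1 : Perm (Fin 5))) * ((1 : Perm (Fin 3)), l.2) := by simp
  rw [hχ, ← DFunLike.congr_fun h1 l.1, ← DFunLike.congr_fun h2 l.2]
  conv_lhs => rw [e, map_mul, map_mul]
  exact Iff.rfl

set_option maxHeartbeats 2000000 in
/-- With `C(u)/⟨u⟩ ≅ S₆` the group is `S₈`. -/
theorem Six.nonempty_perm_eight [Finite G] (X : F.Six) (D : Subgroup G)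
    (hD : ∀ g, g ∈ D ↔ ∃ x, g = F.i (nine x))
    [((centralizer (D : Set G)).subgroupOf (normalizer (D : Set G))).Normal]
    (eNC : normalizer (D : Set G) ⧸ (centralizer (D : Set G)).subgroupOf (normalizer (D : Set G))
      ≃* DihedralGroup 4) :
    Nonempty (G ≃* Perm (Fin 8)) := by
  classical
  haveI : Fact (Nat.Prime 3) := ⟨Nat.prime_three⟩
  obtain ⟨H, hH, hpar⟩ := X.exists_parity
  haveI hHn : H.Normal := normal_of_index_eq_two hH
  have hτA : F.τ F.A = F.B := (F.twisted_or).resolve_left X.not_twisted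
  have hτB : F.τ F.B = F.A := by rw [← hτA, τ_τ]
  have hUH : F.U ∉ H := fun h => absurd ((hpar uP).1 h) (by decide +kernel)
  have hABH : F.i (aP * bP) ∈ H := (hpar _).2 (by decide +kernel)
  have hnine : ∀ x, F.i (nine x) ∈ H := fun x =>
    (hpar _).2 ((by decide +kernel : ∀ x, Perm.sign (nine x).1 * Perm.sign (nine x).2 = 1) x)
  have hDH : D ≤ H := fun g hg => by obtain ⟨x, rfl⟩ := (hD g).1 hg; exact hnine x
  set D' : Subgroup H := D.subgroupOf H with hD'
  have hD'mem : ∀ g : H, g ∈ D' ↔ ∃ x, (g : G) = F.i (nine x) := fun g => mem_subgroupOf.trans (hD _)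
  have hmul2 : ∀ g, g ∉ H → g * F.U ∈ H := fun g hg =>
    (mul_mem_iff_of_index_two hH).2 (iff_of_false hg hUH)
  obtain ⟨hf1, hf2, hab2, habinv, hyne, hy3, hz3, habc, habu⟩ := sym_facts
  -- the Sylow subgroup
  obtain ⟨P, hP⟩ := F.sylow
  have hDP : D = P := SetLike.ext fun g => (hD g).trans (hP g).symm
  have hPH : (P : Subgroup G) ≤ H := hDP ▸ hDH
  have hD'P : D' = (P.subtype hPH : Sylow 3 H) := by
    rw [Sylow.coe_subtype, hD', hDP]
  have hcard9 : Nat.card D = 9 := by
    have hb : Function.Bijective fun x : Fin 3 × Fin 3 => (⟨F.i (nine x), (hD _).2 ⟨x, rfl⟩⟩ : D) :=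
      ⟨fun a b e => nine_injective (F.inj (congrArg Subtype.val e)), fun g => by
        obtain ⟨x, hx⟩ := (hD _).1 g.2
        exact ⟨x, Subtype.ext hx.symm⟩⟩
    rw [← Nat.card_eq_of_bijective _ hb]
    simp
  have hcard' : Nat.card D' = 9 := by
    rw [← hcard9]; exact Nat.card_congr (subgroupOfEquivOfLe hDH).toEquiv
  let y : H := ⟨F.i (nine (1, 1)), hnine _⟩
  let z : H := ⟨F.i (nine (1, 0)), hnine _⟩
  have hyv : (y : G) = F.i (zP * sP) := congrArg F.i nine_zP.2.2
  have hzv : (z : G) = F.i zP := congrArg F.i nine_zP.1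
  have hgen : closure {y, z} = D' := by
    refine le_antisymm ((closure_le _).2 ?_) fun g hg => ?_
    · rintro g (rfl | rfl)
      exacts [(hD'mem y).2 ⟨(1, 1), rfl⟩, (hD'mem z).2 ⟨(1, 0), rfl⟩]
    · obtain ⟨x, hx⟩ := (hD'mem g).1 hg
      obtain ⟨i, j, hij⟩ := (by decide +kernel : ∀ x, ∃ i j : Fin 3,
        nine x = nine (1, 1) ^ i.val * nine (1, 0) ^ j.val) x
      rw [show g = y ^ i.val * z ^ j.val from Subtype.ext (by
        rw [hx, hij, map_mul, map_pow, map_pow]; rfl)]
      have hy' : y ∈ closure ({y, z} : Set H) := subset_closure (Set.mem_insert _ _)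
      have hz' : z ∈ closure ({y, z} : Set H) := subset_closure (Set.mem_insert_of_mem _ (Set.mem_singleton z))
      exact mul_mem (pow_mem hy' _) (pow_mem hz' _)
  have hcomm : IsMulCommutative D' := ⟨⟨fun a b => by
    obtain ⟨x, hx⟩ := (hD'mem _).1 a.2
    obtain ⟨x', hx'⟩ := (hD'mem _).1 b.2
    apply Subtype.ext; apply Subtype.ext
    show ((a : H) : G) * ((b : H) : G) = ((b : H) : G) * ((a : H) : G)
    rw [hx, hx', ← map_mul, ← map_mul, nine_mul, nine_mul, add_comm]⟩⟩
  have hexp : ∀ a ∈ D', a ^ 3 = 1 := fun a ha => by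
    obtain ⟨x, hx⟩ := (hD'mem _).1 ha
    apply Subtype.ext
    rw [Subgroup.coe_pow, hx, ← map_pow, (by decide +kernel : ∀ x, nine x ^ 3 = 1) x, map_one]
    rfl
  have hUC : F.U ∈ centralizer (D : Set G) := mem_centralizer_iff.2 fun g hg => by
    obtain ⟨x, rfl⟩ := (hD g).1 hg
    exact (F.commute_i ((by decide +kernel : ∀ x, nine x * uP = uP * nine x) x)).eq
  have hCD : ∀ g ∈ centralizer (D : Set G), ∃ x, ∃ k : Fin 2, g = F.i (nine x) * F.U ^ k.val :=
    fun g hg => F.cent_zs
      (show Commute g (F.i zP) by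
        rw [← nine_zP.1]; exact ((mem_centralizer_iff.1 hg _) ((hD _).2 ⟨_, rfl⟩)).symm)
      (show Commute g (F.i sP) by
        rw [← nine_zP.2.1]; exact ((mem_centralizer_iff.1 hg _) ((hD _).2 ⟨_, rfl⟩)).symm)
  have hin : ∀ g : H, (g : G) ∈ centralizer (D : Set G) → g ∈ D' := fun g hg => by
    obtain ⟨x, k, hk⟩ := hCD _ hg
    fin_cases k
    · exact (hD'mem g).2 ⟨x, by simpa using hk⟩
    · exfalso
      simp at hk
      apply hUH
      rw [show F.U = (F.i (nine x))⁻¹ * (g : G) by rw [hk]; group]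
      exact mul_mem (inv_mem (hnine x)) g.2
  have hC : centralizer (D' : Set H) = D' := by
    refine le_antisymm (fun g hg => hin g (mem_centralizer_iff.2 fun d hd => ?_)) fun g hg => ?_
    · exact congrArg Subtype.val (mem_centralizer_iff.1 hg (⟨d, hDH hd⟩ : H) (mem_subgroupOf.2 hd))
    · exact mem_centralizer_iff.2 fun d hd =>
        congrArg Subtype.val (hcomm.is_comm.comm (⟨d, hd⟩ : D') ⟨g, hg⟩)
  -- the quotient of the normalizer
  have hnormG : ∀ g : G, g ∈ normalizer (D : Set G) ↔ F.IsStab g := fun g =>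
    ⟨fun hg x => (hD _).1 ((mem_normalizer_iff.1 hg _).1 ((hD _).2 ⟨x, rfl⟩)),
      fun hg => mem_normalizer_fintype fun d hd => by
        obtain ⟨x, rfl⟩ := (hD d).1 hd
        exact (hD _).2 (hg x)⟩
  have hnormH : ∀ g : H, g ∈ normalizer (D' : Set H) ↔ F.IsStab (g : G) := fun g =>
    ⟨fun hg x => (hD'mem _).1 ((mem_normalizer_iff.1 hg ⟨_, hnine x⟩).1 ((hD'mem _).2 ⟨x, rfl⟩)),
      fun hg => mem_normalizer_fintype fun d hd => by
        obtain ⟨x, hx⟩ := (hD'mem d).1 hd
        obtain ⟨x', hx'⟩ := hg x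
        exact (hD'mem _).2 ⟨x', by rw [← hx']; simp [hx]⟩⟩
  let NH := normalizer (D' : Set H)
  let ι : NH →* normalizer (D : Set G) :=
    (H.subtype.comp NH.subtype).codRestrict (normalizer (D : Set G))
      fun g => (hnormG _).2 ((hnormH _).1 g.2)
  let CN := (centralizer (D : Set G)).subgroupOf (normalizer (D : Set G))
  let φ : NH →* DihedralGroup 4 := eNC.toMonoidHom.comp ((QuotientGroup.mk' CN).comp ι)
  have hφ : Function.Surjective φ := fun q => by
    obtain ⟨g, hg⟩ := QuotientGroup.mk'_surjective CN (eNC.symm q)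
    have hgs := (hnormG _).1 g.2
    have hUs : F.IsStab F.U := fun x => ⟨x, by
      rw [Frame.U, ← ((F.commute_i ((by decide +kernel : ∀ x, nine x * uP = uP * nine x) x))).eq,
        mul_inv_cancel_right]⟩
    by_cases hm : (g : G) ∈ H
    · refine ⟨⟨⟨g, hm⟩, (hnormH _).2 hgs⟩, ?_⟩
      show eNC (QuotientGroup.mk' CN g) = q
      rw [hg, eNC.apply_symm_apply]
    · refine ⟨⟨⟨_, hmul2 _ hm⟩, (hnormH _).2 (hgs.mul F hUs)⟩, ?_⟩
      show eNC (QuotientGroup.mk' CN _) = q
      rw [← eNC.apply_symm_apply q, ← hg]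
      congr 1
      refine QuotientGroup.eq.2 ?_
      show ((g : G) * F.U)⁻¹ * g ∈ centralizer (D : Set G)
      rw [mul_inv_rev, inv_mul_cancel_right]
      exact inv_mem hUC
  have hker : D'.subgroupOf NH = φ.ker := by
    ext g
    rw [MonoidHom.mem_ker, MonoidHom.comp_apply, MulEquiv.coe_toMonoidHom, EmbeddingLike.map_eq_one_iff,
      MonoidHom.comp_apply, QuotientGroup.mk'_apply, QuotientGroup.eq_one_iff, mem_subgroupOf,
      mem_subgroupOf]
    exact ⟨fun hg => mem_centralizer_iff.2 fun d hd =>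
      congrArg Subtype.val (mem_centralizer_iff.1 (by rw [hC]; exact hg : (g : H) ∈ centralizer (D' : Set H))
        (⟨d, hDH hd⟩ : H) (mem_subgroupOf.2 hd)), hin _⟩
  let eN : NH ⧸ D'.subgroupOf NH ≃* DihedralGroup 4 :=
    (QuotientGroup.quotientMulEquivOfEq hker).trans (QuotientGroup.quotientKerEquivOfSurjective φ hφ)
  -- the element `y`
  have hCy : ∀ g : H, g ∈ centralizer ({y} : Set H) ↔ Commute (g : G) (F.i (zP * sP)) := fun g => by
    rw [mem_centralizer_singleton_iff, ← hyv]
    exact ⟨fun e => congrArg Subtype.val e, fun e => Subtype.ext e⟩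
  have hyst : ∀ {g : G}, Commute g (F.i (zP * sP)) → F.IsStab g := fun {g} hg x => F.y_normal g hg.eq x
  have hD'y : D' ≤ centralizer ({y} : Set H) := fun g hg => (hCy g).2 (by
    obtain ⟨x, hx⟩ := (hD'mem g).1 hg
    rw [hx]
    exact F.commute_i ((by decide +kernel : ∀ x, nine x * (zP * sP) = zP * sP * nine x) x))
  have hyn : (D'.subgroupOf (centralizer ({y} : Set H))).Normal :=
    normal_subgroupOf_of_le_normalizer fun g hg => (hnormH g).2 (hyst ((hCy g).1 hg))
  have hUy : F.U ∈ centralizer ({F.i (zP * sP)} : Set G) :=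
    mem_centralizer_singleton_iff.2 (F.commute_i (by decide +kernel)).eq
  have hycard : Nat.card (centralizer ({y} : Set H)) = 18 := by
    have e : Nat.card (centralizer ({y} : Set H)) = Nat.card ↥(centralizer ({F.i (zP * sP)} : Set G) ⊓ H) :=
      Nat.card_congr
        { toFun := fun g => ⟨((g : H) : G), mem_centralizer_singleton_iff.2 ((hCy _).1 g.2).eq, (g : H).2⟩
          invFun := fun g => ⟨⟨g.1, g.2.2⟩, (hCy _).2 (mem_centralizer_singleton_iff.1 g.2.1)⟩
          left_inv := fun g => rfl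
          right_inv := fun g => rfl }
    have h2 := card_two_mul (K := centralizer ({F.i (zP * sP)} : Set G) ⊓ H) inf_le_left hUy
      (mul_self F.U_ord) (fun h => hUH h.2) fun g hg => by
        by_cases hm : g ∈ H
        exacts [Or.inl ⟨hg, hm⟩, Or.inr ⟨mul_mem hg hUy, hmul2 _ hm⟩]
    rw [F.card_y] at h2
    omega
  set Ny := normalizer ((zpowers y : Subgroup H) : Set H) with hNy
  have hy3' : y ^ 3 = 1 := Subtype.ext (by rw [Subgroup.coe_pow, hyv, ← map_pow, hy3, map_one]; rfl)
  have hy1 : y ≠ 1 := fun e => by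
    have := congrArg (Subtype.val) e
    rw [hyv] at this
    exact absurd (F.inj (this.trans (map_one F.i).symm)) (by decide +kernel)
  let ab : H := ⟨F.i (aP * bP), hABH⟩
  have hab : ab * ab = 1 := Subtype.ext (by
    show F.i (aP * bP) * F.i (aP * bP) = 1
    rw [← map_mul, hab2, map_one])
  have habconj : ab * y * ab⁻¹ = y⁻¹ := Subtype.ext (by
    show F.i (aP * bP) * (y : G) * (F.i (aP * bP))⁻¹ = (y : G)⁻¹
    rw [hyv, ← map_conj, habinv, map_inv])
  have habNy : ab ∈ Ny := mem_normalizer_zpowers (Or.inr habconj)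
  have hNycases : ∀ g ∈ Ny, g * y * g⁻¹ = y ∨ g * y * g⁻¹ = y⁻¹ := fun g hg => by
    rcases mem_zpowers_three hy3' ((mem_normalizer_iff.1 hg y).1 (mem_zpowers y)) with e | e | e
    · exfalso
      rw [mul_inv_eq_one, mul_eq_left] at e
      exact hy1 e
    · exact Or.inl e
    · exact Or.inr e
  have hNyC : ∀ g ∈ Ny, g ∈ centralizer ({y} : Set H) ∨ g * ab ∈ centralizer ({y} : Set H) := by
    intro g hg
    rcases hNycases g hg with e | e
    · exact Or.inl (mem_centralizer_singleton_iff.2 (mul_inv_eq_iff_eq_mul.1 e))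
    · refine Or.inr (mem_centralizer_singleton_iff.2 (mul_inv_eq_iff_eq_mul.1 ?_))
      rw [show g * ab * y * (g * ab)⁻¹ = g * (ab * y * ab⁻¹) * g⁻¹ by group, habconj, ← conj_inv, e,
        inv_inv]
  have hNycard : Nat.card Ny = 36 := by
    rw [card_two_mul (K := centralizer ({y} : Set H)) (fun g hg => mem_normalizer_zpowers (Or.inl (by
        rw [mem_centralizer_singleton_iff.1 hg, mul_inv_cancel_right]))) habNy hab ?_ hNyC, hycard]
    intro h
    rw [mem_centralizer_singleton_iff.1 h, mul_inv_cancel_right] at habconj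
    have := congrArg (Subtype.val) habconj
    rw [Subgroup.coe_inv, hyv, ← map_inv] at this
    exact hyne (F.inj this).symm
  have hNyst : ∀ g ∈ Ny, F.IsStab (g : G) := fun g hg => by
    rcases hNyC g hg with e | e
    · exact hyst ((hCy g).1 e)
    · have h1 := (hyst ((hCy _).1 e)).mul F (F.isStab_i (l := aP * bP) (by decide +kernel))
      rwa [Subgroup.coe_mul, show ((ab : H) : G) = F.i (aP * bP) from rfl, mul_assoc, ← map_mul, hab2,
        map_one, mul_one] at h1
  have hD'Ny : D' ≤ Ny := fun g hg => mem_normalizer_zpowers (Or.inl (by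
    rw [mem_centralizer_singleton_iff.1 (hD'y hg), mul_inv_cancel_right]))
  haveI hyNn : (D'.subgroupOf Ny).Normal :=
    normal_subgroupOf_of_le_normalizer fun g hg => (hnormH g).2 (hNyst g hg)
  have hyNcard : Nat.card (Ny ⧸ D'.subgroupOf Ny) = 4 := by
    have h := card_eq_card_quotient_mul_card_subgroup (D'.subgroupOf Ny)
    rw [hNycard, Nat.card_congr (subgroupOfEquivOfLe hD'Ny).toEquiv, hcard'] at h
    omega
  have hyNexp : ∀ g : Ny ⧸ D'.subgroupOf Ny, g ^ 2 = 1 := by
    intro q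
    obtain ⟨g, rfl⟩ := QuotientGroup.mk'_surjective _ q
    rw [← map_pow]
    refine (QuotientGroup.eq_one_iff _).2 (mem_subgroupOf.2 ((hD'mem _).2 ?_))
    show ∃ x, (((g ^ 2 : Ny) : H) : G) = F.i (nine x)
    rw [Subgroup.coe_pow, Subgroup.coe_pow, pow_two]
    have hst := hNyst _ g.2
    have hg' : ((g : H) : G) * F.i (zP * sP) * ((g : H) : G)⁻¹ = F.i (zP * sP) ∨
        ((g : H) : G) * F.i (zP * sP) * ((g : H) : G)⁻¹ = (F.i (zP * sP))⁻¹ := by
      rw [← hyv]
      exact (hNycases _ g.2).imp (congrArg Subtype.val) (congrArg Subtype.val)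
    have hl : ∀ l, (F.i l * F.i (zP * sP) * (F.i l)⁻¹ = F.i (zP * sP) ∨
        F.i l * F.i (zP * sP) * (F.i l)⁻¹ = (F.i (zP * sP))⁻¹) →
        ∃ x, ∃ e ∈ ([1, aP * bP, uP, aP * bP * uP] : List P35), l = nine x * e := fun l h => by
      refine stab_y l (h.imp (fun e => F.inj ?_) fun e => F.inj ?_)
      · rw [map_conj]; exact e
      · rw [map_conj, map_inv F.i (zP * sP)]; exact e
    have hτy : F.τ (F.i (zP * sP)) = F.i (zP * sP) := by
      rw [← nine_zP.2.2, τ_nine]; rfl
    have hτe : ∀ e ∈ ([1, aP * bP, uP, aP * bP * uP] : List P35), F.τ (F.i e) = F.i e := by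
      have e1 : F.τ (F.i (aP * bP)) = F.i (aP * bP) := by
        rw [map_mul, τ_mul, show F.τ (F.i aP) = F.i bP from hτA, show F.τ (F.i bP) = F.i aP from hτB,
          ← map_mul, ← map_mul, habc]
      intro e he
      simp only [List.mem_cons, List.not_mem_nil, or_false] at he
      rcases he with rfl | rfl | rfl | rfl
      · rw [map_one, τ_one]
      · exact e1
      · exact F.τ_U
      · rw [map_mul, τ_mul, e1, show F.τ (F.i uP) = F.i uP from F.τ_U]
    rcases F.normal_D hst with ⟨l, hl'⟩ | ⟨l, hl'⟩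
    · rw [← hl'] at hg' ⊢
      obtain ⟨x, e, he, rfl⟩ := hl l hg'
      obtain ⟨x', hx'⟩ := (stab_y_sq e he x).1
      exact ⟨x', by rw [← map_mul, hx']⟩
    · rw [← hl'] at hg' ⊢
      have hg'' := hg'.imp (congrArg F.τ) (congrArg F.τ)
      have e0 : F.τ (F.h * F.i l * F.i (zP * sP) * (F.h * F.i l)⁻¹) =
          F.i l * F.i (zP * sP) * (F.i l)⁻¹ := by
        rw [show F.h * F.i l * F.i (zP * sP) * (F.h * F.i l)⁻¹ =
          F.h * (F.i l * F.i (zP * sP) * (F.i l)⁻¹) * F.h⁻¹ by group, ← τ_eq, τ_τ]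
      rw [e0, hτy, τ_inv, hτy] at hg''
      obtain ⟨x, e, he, rfl⟩ := hl l hg''
      obtain ⟨x', hx'⟩ := (stab_y_sq e he x).2
      refine ⟨x', ?_⟩
      rw [← hx', ← mul_assoc, show F.h * F.i (nine x * e) * F.h = F.τ (F.i (nine x * e)) from rfl,
        map_mul F.i (nine x) e, τ_mul, τ_nine, hτe e he, ← map_mul, ← map_mul, ← map_mul]
  -- the element `z`
  have hz3' : z ^ 3 = 1 := Subtype.ext (by rw [Subgroup.coe_pow, hzv, ← map_pow, hz3, map_one]; rfl)
  have hz1 : z ≠ 1 := fun e => by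
    have := congrArg (Subtype.val) e
    rw [hzv] at this
    exact absurd (F.inj (this.trans (map_one F.i).symm)) (by decide +kernel)
  let f₁ : ↥(alternatingGroup (Fin 3)) × ↥(alternatingGroup (Fin 5)) →* P35 :=
    (alternatingGroup (Fin 3)).subtype.prodMap (alternatingGroup (Fin 5)).subtype
  let f₂ : ↥(alternatingGroup (Fin 3)) × ↥(alternatingGroup (Fin 5)) →* H :=
    (F.i.comp f₁).codRestrict H fun p => (hpar _).2 (by
      show Perm.sign (p.1 : Perm (Fin 3)) * Perm.sign (p.2 : Perm (Fin 5)) = 1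
      rw [Equiv.Perm.mem_alternatingGroup.1 p.1.2, Equiv.Perm.mem_alternatingGroup.1 p.2.2, one_mul])
  let f₃ : ↥(alternatingGroup (Fin 3)) × ↥(alternatingGroup (Fin 5)) →* centralizer ({z} : Set H) :=
    f₂.codRestrict _ fun p => mem_centralizer_singleton_iff.2 (Subtype.ext (by
      show F.i (f₁ p) * (z : G) = (z : G) * F.i (f₁ p)
      rw [hzv, ← map_mul, ← map_mul]
      congr 1
      refine Prod.ext ((hf2 _).2 (Equiv.Perm.mem_alternatingGroup.1 p.1.2)) ?_
      simp [zP]))
  have hf₃ : Function.Bijective f₃ := by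
    refine ⟨fun p q e => ?_, fun g => ?_⟩
    · have e' : f₁ p = f₁ q := F.inj (congrArg (fun g : centralizer ({z} : Set H) => ((g : H) : G)) e)
      exact Prod.ext (Subtype.ext (congrArg Prod.fst e')) (Subtype.ext (congrArg Prod.snd e'))
    · have hc : Commute ((g : H) : G) (F.i zP) := by
        rw [← hzv]
        exact congrArg Subtype.val (mem_centralizer_singleton_iff.1 g.2)
      obtain ⟨l, hl, hlz⟩ := F.exists_of_commute_z hc
      have h1 : Perm.sign l.1 = 1 := (hf2 _).1 (congrArg Prod.fst hlz)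
      have h2 := (hpar l).1 (hl.symm ▸ (g : H).2)
      rw [h1, one_mul] at h2
      exact ⟨(⟨l.1, Equiv.Perm.mem_alternatingGroup.2 h1⟩, ⟨l.2, Equiv.Perm.mem_alternatingGroup.2 h2⟩),
        Subtype.ext (Subtype.ext hl)⟩
  have hA3 : Nat.card ↥(alternatingGroup (Fin 3)) = 3 := by
    rw [Nat.card_eq_fintype_card]; decide +kernel
  let e3 : Multiplicative (ZMod 3) ≃* ↥(alternatingGroup (Fin 3)) :=
    mulEquivOfPrimeCardEq (p := 3) (by simp) hA3
  let eC : centralizer ({z} : Set H) ≃* Multiplicative (ZMod 3) × ↥(alternatingGroup (Fin 5)) :=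
    (MulEquiv.ofBijective f₃ hf₃).symm.trans (MulEquiv.prodCongr e3.symm (MulEquiv.refl _))
  let f₄ : ↥L35 →* H := (F.i.comp L35.subtype).codRestrict H fun l => (hpar _).2 l.2
  let f₅ : ↥L35 →* normalizer ((zpowers z : Subgroup H) : Set H) :=
    f₄.codRestrict _ fun l => mem_normalizer_zpowers (by
      refine (conj_zP (l : P35)).imp (fun e => Subtype.ext ?_) (fun e => Subtype.ext ?_)
      · show F.i l * (z : G) * (F.i l)⁻¹ = (z : G)
        rw [hzv, ← map_conj, e]
      · show F.i l * (z : G) * (F.i l)⁻¹ = (z : G)⁻¹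
        rw [hzv, ← map_conj, e, map_inv])
  have hf₅ : Function.Bijective f₅ := by
    refine ⟨fun p q e => Subtype.ext (F.inj
      (congrArg (fun g : normalizer ((zpowers z : Subgroup H) : Set H) => ((g : H) : G)) e)), fun g => ?_⟩
    have hm := mem_zpowers_three hz3' ((mem_normalizer_iff.1 g.2 z).1 (mem_zpowers z))
    obtain ⟨l, hl⟩ := F.exists_of_zpowers (g := ((g : H) : G)) (by
      rcases hm with e | e | e
      · exfalso
        rw [mul_inv_eq_one, mul_eq_left] at e
        exact hz1 e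
      · left; rw [← hzv]; exact congrArg Subtype.val e
      · right; rw [← hzv]; exact congrArg Subtype.val e)
    exact ⟨⟨l, (hpar l).1 (hl.symm ▸ (g : H).2)⟩, Subtype.ext (Subtype.ext hl)⟩
  let eL : normalizer ((zpowers z : Subgroup H) : Set H) ≃* ↥L35 := (MulEquiv.ofBijective f₅ hf₅).symm
  obtain ⟨e⟩ := Cfsg.Agent.S3329.result (P.subtype hPH) D' hD'P y z hgen hcomm hcard' hexp hC eN hyn hycard
    Ny rfl hD'Ny hyNcard hyNexp eC eL
  -- the action on the subgroup of index two
  let φH : G →* MulAut H := MulAut.conjNormal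
  have hφH : Function.Injective φH := by
    rw [injective_iff_map_eq_one]
    intro g hg
    have hc : ∀ w : G, w ∈ H → Commute g w := fun w hw => by
      have := congrArg Subtype.val (DFunLike.congr_fun hg ⟨w, hw⟩)
      rw [MulAut.conjNormal_apply] at this
      exact mul_inv_eq_iff_eq_mul.1 this
    obtain ⟨x, k, hk⟩ := hCD g (mem_centralizer_iff.2 fun d hd => (hc d (hDH hd)).eq.symm)
    rw [Frame.U, ← map_pow, ← map_mul] at hk
    subst hk
    rw [hf1 x k
      (F.eq_of_commute (hc _ ((hpar _).2 (by decide +kernel))))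
      (F.eq_of_commute (hc _ ((hpar _).2 (by decide +kernel))))
      (F.eq_of_commute (hc _ hABH)), map_one]
  let ψ : G →* MulAut ↥(alternatingGroup (Fin 8)) := (MulAut.congr e).toMonoidHom.comp φH
  have hψ : Function.Injective ψ := (MulAut.congr e).injective.comp hφH
  let c := MulEquiv.ofBijective _ (Cfsg.Agent.S2119.result 8 (by norm_num) (by norm_num))
  have hcardG : Nat.card G = Nat.card (MulAut ↥(alternatingGroup (Fin 8))) := by
    rw [← Nat.card_congr c.toEquiv, ← H.card_mul_index, hH, Nat.card_congr e.toEquiv, mul_comm,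
      two_mul_nat_card_alternatingGroup]
  exact ⟨(MulEquiv.ofBijective ψ ((Nat.bijective_iff_injective_and_card ψ).2 ⟨hψ, hcardG⟩)).trans c.symm⟩

end Frame

end CfsgLib.ThreeSym
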