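import Mathlib

/-!
The group of order 32 generated by `a, a', u, v, v'` in exponent coordinates, with `[v', v] = (a a')^ε`.
-/

set_option autoImplicit false
set_option maxRecDepth 10000
set_option synthInstance.maxSize 2000
set_option synthInstance.maxHeartbeats 400000

namespace CfsgLib.ThreeSym.TwoModel

/-- Exponents of `a, a', u, v, v'`. -/
abbrev T5 : Type := Fin 2 × Fin 2 × Fin 2 × Fin 2 × Fin 2

/-- The product. -/
def tmul (ε : Fin 2) (t s : T5) : T5 :=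
  (t.1 + s.1 + t.2.2.2.1 * s.2.2.1 + ε * t.2.2.2.2 * s.2.2.2.1,
    t.2.1 + s.2.1 + t.2.2.2.2 * s.2.2.1 + ε * t.2.2.2.2 * s.2.2.2.1,
    t.2.2.1 + s.2.2.1, t.2.2.2.1 + s.2.2.2.1, t.2.2.2.2 + s.2.2.2.2)

/-- The identity. -/
def e₀ : T5 := (0, 0, 0, 0, 0)
/-- `a`. -/
def tA : T5 := (1, 0, 0, 0, 0)
/-- `a'`. -/
def tA' : T5 := (0, 1, 0, 0, 0)

/-- The commutator of two involutions. -/
def com (ε : Fin 2) (t s : T5) : T5 := tmul ε (tmul ε (tmul ε t s) t) s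

/-- Not known to be conjugate to `a`. -/
def OkU (t : T5) : Prop := t.2.2.1 = 1 ∨ (t.2.2.2.1 = 1 ∧ t.2.2.2.2 = 1)

/-- Not known to be conjugate to `u`. -/
def OkA (t : T5) : Prop := t.2.2.1 = 0 ∨ t.2.2.2.1 = 1 ∨ t.2.2.2.2 = 1

theorem inv_exists : ∀ ε t, ∃ s, tmul ε t s = e₀ ∧ tmul ε s t = e₀ := by decide +kernel

/-- The automorphisms fixing `a` and respecting the classes. -/
theorem classify : ∀ ε tu, OkU tu → tmul ε tu tu = e₀ →
    ∀ tv, tmul ε tv tv = e₀ → com ε tu tv = tA →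
    ∀ tw, OkA tw → tmul ε tw tw = e₀ → com ε tu tw ≠ e₀ → com ε tu tw ≠ tA →
      com ε tv tw = (ε * (tmul ε tA (com ε tu tw)).1, ε * (tmul ε tA (com ε tu tw)).2.1,
        ε * (tmul ε tA (com ε tu tw)).2.2.1, ε * (tmul ε tA (com ε tu tw)).2.2.2.1,
        ε * (tmul ε tA (com ε tu tw)).2.2.2.2) →
      (tu.2.2 = (1, 0, 0) ∧ (com ε tu tw = tA' ∨ com ε tu tw = tmul ε tA tA')) ∨
        (ε = 1 ∧ com ε tu tw = tA' ∧ tv.2.2 = (0, 0, 1)) := by
  unfold OkU OkA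
  decide +kernel

end CfsgLib.ThreeSym.TwoModel
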