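import Cfsg.Agent.Lib.Recognition.ThreeSym.Classes
import Cfsg.Agent.Lib.Recognition.ThreeSym.TwoModel

/-!
In the twisted case with `C(u) = N(D)`: `a a'` is not conjugate to `a`, and `v` commutes with `v'`.
-/

set_option autoImplicit false
set_option linter.style.haveILetI false
set_option maxRecDepth 10000
set_option synthInstance.maxSize 2000
set_option synthInstance.maxHeartbeats 400000

namespace CfsgLib.ThreeSym

open Subgroup Equiv CfsgLib.ThreeEight TwoModel

variable {G : Type*} [Group G]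

theorem two_facts :
    uP * vP * uP = vP * a'P ∧ aP * a'P = a'P * aP ∧ vP * aP = aP * vP ∧ vP * a'P = a'P * vP ∧
    aP * uP = uP * aP ∧ a'P * uP = uP * a'P ∧
    (∀ i j k : Fin 2, aP ^ i.val * a'P ^ j.val * uP ^ k.val = 1 → i = 0 ∧ j = 0 ∧ k = 0) ∧
    (∃ n : P35, n * aP = aP * n ∧ n * a'P * n⁻¹ = vP) ∧
    (∃ n : P35, n * aP = aP * n ∧ n * a'P * n⁻¹ = vP * a'P) ∧
    (∃ k : P35, k * uP * k⁻¹ = bP ∧ k * aP = aP * k) := by
  decide +kernel

namespace Frame

variable (F : Frame G)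

/-- The twisted case with `C(u)` normalizing `D`. -/
structure Narrow : Prop where
  twisted : F.Twisted
  normal : ∀ g, Commute g F.U → F.IsStab g

variable {F}

theorem Twisted.τ_V (_hF : F.Twisted) : F.τ F.V = F.V' := F.τ_τ _

theorem comm_A_A' : Commute F.A F.A' := F.commute_i two_facts.2.1
theorem comm_A_U : Commute F.A F.U := F.commute_i two_facts.2.2.2.2.1
theorem comm_A'_U : Commute F.A' F.U := F.commute_i two_facts.2.2.2.2.2.1
theorem comm_V'_A : Commute F.V' F.A := F.commute_i two_facts.2.2.1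
theorem comm_V'_A' : Commute F.V' F.A' := F.commute_i two_facts.2.2.2.1

theorem Twisted.comm_V_A (hF : F.Twisted) : Commute F.V F.A := by
  rw [← hF.τ_A']
  exact F.τ_commute comm_V'_A'

theorem Twisted.comm_V_A' (hF : F.Twisted) : Commute F.V F.A' := by
  rw [← hF]
  exact F.τ_commute comm_V'_A

theorem U_V'_U : F.U * F.V' * F.U = F.V' * F.A' := by
  rw [U, V', A', ← map_mul, ← map_mul, ← map_mul, two_facts.1]

theorem Twisted.U_V_U (hF : F.Twisted) : F.U * F.V * F.U = F.V * F.A := by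
  have := congrArg F.τ (F.U_V'_U)
  rwa [τ_mul, τ_mul, τ_mul, τ_U, hF.τ_A'] at this

/-- `C(a, a', u) = ⟨a, a', u⟩`. -/
theorem Narrow.eq_E [Finite G] (hN : F.Narrow) {g : G} (ha : Commute g F.A) (ha' : Commute g F.A')
    (hu : Commute g F.U) :
    ∃ i j k : Fin 2, g = F.A ^ i.val * F.A' ^ j.val * F.U ^ k.val := by
  rcases F.normal_D (hN.normal g hu) with ⟨l, rfl⟩ | ⟨l, rfl⟩
  · obtain ⟨i, j, k, rfl⟩ := cent_E l (F.eq_of_commute ha) (F.eq_of_commute ha') (F.eq_of_commute hu)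
    exact ⟨i, j, k, by simp only [map_mul, map_pow]; rfl⟩
  · exfalso
    refine (fst_ne 1 l).2 (F.inj ?_)
    have h : F.τ (F.i l * F.A * (F.i l)⁻¹) = F.A := by
      rw [τ_eq]
      calc F.h * (F.i l * F.A * (F.i l)⁻¹) * F.h⁻¹ = F.h * F.i l * F.A * (F.h * F.i l)⁻¹ := by group
        _ = F.A := by rw [ha.eq, mul_inv_cancel_right]
    rw [map_conj]
    show F.i l * F.A * (F.i l)⁻¹ = F.A'
    have h' := congrArg F.τ h
    rw [τ_τ] at h'
    exact h'.trans hN.twisted

/-- The commutator `[v', v]`. -/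
def cc (F : Frame G) : G := F.V' * F.V * F.V' * F.V

theorem Narrow.cc_cases [Finite G] (hN : F.Narrow) :
    ∃ ε : Fin 2, F.cc = (F.A * F.A') ^ ε.val := by
  have hF := hN.twisted
  have hVV : F.V * F.V = 1 := mul_self F.V_ord
  have hV'V' : F.V' * F.V' = 1 := mul_self F.V'_ord
  have hVi : F.V⁻¹ = F.V := inv_eq F.V_ord
  have hV'i : F.V'⁻¹ = F.V' := inv_eq F.V'_ord
  have hcA : Commute F.cc F.A :=
    ((comm_V'_A.mul_left hF.comm_V_A).mul_left comm_V'_A).mul_left hF.comm_V_A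
  have hcA' : Commute F.cc F.A' :=
    ((comm_V'_A'.mul_left hF.comm_V_A').mul_left comm_V'_A').mul_left hF.comm_V_A'
  have hUU : F.U * F.U = 1 := mul_self F.U_ord
  have hcU : Commute F.cc F.U := by
    have hAA : F.A * F.A = 1 := mul_self F.A_ord
    have hA'A' : F.A' * F.A' = 1 := mul_self F.A'_ord
    have e : F.U * F.cc * F.U = F.cc := by
      calc F.U * F.cc * F.U = (F.U * F.V' * F.U) * (F.U * F.V * F.U) * (F.U * F.V' * F.U) *
            (F.U * F.V * F.U) := by
            rw [cc]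
            simp only [mul_assoc]
            simp only [← mul_assoc F.U F.U, hUU, one_mul]
        _ = F.V' * F.A' * (F.V * F.A) * (F.V' * F.A') * (F.V * F.A) := by rw [U_V'_U, hF.U_V_U]
        _ = F.cc * ((F.A' * F.A') * (F.A * F.A)) := by
          rw [cc]
          simp only [mul_assoc]
          rw [← mul_assoc F.A' F.V, ← hF.comm_V_A'.eq, mul_assoc, ← mul_assoc F.A F.V', ← comm_V'_A.eq,
            mul_assoc, ← mul_assoc F.A' F.V', ← comm_V'_A'.eq, mul_assoc, ← mul_assoc F.A F.A',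
            comm_A_A'.eq, mul_assoc, ← mul_assoc F.A F.V, ← hF.comm_V_A.eq, mul_assoc, ← mul_assoc F.A' F.V,
            ← hF.comm_V_A'.eq, mul_assoc, ← mul_assoc F.A' F.V, ← hF.comm_V_A'.eq, mul_assoc]
        _ = F.cc := by rw [hAA, hA'A', one_mul, mul_one]
    show F.cc * F.U = F.U * F.cc
    nth_rw 1 [← e]
    rw [mul_assoc, hUU, mul_one]
  obtain ⟨i, j, k, hc⟩ := hN.eq_E hcA hcA' hcU
  have hinv : F.cc⁻¹ = F.cc := by
    refine inv_eq_of_mul_eq_one_right ?_
    rw [hc, A, A', U, ← map_pow, ← map_pow, ← map_pow, ← map_mul, ← map_mul, ← map_mul]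
    rw [(by decide +kernel : ∀ i j k : Fin 2, aP ^ i.val * a'P ^ j.val * uP ^ k.val *
      (aP ^ i.val * a'P ^ j.val * uP ^ k.val) = 1) i j k, map_one]
  have hk : k = 0 := by
    have e : F.V * F.cc * F.V = F.cc := by
      conv_rhs => rw [← hinv]
      rw [cc]; simp [mul_inv_rev, hVi, hV'i, mul_assoc, hVV]
    by_contra hk
    rw [hc, show k.val = 1 by omega, pow_one] at e
    have hm : Commute F.V (F.A ^ i.val * F.A' ^ j.val) :=
      (hF.comm_V_A.pow_right _).mul_right (hF.comm_V_A'.pow_right _)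
    have e2 : F.V * F.U * F.V = F.U := by
      rw [← mul_assoc, hm.eq, mul_assoc, mul_assoc, mul_right_inj, ← mul_assoc] at e
      exact e
    have e3 : F.U * F.V * F.U = F.V := by
      conv_lhs => arg 2; rw [← e2]
      simp only [mul_assoc]
      rw [← mul_assoc F.V F.V, hVV, one_mul, ← mul_assoc F.U F.U]
      rw [hUU, one_mul]
    rw [hF.U_V_U, mul_eq_left] at e3
    exact ord_facts.2.1 (F.inj (e3.trans (map_one F.i).symm))
  subst hk
  have hij : i = j := by
    have e : F.τ F.cc = F.cc := by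
      conv_rhs => rw [← hinv]
      rw [cc, τ_mul, τ_mul, τ_mul, hF.τ_V, show F.τ F.V' = F.V from rfl]
      simp [mul_inv_rev, hVi, hV'i, mul_assoc]
    rw [hc, τ_mul, τ_mul, τ_pow, τ_pow, τ_pow, hF, hF.τ_A'] at e
    simp only [Fin.val_zero, pow_zero, mul_one, A, A', ← map_pow, ← map_mul] at e
    have key : ∀ i j : Fin 2, a'P ^ i.val * aP ^ j.val = aP ^ i.val * a'P ^ j.val → i = j := by
      decide +kernel
    exact key i j (F.inj e)
  subst hij
  exact ⟨i, by rw [hc, comm_A_A'.mul_pow]; simp⟩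

/-- The element with given exponents. -/
def el (F : Frame G) (t : T5) : G :=
  F.A ^ t.1.val * F.A' ^ t.2.1.val * F.U ^ t.2.2.1.val * F.V ^ t.2.2.2.1.val * F.V' ^ t.2.2.2.2.val

theorem pow_add_fin {w : G} (hw : w * w = 1) (i j : Fin 2) : w ^ (i + j).val = w ^ i.val * w ^ j.val := by
  fin_cases i <;> fin_cases j <;> simp [hw]

theorem pow_mul_fin {w : G} (i j : Fin 2) : w ^ (i * j).val = w ^ (i.val * j.val) := by
  fin_cases i <;> fin_cases j <;> rfl

theorem Narrow.el_mul [Finite G] (hN : F.Narrow) {ε : Fin 2} (hε : F.cc = (F.A * F.A') ^ ε.val)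
    (t s : T5) : F.el t * F.el s = F.el (tmul ε t s) := by
  have hF := hN.twisted
  have hAA : F.A * F.A = 1 := mul_self F.A_ord
  have hA'A' : F.A' * F.A' = 1 := mul_self F.A'_ord
  have hUU : F.U * F.U = 1 := mul_self F.U_ord
  have hVV : F.V * F.V = 1 := mul_self F.V_ord
  have hV'V' : F.V' * F.V' = 1 := mul_self F.V'_ord
  obtain ⟨i, j, k, l, m⟩ := t
  obtain ⟨i', j', k', l', m'⟩ := s
  have cAA' := comm_A_A' (F := F)
  have cAU := comm_A_U (F := F)
  have cA'U := comm_A'_U (F := F)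
  -- moving `u` to the left
  have mVU : ∀ l k : Fin 2, F.V ^ l.val * F.U ^ k.val =
      F.A ^ (l * k).val * F.U ^ k.val * F.V ^ l.val := by
    intro l k
    fin_cases l <;> fin_cases k <;>
      simp only [Fin.zero_eta, Fin.mk_one, Fin.val_zero, Fin.val_one, pow_zero, pow_one, one_mul, mul_one,
        mul_zero, zero_mul]
    have e := hF.U_V_U
    calc F.V * F.U = F.U * (F.U * F.V * F.U) := by simp [← mul_assoc, hUU]
      _ = F.U * (F.V * F.A) := by rw [e]
      _ = F.U * (F.A * F.V) := by rw [hF.comm_V_A.eq]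
      _ = F.A * F.U * F.V := by rw [← mul_assoc, ← cAU.eq]
  have mV'U : ∀ l k : Fin 2, F.V' ^ l.val * F.U ^ k.val =
      F.A' ^ (l * k).val * F.U ^ k.val * F.V' ^ l.val := by
    intro l k
    fin_cases l <;> fin_cases k <;>
      simp only [Fin.zero_eta, Fin.mk_one, Fin.val_zero, Fin.val_one, pow_zero, pow_one, one_mul, mul_one,
        mul_zero, zero_mul]
    have e := U_V'_U (F := F)
    calc F.V' * F.U = F.U * (F.U * F.V' * F.U) := by simp [← mul_assoc, hUU]
      _ = F.U * (F.V' * F.A') := by rw [e]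
      _ = F.U * (F.A' * F.V') := by rw [comm_V'_A'.eq]
      _ = F.A' * F.U * F.V' := by rw [← mul_assoc, ← cA'U.eq]
  have mV'V : ∀ m l : Fin 2, F.V' ^ m.val * F.V ^ l.val =
      F.A ^ (ε * m * l).val * F.A' ^ (ε * m * l).val * F.V ^ l.val * F.V' ^ m.val := by
    intro m l
    fin_cases m <;> fin_cases l <;>
      simp only [Fin.zero_eta, Fin.mk_one, Fin.val_zero, Fin.val_one, pow_zero, pow_one, one_mul, mul_one,
        mul_zero]
    calc F.V' * F.V = F.cc * (F.V * F.V') := by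
          rw [cc]; simp only [mul_assoc]; rw [← mul_assoc F.V F.V, hVV, one_mul, hV'V', mul_one]
      _ = F.A ^ ε.val * F.A' ^ ε.val * (F.V * F.V') := by rw [hε, cAA'.mul_pow]
      _ = _ := by simp only [mul_assoc]
  -- the central part moves past `u, v, v'`
  have c1 : ∀ p q : ℕ, ∀ k l m : ℕ,
      Commute (F.U ^ k * F.V ^ l * F.V' ^ m) (F.A ^ p * F.A' ^ q) := fun p q k l m =>
    (((cAU.symm.pow_pow k p).mul_right (cA'U.symm.pow_pow k q)).mul_left
      ((hF.comm_V_A.pow_pow l p).mul_right (hF.comm_V_A'.pow_pow l q))).mul_left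
      ((comm_V'_A.pow_pow m p).mul_right (comm_V'_A'.pow_pow m q))
  have c2 : ∀ p q : ℕ, ∀ x : ℕ, Commute (F.A ^ p) (F.A' ^ q) := fun p q _ => cAA'.pow_pow p q
  show F.A ^ i.val * F.A' ^ j.val * F.U ^ k.val * F.V ^ l.val * F.V' ^ m.val *
      (F.A ^ i'.val * F.A' ^ j'.val * F.U ^ k'.val * F.V ^ l'.val * F.V' ^ m'.val) = _
  have hswap : ∀ p q p' q' : ℕ, F.A ^ p * F.A' ^ q * (F.A ^ p' * F.A' ^ q') =
      F.A ^ (p + p') * F.A' ^ (q + q') := fun p q p' q' => by
    rw [pow_add, pow_add]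
    calc F.A ^ p * F.A' ^ q * (F.A ^ p' * F.A' ^ q') = F.A ^ p * (F.A' ^ q * F.A ^ p') * F.A' ^ q' := by group
      _ = _ := by rw [(c2 p' q 0).symm.eq]; group
  calc F.A ^ i.val * F.A' ^ j.val * F.U ^ k.val * F.V ^ l.val * F.V' ^ m.val *
        (F.A ^ i'.val * F.A' ^ j'.val * F.U ^ k'.val * F.V ^ l'.val * F.V' ^ m'.val)
      = F.A ^ i.val * F.A' ^ j.val * (F.U ^ k.val * F.V ^ l.val * F.V' ^ m.val *
          (F.A ^ i'.val * F.A' ^ j'.val)) * (F.U ^ k'.val * F.V ^ l'.val * F.V' ^ m'.val) := by group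
    _ = F.A ^ i.val * F.A' ^ j.val * (F.A ^ i'.val * F.A' ^ j'.val) *
          (F.U ^ k.val * F.V ^ l.val * (F.V' ^ m.val * F.U ^ k'.val) * F.V ^ l'.val * F.V' ^ m'.val) := by
        rw [(c1 _ _ _ _ _).eq]; group
    _ = F.A ^ (i.val + i'.val) * F.A' ^ (j.val + j'.val) *
          (F.U ^ k.val * F.V ^ l.val * (F.A ^ 0 * F.A' ^ (m * k').val) *
            (F.U ^ k'.val * (F.V' ^ m.val * F.V ^ l'.val) * F.V' ^ m'.val)) := by
        rw [hswap, mV'U]; simp only [pow_zero, one_mul]; group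
    _ = F.A ^ (i.val + i'.val) * F.A' ^ (j.val + j'.val + (m * k').val) *
          (F.U ^ k.val * (F.V ^ l.val * F.U ^ k'.val) * (F.A ^ (ε * m * l').val * F.A' ^ (ε * m * l').val) *
            (F.V ^ l'.val * F.V' ^ (m.val + m'.val))) := by
        have h := c1 0 (m * k').val k.val l.val 0
        rw [pow_zero F.V', mul_one] at h
        rw [h.eq, mV'V, pow_add F.V']
        simp only [pow_zero, one_mul, pow_add]
        group
    _ = F.A ^ (i.val + i'.val + (l * k').val + (ε * m * l').val) *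
          F.A' ^ (j.val + j'.val + (m * k').val + (ε * m * l').val) *
          (F.U ^ (k.val + k'.val) * F.V ^ (l.val + l'.val) * F.V' ^ (m.val + m'.val)) := by
        rw [mVU]
        have h1 := c1 (l * k').val 0 k.val 0 0
        simp only [pow_zero, mul_one] at h1
        have h2 := c1 (ε * m * l').val (ε * m * l').val (k.val + k'.val) l.val 0
        simp only [pow_zero, mul_one] at h2
        calc F.A ^ (i.val + i'.val) * F.A' ^ (j.val + j'.val + (m * k').val) *
              (F.U ^ k.val * (F.A ^ (l * k').val * F.U ^ k'.val * F.V ^ l.val) *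
                (F.A ^ (ε * m * l').val * F.A' ^ (ε * m * l').val) *
                (F.V ^ l'.val * F.V' ^ (m.val + m'.val)))
            = F.A ^ (i.val + i'.val) * F.A' ^ (j.val + j'.val + (m * k').val) *
              ((F.U ^ k.val * F.A ^ (l * k').val) * F.U ^ k'.val * F.V ^ l.val *
                (F.A ^ (ε * m * l').val * F.A' ^ (ε * m * l').val) *
                (F.V ^ l'.val * F.V' ^ (m.val + m'.val))) := by group
          _ = F.A ^ (i.val + i'.val) * (F.A' ^ (j.val + j'.val + (m * k').val) * F.A ^ (l * k').val) *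
              ((F.U ^ (k.val + k'.val) * F.V ^ l.val *
                (F.A ^ (ε * m * l').val * F.A' ^ (ε * m * l').val)) *
                (F.V ^ l'.val * F.V' ^ (m.val + m'.val))) := by rw [h1.eq, pow_add F.U]; group
          _ = (F.A ^ (i.val + i'.val) * F.A ^ (l * k').val) *
              (F.A' ^ (j.val + j'.val + (m * k').val) * F.A ^ (ε * m * l').val) * F.A' ^ (ε * m * l').val *
              (F.U ^ (k.val + k'.val) * F.V ^ (l.val + l'.val) * F.V' ^ (m.val + m'.val)) := by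
              rw [(c2 (l * k').val (j.val + j'.val + (m * k').val) 0).symm.eq, h2.eq, pow_add F.V]; group
          _ = _ := by
              rw [(c2 (ε * m * l').val (j.val + j'.val + (m * k').val) 0).symm.eq]
              simp only [pow_add]; group
    _ = _ := by
        show _ = F.A ^ (i + i' + l * k' + ε * m * l').val * F.A' ^ (j + j' + m * k' + ε * m * l').val *
          F.U ^ (k + k').val * F.V ^ (l + l').val * F.V' ^ (m + m').val
        simp only [pow_add_fin hAA, pow_add_fin hA'A', pow_add_fin hUU, pow_add_fin hVV, pow_add_fin hV'V',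
          pow_add, mul_assoc]

theorem el_one : F.el e₀ = 1 := by simp [el, e₀]

theorem el_A : F.el tA = F.A := by simp [el, tA]

theorem el_A' : F.el tA' = F.A' := by simp [el, tA']

theorem el_U : F.el (0, 0, 1, 0, 0) = F.U := by simp [el]

theorem el_V : F.el (0, 0, 0, 1, 0) = F.V := by simp [el]

theorem el_V' : F.el (0, 0, 0, 0, 1) = F.V' := by simp [el]

theorem Narrow.el_comm_A [Finite G] (hN : F.Narrow) (t : T5) : Commute (F.el t) F.A := by
  have hF := hN.twisted
  exact (((((Commute.refl F.A).pow_left _).mul_left (comm_A_A'.symm.pow_left _)).mul_left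
    (comm_A_U.symm.pow_left _)).mul_left (hF.comm_V_A.pow_left _)).mul_left (comm_V'_A.pow_left _)

theorem Narrow.el_comm_A' [Finite G] (hN : F.Narrow) (t : T5) : Commute (F.el t) F.A' := by
  have hF := hN.twisted
  exact (((((comm_A_A').pow_left _).mul_left ((Commute.refl F.A').pow_left _)).mul_left
    (comm_A'_U.symm.pow_left _)).mul_left (hF.comm_V_A'.pow_left _)).mul_left (comm_V'_A'.pow_left _)

theorem Narrow.el_injective [Finite G] (hN : F.Narrow) {ε : Fin 2}
    (hε : F.cc = (F.A * F.A') ^ ε.val) : Function.Injective F.el := by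
  have key : ∀ t, F.el t = 1 → t = e₀ := by
    intro t ht
    obtain ⟨i, j, k, l, m⟩ := t
    have hu : tmul ε (i, j, k, l, m) (0, 0, 1, 0, 0) = tmul ε (0, 0, 1, 0, 0) (i, j, k, l, m) → l = 0 ∧ m = 0 := by
      have key : ∀ ε i j k l m : Fin 2,
          tmul ε (i, j, k, l, m) (0, 0, 1, 0, 0) = tmul ε (0, 0, 1, 0, 0) (i, j, k, l, m) → l = 0 ∧ m = 0 := by
        decide +kernel
      exact key ε i j k l m
    -- compare the two sides in the coordinates of `⟨a, a', u⟩`
    have e : F.el (tmul ε (i, j, k, l, m) (0, 0, 1, 0, 0)) = F.el (tmul ε (0, 0, 1, 0, 0) (i, j, k, l, m)) := by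
      rw [← hN.el_mul hε, ← hN.el_mul hε, ht, one_mul, mul_one]
    have hlm : l = 0 ∧ m = 0 := by
      simp only [el, tmul] at e
      simp only [mul_zero, add_zero, zero_add, zero_mul, mul_one] at e
      have hc2 : ∀ x y z : Fin 2, (x + y).val + (x + z).val ≤ 2 := by decide
      clear hc2 hu
      have h1 : F.A ^ (i + l).val * F.A' ^ (j + m).val = F.A ^ i.val * F.A' ^ j.val := by
        rw [add_comm 1 k] at e
        exact mul_right_cancel (mul_right_cancel (mul_right_cancel e))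
      simp only [A, A', ← map_pow, ← map_mul] at h1
      have key : ∀ i j l m : Fin 2, aP ^ (i + l).val * a'P ^ (j + m).val = aP ^ i.val * a'P ^ j.val →
          l = 0 ∧ m = 0 := by decide +kernel
      exact key i j l m (F.inj h1)
    obtain ⟨rfl, rfl⟩ := hlm
    simp only [el, A, A', U, Fin.val_zero, pow_zero, mul_one, ← map_pow, ← map_mul] at ht
    obtain ⟨rfl, rfl, rfl⟩ := two_facts.2.2.2.2.2.2.1 i j k (F.inj (ht.trans (map_one F.i).symm))
    rfl
  intro t s e
  obtain ⟨s', hs, -⟩ := inv_exists ε s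
  have h := key (tmul ε t s') (by rw [← hN.el_mul hε, e, hN.el_mul hε, hs, el_one])
  have hmul : ∀ ε t s s', tmul ε s s' = e₀ → tmul ε t s' = e₀ → t = s := by
    intro ε t s s' h1 h2
    obtain ⟨i, j, k, l, m⟩ := t
    obtain ⟨i₁, j₁, k₁, l₁, m₁⟩ := s
    obtain ⟨i₂, j₂, k₂, l₂, m₂⟩ := s'
    simp only [tmul, e₀, Prod.mk.injEq] at h1 h2 ⊢
    obtain ⟨a1, a2, a3, a4, a5⟩ := h1
    obtain ⟨b1, b2, b3, b4, b5⟩ := h2
    have hc : ∀ x y z : Fin 2, x + z = 0 → y + z = 0 → x = y := by decide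
    obtain rfl := hc _ _ _ b3 a3
    obtain rfl := hc _ _ _ b4 a4
    obtain rfl := hc _ _ _ b5 a5
    refine ⟨?_, ?_, rfl, rfl, rfl⟩
    · have hc' : ∀ x y z w v : Fin 2, x + z + w + v = 0 → y + z + w + v = 0 → x = y := by decide
      exact hc' i i₁ i₂ _ _ b1 a1
    · have hc' : ∀ x y z w v : Fin 2, x + z + w + v = 0 → y + z + w + v = 0 → x = y := by decide
      exact hc' j j₁ j₂ _ _ b2 a2
  exact hmul ε t s s' hs h

/-- `a a'` is not conjugate to `a`. -/
theorem Narrow.not_conj_tau [Finite G] (hN : F.Narrow) (g : G) : g * F.A * g⁻¹ ≠ F.A * F.A' := by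
  classical
  haveI : Fact (Nat.Prime 2) := ⟨Nat.prime_two⟩
  intro hτ
  have hF := hN.twisted
  obtain ⟨ε, hε⟩ := hN.cc_cases
  have hmul := hN.el_mul hε
  have hinj := hN.el_injective hε
  let T : Subgroup G :=
    { carrier := Set.range F.el
      one_mem' := ⟨e₀, el_one⟩
      mul_mem' := fun {x y} ⟨t, ht⟩ ⟨s, hs⟩ => ⟨tmul ε t s, by rw [← hmul, ht, hs]⟩
      inv_mem' := fun {x} ⟨t, ht⟩ => by
        obtain ⟨s, hs, -⟩ := inv_exists ε t
        exact ⟨s, (inv_eq_of_mul_eq_one_right (by rw [← ht, hmul, hs, el_one])).symm⟩ }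
  have hT : ∀ {x : G}, x ∈ T ↔ ∃ t, F.el t = x := Iff.rfl
  have hcardT : Nat.card T = 32 := by
    have hb : Function.Bijective fun t => (⟨F.el t, t, rfl⟩ : T) :=
      ⟨fun t s e => hinj (congrArg Subtype.val e), fun x => by
        obtain ⟨t, ht⟩ := x.2
        exact ⟨t, Subtype.ext ht⟩⟩
    rw [← Nat.card_eq_of_bijective _ hb]
    simp
  have hF' : F.τ F.A = F.A' := hF
  have hT2 : IsPGroup 2 T := IsPGroup.of_card (n := 5) (hcardT.trans (by norm_num))
  -- the swap
  have hτel : ∀ t, F.τ (F.el t) ∈ T := by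
    intro t
    simp only [el, τ_mul, τ_pow, hF', hF.τ_A', τ_U, hF.τ_V, show F.τ F.V' = F.V from rfl]
    have hm : ∀ s, F.el s ∈ T := fun s => ⟨s, rfl⟩
    refine mul_mem (mul_mem (mul_mem (mul_mem (pow_mem ?_ _) (pow_mem ?_ _)) (pow_mem ?_ _))
      (pow_mem ?_ _)) (pow_mem ?_ _)
    · exact el_A' (F := F) ▸ hm _
    · exact el_A (F := F) ▸ hm _
    · exact el_U (F := F) ▸ hm _
    · exact el_V' (F := F) ▸ hm _
    · exact el_V (F := F) ▸ hm _
  have hhA : Commute F.h (F.A * F.A') := by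
    have e : F.τ (F.A * F.A') = F.A * F.A' := by rw [τ_mul, hF, hF.τ_A', comm_A_A'.eq]
    rw [τ_eq, mul_inv_eq_iff_eq_mul] at e
    exact e
  have hh2 : orderOf F.h = 2 := orderOf_eq_prime (by rw [pow_two, F.h_sq]) fun e => by
    have h := F.h_z
    rw [e, one_mul, mul_one] at h
    exact absurd (F.inj h) (by decide +kernel)
  have hhn : zpowers F.h ≤ normalizer (T : Set G) := zpowers_le.2 (Subgroup.mem_normalizer_fintype
    fun x hx => by
      obtain ⟨t, rfl⟩ := hx
      rw [← τ_eq]; exact hτel t)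
  have hR64 : 64 ∣ Nat.card (centralizer ({F.A * F.A'} : Set G)) := by
    have hp := IsPGroup.to_sup_of_normal_right'
      (IsPGroup.of_card (n := 1) (by rw [Nat.card_zpowers, hh2, pow_one]) : IsPGroup 2 (zpowers F.h)) hT2 hhn
    obtain ⟨n, hn⟩ := IsPGroup.iff_card.1 hp
    have hlt : Nat.card T < Nat.card ↥(zpowers F.h ⊔ T) := by
      refine lt_of_le_of_ne (Subgroup.card_le_of_le le_sup_right) fun e => ?_
      have hh : F.h ∈ T := by
        rw [Subgroup.eq_of_le_of_card_ge (le_sup_right : T ≤ zpowers F.h ⊔ T) e.ge]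
        exact mem_sup_left (mem_zpowers _)
      obtain ⟨t, ht⟩ := hh
      have hc := hN.el_comm_A t
      rw [ht] at hc
      have : F.A = F.A' := by
        rw [← hF, τ_eq, hc.eq, mul_inv_cancel_right]
      exact absurd (F.inj this) (by decide +kernel)
    rw [hcardT, hn] at hlt
    refine dvd_trans ?_ (Subgroup.card_dvd_of_le (show zpowers F.h ⊔ T ≤ centralizer ({F.A * F.A'} : Set G) from
      sup_le (zpowers_le.2 (mem_centralizer_singleton_iff.2 hhA.eq)) fun x hx => by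
        obtain ⟨t, rfl⟩ := hx
        exact mem_centralizer_singleton_iff.2 ((hN.el_comm_A t).mul_right (hN.el_comm_A' t)).eq))
    rw [hn, show 64 = 2 ^ 6 by norm_num]
    refine pow_dvd_pow 2 ?_
    by_contra h'
    have := Nat.pow_le_pow_right (show 2 > 0 by norm_num) (Nat.le_of_lt_succ (not_le.1 h'))
    omega
  rw [← hτ, card_centralizer_conj] at hR64
  -- a larger 2-subgroup of `C(a)`
  set C := centralizer ({F.A} : Set G) with hC
  have hTC : T ≤ C := fun x hx => by
    obtain ⟨t, rfl⟩ := hx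
    exact mem_centralizer_singleton_iff.2 (hN.el_comm_A t).eq
  obtain ⟨R, hR⟩ := (hT2.comap_subtype : IsPGroup 2 (T.subgroupOf C)).exists_le_sylow
  have hR64' : 64 ∣ Nat.card R := by
    rw [show 64 = 2 ^ 6 by norm_num] at hR64 ⊢
    rw [R.card_eq_multiplicity]
    exact pow_dvd_pow 2 ((Nat.prime_two.pow_dvd_iff_le_factorization Nat.card_pos.ne').1 hR64)
  set R' : Subgroup G := (R : Subgroup C).map C.subtype with hR'
  have hR'2 : IsPGroup 2 R' := R.2.map _
  have hR'C : R' ≤ C := map_subtype_le _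
  have hTR : T ≤ R' := fun x hx => ⟨⟨x, hTC hx⟩, hR (mem_subgroupOf.2 hx), rfl⟩
  haveI := hR'2.isNilpotent
  have hlt : T.subgroupOf R' < ⊤ := by
    rw [lt_top_iff_ne_top, Ne, subgroupOf_eq_top]
    intro h
    have h1 := Nat.le_of_dvd (by norm_num) (hcardT ▸ Subgroup.card_dvd_of_le h)
    rw [hR', Subgroup.card_map_of_injective C.subtype_injective] at h1
    have := Nat.le_of_dvd Nat.card_pos hR64'
    omega
  obtain ⟨⟨x, hxR⟩, hxn, hxT⟩ := SetLike.exists_of_lt (Group.normalizerCondition_of_isNilpotent _ hlt)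
  replace hxT : x ∉ T := fun h => hxT (mem_subgroupOf.2 h)
  have hxconj : ∀ t, ∃ s, F.el s = x * F.el t * x⁻¹ := fun t => by
    have h := (mem_normalizer_iff.1 hxn ⟨F.el t, hTR ⟨t, rfl⟩⟩).1 (mem_subgroupOf.2 ⟨t, rfl⟩)
    exact mem_subgroupOf.1 h
  have hxA : Commute x F.A := mem_centralizer_singleton_iff.1 (hR'C hxR)
  obtain ⟨tu, htu⟩ := hxconj (0, 0, 1, 0, 0)
  obtain ⟨tv, htv⟩ := hxconj (0, 0, 0, 1, 0)
  obtain ⟨tw, htw⟩ := hxconj (0, 0, 0, 0, 1)
  obtain ⟨ta, hta⟩ := hxconj tA'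
  rw [el_U] at htu
  rw [el_V] at htv
  rw [el_V'] at htw
  rw [el_A'] at hta
  -- the classes
  let CA : G → Prop := fun w => ∃ k : G, k * F.A * k⁻¹ = w
  have hCA : ∀ {w} (k : G), CA w → CA (k * w * k⁻¹) := fun {w} k ⟨k', hk'⟩ =>
    ⟨k * k', by rw [← hk']; group⟩
  have hCAτ : ∀ {w}, CA w → CA (F.τ w) := fun {w} h => by rw [τ_eq]; exact hCA F.h h
  have cA : CA F.A := ⟨1, by group⟩
  have cA' : CA F.A' := hF ▸ hCAτ cA
  have cAA' : CA (F.A * F.A') := ⟨g, hτ⟩
  obtain ⟨n₁, hn₁, hn₁'⟩ := two_facts.2.2.2.2.2.2.2.1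
  obtain ⟨n₂, hn₂, hn₂'⟩ := two_facts.2.2.2.2.2.2.2.2.1
  have hcn₁ : ∀ n : P35, n * aP = aP * n → F.i n * F.A * (F.i n)⁻¹ = F.A := fun n hn => by
    rw [show F.i n * F.A = F.A * F.i n from (F.commute_i hn).eq, mul_inv_cancel_right]
  have cV' : CA F.V' := by
    have h := hCA (F.i n₁) cA'
    rwa [A', ← map_conj, hn₁'] at h
  have cV'A' : CA (F.V' * F.A') := by
    have h := hCA (F.i n₂) cA'
    rwa [A', ← map_conj, hn₂', map_mul] at h
  have cAV' : CA (F.A * F.V') := by
    have h := hCA (F.i n₁) cAA'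
    rwa [← conj_mul, hcn₁ n₁ hn₁, A', ← map_conj, hn₁'] at h
  have cAV'A' : CA (F.A * (F.V' * F.A')) := by
    have h := hCA (F.i n₂) cAA'
    rwa [← conj_mul, hcn₁ n₂ hn₂, A', ← map_conj, hn₂', map_mul] at h
  have cCU : ∀ {w : G}, CA w → ∀ k : G, k * F.U * k⁻¹ ≠ w := by
    rintro w ⟨k', hk'⟩ k e
    refine F.A'_not_conj_U (F.h * k'⁻¹ * k) ?_
    rw [← hF, τ_eq, show F.A = k'⁻¹ * w * k' by rw [← hk']; group, ← e]
    group
  -- elements outside `u`'s class
  have hnotU : ∀ t, OkU t ∨ t.2.2 = (0, 0, 0) ∨ CA (F.el t) := by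
    rintro ⟨i, j, k, l, m⟩
    by_cases hk : k = 1
    · exact Or.inl (Or.inl hk)
    obtain rfl : k = 0 := by omega
    fin_cases l <;> fin_cases m
    · exact Or.inr (Or.inl rfl)
    · right; right
      simp only [el, Fin.zero_eta, Fin.mk_one, Fin.val_zero, Fin.val_one, pow_zero, pow_one, mul_one]
      fin_cases i <;> fin_cases j <;>
        simp only [Fin.zero_eta, Fin.mk_one, Fin.val_zero, Fin.val_one, pow_zero, pow_one, one_mul, mul_one]
      · exact cV'
      · rw [← comm_V'_A'.eq]; exact cV'A'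
      · exact cAV'
      · rw [mul_assoc, ← comm_V'_A'.eq]; exact cAV'A'
    · right; right
      simp only [el, Fin.zero_eta, Fin.mk_one, Fin.val_zero, Fin.val_one, pow_zero, pow_one, mul_one]
      fin_cases i <;> fin_cases j <;>
        simp only [Fin.zero_eta, Fin.mk_one, Fin.val_zero, Fin.val_one, pow_zero, pow_one, one_mul, mul_one]
      · exact hCAτ cV'
      · have h := hCAτ cAV'
        rwa [τ_mul, hF] at h
      · have h := hCAτ cV'A'
        rwa [τ_mul, hF.τ_A', show F.τ F.V' = F.V from rfl, hF.comm_V_A.eq] at h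
      · have h := hCAτ cAV'A'
        rw [τ_mul, hF, τ_mul, hF.τ_A', show F.τ F.V' = F.V from rfl, hF.comm_V_A.eq, ← mul_assoc,
          ← comm_A_A'.eq] at h
        exact h
    · exact Or.inl (Or.inr ⟨rfl, rfl⟩)
  have hokU : OkU tu := by
    rcases hnotU tu with h | h | h
    · exact h
    · exfalso
      obtain ⟨i, j, k, l, m⟩ := tu
      simp only [Prod.mk.injEq] at h
      obtain ⟨rfl, rfl, rfl⟩ := h
      rcases (show (i = 0 ∧ j = 0) ∨ (i = 1 ∧ j = 0) ∨ (i = 0 ∧ j = 1) ∨ (i = 1 ∧ j = 1) by omega) with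
        ⟨rfl, rfl⟩ | ⟨rfl, rfl⟩ | ⟨rfl, rfl⟩ | ⟨rfl, rfl⟩
      · rw [show ((0 : Fin 2), (0 : Fin 2), (0 : Fin 2), (0 : Fin 2), (0 : Fin 2)) = e₀ from rfl, el_one,
          eq_comm, mul_inv_eq_one, mul_eq_left] at htu
        exact ord_facts.1 (F.inj (htu.trans (map_one F.i).symm))
      · exact cCU cA x (htu.symm.trans el_A)
      · exact cCU cA' x (htu.symm.trans el_A')
      · exact cCU cAA' x (htu.symm.trans (by simp [el]))
    · exact absurd htu.symm (cCU h x)
  have hokA : OkA tw := by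
    by_contra hne
    simp only [OkA, not_or] at hne
    obtain ⟨i, j, k, l, m⟩ := tw
    obtain rfl : k = 1 := by simp only [] at hne; omega
    obtain rfl : l = 0 := by simp only [] at hne; omega
    obtain rfl : m = 0 := by simp only [] at hne; omega
    have hconj : ∀ i j : Fin 2, ∃ k : G, k * F.U * k⁻¹ = F.el (i, j, 1, 0, 0) := by
      intro i j
      obtain ⟨k, hk, hka⟩ := two_facts.2.2.2.2.2.2.2.2.2
      have h1 : F.τ (F.A * F.U) = F.B := F.τ_AU_of_twisted hF
      have hB : F.i k * F.U * (F.i k)⁻¹ = F.B := by rw [U, B, ← map_conj, hk]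
      have hBA : F.A' * F.U = F.B := by rw [← hF, ← F.τ_U, ← τ_mul, h1]
      fin_cases i <;> fin_cases j <;>
        simp only [el, Fin.zero_eta, Fin.mk_one, Fin.val_zero, Fin.val_one, pow_zero, pow_one, one_mul, mul_one]
      · exact ⟨1, by group⟩
      · exact ⟨F.i k, hB.trans hBA.symm⟩
      · refine ⟨F.h * F.i k, ?_⟩
        rw [← F.τ_τ (F.A * F.U), h1, ← hB, τ_eq]
        group
      · have hAU : ∃ k₂ : G, k₂ * F.U * k₂⁻¹ = F.A * F.U := ⟨F.h * F.i k, by
          rw [← F.τ_τ (F.A * F.U), h1, ← hB, τ_eq]; group⟩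
        obtain ⟨k₂, hk₂⟩ := hAU
        refine ⟨F.i k * k₂, ?_⟩
        rw [show F.i k * k₂ * F.U * (F.i k * k₂)⁻¹ = F.i k * (k₂ * F.U * k₂⁻¹) * (F.i k)⁻¹ by group, hk₂,
          ← conj_mul, hcn₁ k hka, hB, ← hBA, mul_assoc]
    obtain ⟨k, hk⟩ := hconj i j
    refine cCU cV' (x⁻¹ * k) ?_
    calc x⁻¹ * k * F.U * (x⁻¹ * k)⁻¹ = x⁻¹ * (k * F.U * k⁻¹) * x := by group
      _ = F.V' := by rw [hk, htw]; group
  have hsq : ∀ {t : T5} {w : G}, F.el t = x * w * x⁻¹ → w * w = 1 → tmul ε t t = e₀ := fun {t w} e hw =>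
    hinj (by rw [← hmul, e, conj_mul, hw, mul_one, mul_inv_cancel, el_one])
  have hcom : ∀ {t s : T5} {v w : G}, F.el t = x * v * x⁻¹ → F.el s = x * w * x⁻¹ →
      F.el (com ε t s) = x * (v * w * v * w) * x⁻¹ := fun {t s v w} e e' => by
    rw [com, ← hmul, ← hmul, ← hmul, e, e']
    group
  have hxAA : x * F.A * x⁻¹ = F.A := by rw [hxA.eq, mul_inv_cancel_right]
  have hUU := mul_self F.U_ord
  have hVV := mul_self F.V_ord
  have hV'V' := mul_self F.V'_ord
  have hUV : F.U * F.V * F.U * F.V = F.A := by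
    rw [hF.U_V_U, hF.comm_V_A.eq, mul_assoc, hVV, mul_one]
  have hUV' : F.U * F.V' * F.U * F.V' = F.A' := by
    rw [U_V'_U, comm_V'_A'.eq, mul_assoc, hV'V', mul_one]
  have htaeq : com ε tu tw = ta := hinj (by rw [hcom htu htw, hUV', hta])
  have hVV'' : F.V * F.V' * F.V * F.V' = (F.A * F.A') ^ ε.val := by
    have e : F.V * F.V' * F.V * F.V' = F.cc⁻¹ := by
      rw [cc, mul_inv_rev, mul_inv_rev, mul_inv_rev, inv_eq F.V_ord, inv_eq F.V'_ord]; group
    rw [e, hε, ← inv_pow, inv_eq_of_mul_eq_one_right]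
    rw [A, A', ← map_mul, ← map_mul,
      show aP * a'P * (aP * a'P) = (1 : P35) by decide +kernel, map_one]
  have hc3 : F.el (com ε tv tw) = (F.A * F.el ta) ^ ε.val := by
    rw [hcom htv htw, hVV'', ← conj_pow, ← conj_mul, hxAA, ← hta]
  have htaA : F.el (tmul ε tA ta) = F.A * F.el ta := by rw [← hmul, el_A]
  rcases classify ε tu hokU (hsq htu hUU) tv (hsq htv hVV)
      (hinj (by rw [hcom htu htv, hUV, hxAA, el_A])) tw hokA (hsq htw hV'V') (fun e => by
        have h := congrArg F.el (htaeq.symm.trans e)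
        rw [hta, el_one, mul_inv_eq_one, mul_eq_left] at h
        exact ord_facts.2.2.2.1 (F.inj (h.trans (map_one F.i).symm))) (fun e => by
        have h := congrArg F.el (htaeq.symm.trans e)
        rw [hta, el_A] at h
        have h' : x * F.A' * x⁻¹ = x * F.A * x⁻¹ := h.trans hxAA.symm
        exact absurd (F.inj (mul_left_cancel (mul_right_cancel h'))) (by decide +kernel))
      (hinj (by
        rw [hc3, ← htaA, htaeq]
        fin_cases ε
        · simp [el]
        · simp)) with ⟨hu3, hta'⟩ | ⟨-, hta', htv3⟩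
  · -- `x` lies in `T`
    obtain ⟨i, j, k, l, m⟩ := tu
    simp only [Prod.mk.injEq] at hu3
    obtain ⟨rfl, rfl, rfl⟩ := hu3
    have key : ∀ ε i j : Fin 2,
        tmul ε (tmul ε (0, 0, 0, i, j) (i, j, 1, 0, 0)) (0, 0, 0, i, j) =
          tmul ε (tmul ε (0, 0, 0, i, j) (0, 0, 0, i, j)) (0, 0, 1, 0, 0) := by decide +kernel
    set w := F.el (0, 0, 0, i, j) with hw
    have hwT : w ∈ T := ⟨_, rfl⟩
    have hwu : w * (x * F.U * x⁻¹) * w⁻¹ = F.U := by
      have e := congrArg F.el (key ε i j)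
      simp only [← hmul, ← hw, htu, el_U] at e
      have hw4 : ∀ ε i j : Fin 2, tmul ε (tmul ε (0, 0, 0, i, j) (0, 0, 0, i, j)) (0, 0, 1, 0, 0) =
          tmul ε (0, 0, 1, 0, 0) (tmul ε (0, 0, 0, i, j) (0, 0, 0, i, j)) := by decide +kernel
      have e4 := congrArg F.el (hw4 ε i j)
      simp only [← hmul, ← hw, el_U] at e4
      rw [e4] at e
      calc w * (x * F.U * x⁻¹) * w⁻¹ = w * (x * F.U * x⁻¹) * w * (w * w)⁻¹ := by group
        _ = F.U := by rw [e, mul_inv_cancel_right]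
    set y := w * x with hy
    have hyU : Commute y F.U := by
      rw [show w * (x * F.U * x⁻¹) * w⁻¹ = y * F.U * y⁻¹ by rw [hy]; group, mul_inv_eq_iff_eq_mul] at hwu
      exact hwu
    have hyA : Commute y F.A := (hN.el_comm_A _).mul_left hxA
    have hyA' : Commute y F.A' ∨ y * F.A' * y⁻¹ = F.A * F.A' := by
      have e : y * F.A' * y⁻¹ = w * F.el ta * w⁻¹ := by rw [hy, hta]; group
      rw [← htaeq] at e
      rcases hta' with h | h <;> rw [h] at e
      · left
        rw [el_A', (hN.el_comm_A' _).eq, mul_inv_cancel_right, mul_inv_eq_iff_eq_mul] at e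
        exact e
      · right
        rw [← hmul, el_A, el_A', ((hN.el_comm_A _).mul_right (hN.el_comm_A' _)).eq, mul_inv_cancel_right] at e
        exact e
    rcases F.normal_D (hN.normal y hyU) with ⟨l, hl⟩ | ⟨l, hl⟩
    · rw [← hl] at hyU hyA hyA'
      rcases hyA' with h | h
      · obtain ⟨p, q, r, hpqr⟩ := hN.eq_E hyA h hyU
        apply hxT
        have hyT : y ∈ T := by
          refine ⟨(p, q, r, 0, 0), ?_⟩
          rw [← hl, hpqr]
          simp [el]
        have := mul_mem (inv_mem hwT) hyT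
        rwa [hy, inv_mul_cancel_left] at this
      · refine (conj_aP l (F.eq_of_commute hyU) (F.eq_of_commute hyA)).2 (F.inj ?_)
        rw [map_conj, map_mul]; exact h
    · rw [← hl] at hyA
      refine (fst_ne 1 l).2 (F.inj ?_)
      have h : F.τ (F.i l * F.A * (F.i l)⁻¹) = F.A := by
        rw [τ_eq]
        calc F.h * (F.i l * F.A * (F.i l)⁻¹) * F.h⁻¹ = F.h * F.i l * F.A * (F.h * F.i l)⁻¹ := by group
          _ = F.A := by rw [hyA.eq, mul_inv_cancel_right]
      rw [map_conj]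
      have h' := congrArg F.τ h
      rw [τ_τ] at h'
      exact h'.trans hF
  · -- `x` enlarges the 2-part of `C(a, a')`
    have hxA' : Commute x F.A' := by
      rw [← htaeq, hta', el_A', eq_comm, mul_inv_eq_iff_eq_mul] at hta
      exact hta
    set X := centralizer ({F.A, F.A'} : Set G) with hX
    have hXmem : ∀ {w : G}, w ∈ X ↔ Commute w F.A ∧ Commute w F.A' := fun {w} => by
      rw [hX, mem_centralizer_iff]
      simp only [Set.mem_insert_iff, Set.mem_singleton_iff, forall_eq_or_imp, forall_eq]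
      exact ⟨fun ⟨h1, h2⟩ => ⟨h1.symm, h2.symm⟩, fun ⟨h1, h2⟩ => ⟨h1.eq.symm, h2.eq.symm⟩⟩
    have hX64 : 64 ∣ Nat.card X := by
      obtain ⟨n, hn⟩ := IsPGroup.iff_card.1 (hR'2.to_inf_right (H := X))
      have hle : T ≤ X ⊓ R' := le_inf (fun w hw => by
        obtain ⟨t, rfl⟩ := hw
        exact hXmem.2 ⟨hN.el_comm_A t, hN.el_comm_A' t⟩) hTR
      have hlt : Nat.card T < Nat.card ↥(X ⊓ R') := by
        refine lt_of_le_of_ne (Subgroup.card_le_of_le hle) fun e => hxT ?_
        rw [Subgroup.eq_of_le_of_card_ge hle e.ge]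
        exact ⟨hXmem.2 ⟨hxA, hxA'⟩, hxR⟩
      rw [hcardT, hn] at hlt
      refine dvd_trans ?_ (Subgroup.card_dvd_of_le (inf_le_left : X ⊓ R' ≤ X))
      rw [hn, show 64 = 2 ^ 6 by norm_num]
      refine pow_dvd_pow 2 ?_
      by_contra h'
      have := Nat.pow_le_pow_right (show 2 > 0 by norm_num) (Nat.le_of_lt_succ (not_le.1 h'))
      omega
    obtain ⟨i, j, k, l, m⟩ := tv
    simp only [Prod.mk.injEq] at htv3
    obtain ⟨rfl, rfl, rfl⟩ := htv3
    obtain ⟨n, hn, hn'⟩ : ∃ n : P35, n * aP = aP * n ∧ n * a'P * n⁻¹ = a'P ^ j.val * vP := by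
      fin_cases j
      · exact ⟨n₁, hn₁, by simp [hn₁']⟩
      · exact ⟨n₂, hn₂, by simp only [Fin.mk_one, Fin.val_one, pow_one, hn₂']; exact two_facts.2.2.2.1⟩
    set g₂ := (F.i n)⁻¹ * x with hg₂
    have hg₂A : Commute g₂ F.A := (F.commute_i hn : Commute (F.i n) F.A).inv_left.mul_left hxA
    have hg₂V : g₂ * F.V * g₂⁻¹ = F.A ^ i.val * F.A' := by
      have e : F.el (i, j, 0, 0, 1) = F.A ^ i.val * (F.i n * F.A' * (F.i n)⁻¹) := by
        rw [A', ← map_conj, hn', map_mul, map_pow]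
        simp [el, mul_assoc]
        rfl
      calc g₂ * F.V * g₂⁻¹ = (F.i n)⁻¹ * (x * F.V * x⁻¹) * F.i n := by rw [hg₂]; group
        _ = (F.i n)⁻¹ * F.A ^ i.val * (F.i n * F.A' * (F.i n)⁻¹) * F.i n := by rw [← htv, e]; group
        _ = F.A ^ i.val * F.A' := by
          rw [((show Commute (F.i n)⁻¹ F.A from (F.commute_i hn).inv_left).pow_right i.val).eq]; group
    have hXW : X = F.W.map (MulAut.conj g₂).toMonoidHom := by
      have hA2 : F.A * F.A = 1 := mul_self F.A_ord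
      ext w
      rw [Subgroup.mem_map_equiv, F.mem_W, hXmem, MulAut.conj_symm_apply]
      have e1 : Commute (g₂⁻¹ * w * g₂) F.A ↔ Commute w F.A := by
        rw [← Commute.conj_iff g₂, show g₂ * (g₂⁻¹ * w * g₂) * g₂⁻¹ = w by group,
          show g₂ * F.A * g₂⁻¹ = F.A by rw [hg₂A.eq, mul_inv_cancel_right]]
      have e2 : Commute (g₂⁻¹ * w * g₂) F.V ↔ Commute w (F.A ^ i.val * F.A') := by
        rw [← Commute.conj_iff g₂, show g₂ * (g₂⁻¹ * w * g₂) * g₂⁻¹ = w by group, hg₂V]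
      rw [e1, e2]
      constructor
      · rintro ⟨h1, h2⟩; exact ⟨h1, (h1.pow_right _).mul_right h2⟩
      · rintro ⟨h1, h2⟩
        refine ⟨h1, ?_⟩
        have h3 := (h1.pow_right i.val).inv_right.mul_right h2
        rwa [inv_mul_cancel_left] at h3
    rw [hXW, Subgroup.card_map_of_injective (MulAut.conj g₂).injective] at hX64
    have := hX64.trans (F.card_W_dvd hF)
    norm_num at this

/-- `v` commutes with `v'`. -/
theorem Narrow.commute_V_V' [Finite G] (hN : F.Narrow) : Commute F.V F.V' := by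
  have hF := hN.twisted
  have hVV := mul_self F.V_ord
  have hV'V' := mul_self F.V'_ord
  obtain ⟨ε, hε⟩ := hN.cc_cases
  have h2 : F.V' * F.V = F.cc * (F.V * F.V') := by
    rw [cc]; simp only [mul_assoc]; rw [← mul_assoc F.V F.V, hVV, one_mul, hV'V', mul_one]
  fin_cases ε
  · rw [Fin.zero_eta, Fin.val_zero, pow_zero] at hε
    rw [hε, one_mul] at h2
    exact h2.symm
  exfalso
  rw [Fin.mk_one, Fin.val_one, pow_one] at hε
  -- `a a' v` is conjugate to `v`, hence `a a'` to `a`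
  have hv : F.V' * F.V * F.V'⁻¹ = F.A * F.A' * F.V := by
    rw [inv_eq F.V'_ord, ← hε, cc, mul_assoc (F.V' * F.V * F.V'), hVV, mul_one]
  obtain ⟨n, hn, hn'⟩ := two_facts.2.2.2.2.2.2.2.2.1
  obtain ⟨n₁, hn₁, hn₁'⟩ := two_facts.2.2.2.2.2.2.2.1
  have hc : ∀ n : P35, n * aP = aP * n → F.i n * F.A * (F.i n)⁻¹ = F.A := fun n hn => by
    rw [show F.i n * F.A = F.A * F.i n from (F.commute_i hn).eq, mul_inv_cancel_right]
  have e1 : F.i n * (F.A * F.A') * (F.i n)⁻¹ = F.A * (F.V' * F.A') := by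
    rw [← conj_mul, hc n hn, A', ← map_conj, hn', map_mul]; rfl
  have e2 : F.τ (F.A * (F.V' * F.A')) = F.A * F.A' * F.V := by
    rw [τ_mul, hF, τ_mul, hF.τ_A', show F.τ F.V' = F.V from rfl, hF.comm_V_A.eq, ← mul_assoc,
      ← comm_A_A'.eq]
  have e3 : F.i n₁ * F.A' * (F.i n₁)⁻¹ = F.V' := by rw [A', ← map_conj, hn₁']; rfl
  refine hN.not_conj_tau ((F.h * F.i n)⁻¹ * (F.V' * F.h * F.i n₁ * F.h)) ?_
  have e4 : F.h * F.i n₁ * F.h * F.A * (F.h * F.i n₁ * F.h)⁻¹ = F.V := by
    rw [V, ← e3, ← hF, τ_eq, τ_eq]; group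
  calc (F.h * F.i n)⁻¹ * (F.V' * F.h * F.i n₁ * F.h) * F.A *
        ((F.h * F.i n)⁻¹ * (F.V' * F.h * F.i n₁ * F.h))⁻¹
      = (F.h * F.i n)⁻¹ * (F.V' * (F.h * F.i n₁ * F.h * F.A * (F.h * F.i n₁ * F.h)⁻¹) * F.V'⁻¹) *
          (F.h * F.i n) := by group
    _ = (F.h * F.i n)⁻¹ * F.τ (F.i n * (F.A * F.A') * (F.i n)⁻¹) * (F.h * F.i n) := by
        rw [e4, hv, e1, e2]
    _ = F.A * F.A' := by rw [τ_eq]; group

end Frame

end CfsgLib.ThreeSym
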